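import Cfsg.Agent.Lib.GeomClasses.UnitFour.OrthRat

/-!
Orthogonal subfield groups in the special unitary group of dimension four, odd characteristic.
-/

set_option autoImplicit false
set_option linter.unusedSectionVars false

namespace CfsgLib.GeomClasses.UnitFourOrth

open Matrix
open CfsgLib.GeomClasses.SympRoot (Rv ratScalar)
open CfsgLib.GeomClasses.UnitOrth (root siegel bar up up_rv exists_down up_add up_smul up_zero up_injective
  root_mulVec root_mul root_zero root_inv root_conj root_scale root_shift root_isometry mem_ratScalar_of_lines')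

variable {n : ℕ} {F : Type*} [Field F] [Fintype F] {σ : F ≃+* F} {f : (Fin n → F) → (Fin n → F) → F}
  {F₀ : Subfield F}

/-- An overgroup of the rational isometries of determinant one. -/
structure Over (σ : F ≃+* F) (f : (Fin n → F) → (Fin n → F) → F) (F₀ : Subfield F) (θ : F)
    (M : Subgroup (GL (Fin n) F)) : Prop extends Setting σ f F₀ where
  isometry : ∀ g ∈ M, Symp.IsIsometry f g
  so_mem : ∀ g : GL (Fin n) F, Symp.IsIsometry f g → g ∈ Cfsg.Geo.specialLinear (Fin n) F →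
    (∀ x, Rv F₀ x → Rv F₀ ((g : Matrix (Fin n) (Fin n) F) *ᵥ x)) → g ∈ M
  theta_ne : θ ≠ 0
  theta : σ θ = -θ

variable {θ : F} {M : Subgroup (GL (Fin n) F)} (O : Over σ f F₀ θ M)
include O

theorem theta_notMem : θ ∉ F₀ := fun h => by
  have := (O.fixed θ).2 h
  rw [O.theta] at this
  exact mul_ne_zero O.two O.theta_ne (by linear_combination -this)

theorem two_mem : (2 : F) ∈ F₀ := ofNat_mem F₀ 2

theorem delta_mem : θ * θ ∈ F₀ := (O.fixed _).1 (by rw [map_mul, O.theta]; ring)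

theorem theta_indep {s t : F} (hs : s ∈ F₀) (ht : t ∈ F₀) (h : s + θ * t = 0) : s = 0 ∧ t = 0 := by
  by_cases ht0 : t = 0
  · subst ht0
    exact ⟨by simpa using h, rfl⟩
  exfalso
  refine theta_notMem O ?_
  rw [show θ = -s / t by rw [eq_div_iff ht0]; linear_combination h]
  exact F₀.div_mem (F₀.neg_mem hs) ht

theorem decomp (x : Fin n → F) : ∃ a b, Rv F₀ a ∧ Rv F₀ b ∧ x = a + θ • b := by
  have h2 := O.two
  have hθ := O.theta_ne
  have hσ2 : ∀ a, σ (σ a) = a := O.unit.involutive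
  refine ⟨fun i => (x i + σ (x i)) / 2, fun i => (x i - σ (x i)) / (2 * θ), fun i => (O.fixed _).1 ?_,
    fun i => (O.fixed _).1 ?_, funext fun i => ?_⟩
  · rw [map_div₀, map_add, hσ2, show σ (2 : F) = 2 from map_ofNat σ 2, add_comm]
  · rw [map_div₀, map_sub, map_mul, hσ2, show σ (2 : F) = 2 from map_ofNat σ 2, O.theta, mul_neg, div_neg,
      ← neg_div, neg_sub]
  · simp only [Pi.add_apply, Pi.smul_apply, smul_eq_mul]
    field_simp
    ring

theorem form_self {a b : Fin n → F} (ha : Rv F₀ a) (hb : Rv F₀ b) (h : f (a + θ • b) (a + θ • b) = 0) :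
    f a a = θ * θ * f b b := by
  have hf := O.unit
  simp only [Unit.add_left hf, Unit.add_right hf, Unit.smul_left hf, Unit.smul_right hf, O.theta,
    O.toSetting.symm hb ha] at h
  linear_combination h

theorem det_ne {a b : Fin n → F} (ha : Rv F₀ a) (hb : Rv F₀ b) (h : f (a + θ • b) (a + θ • b) = 0)
    (hne : f a b ≠ 0 ∨ f b b ≠ 0) : f a a * f b b - f a b * f a b ≠ 0 := by
  intro h0
  rw [form_self O ha hb h] at h0
  have e : (f a b + θ * f b b) * (f a b + θ * -(f b b)) = 0 := by linear_combination -h0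
  rcases mul_eq_zero.1 e with e | e
  · obtain ⟨e1, e2⟩ := theta_indep O (O.rat a b ha hb) (O.rat b b hb hb) e
    exact hne.elim (fun h => h e1) fun h => h e2
  · obtain ⟨e1, e2⟩ := theta_indep O (O.rat a b ha hb) (F₀.neg_mem (O.rat b b hb hb)) e
    exact hne.elim (fun h => h e1) fun h => h (neg_eq_zero.1 e2)

theorem Over.stable_conj {x : F} (hx : x ∈ F₀) : σ x ∈ F₀ := by
  rwa [(O.fixed x).2 hx]

theorem bar_rv {x : Fin n → F} (hx : Rv F₀ x) : bar σ x = x := funext fun i => (O.fixed _).2 (hx i)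

theorem bar_add (x y : Fin n → F) : bar σ (x + y) = bar σ x + bar σ y := funext fun i => by simp [bar]

theorem bar_smul (c : F) (x : Fin n → F) : bar σ (c • x) = σ c • bar σ x := funext fun i => by simp [bar]

theorem siegel_mulVec {u w : Fin n → F} (hu : f u u = 0) (huw : f u w = 0) (x : Fin n → F) :
    (siegel f u w : Matrix (Fin n) (Fin n) F) *ᵥ x = x + f x u • w + (- (f w w / 2) * f x u - f x w) • u :=
  root_mulVec O.unit hu huw _ x

theorem siegel_mem {u w : Fin n → F} (hu : Rv F₀ u) (hw : Rv F₀ w) (h : f u u = 0) (huw : f u w = 0) :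
    siegel f u w ∈ M := by
  haveI : NeZero (2 : F) := ⟨O.two⟩
  refine O.so_mem _ (root_isometry O.unit h huw ?_) (mul_mem (tv_mem_specialLinear _ _) (tv_mem_specialLinear _ _))
    fun x hx => ?_
  · rw [map_neg, map_div₀, rat_coe O.toSetting hw hw, show σ (2 : F) = 2 from map_ofNat σ 2, ← neg_add, add_halves]
  · rw [siegel_mulVec O h huw]
    exact (hx.add (hw.smul (O.rat _ _ hx hu))).add (hu.smul (F₀.sub_mem (F₀.mul_mem
      (F₀.neg_mem (F₀.div_mem (O.rat _ _ hw hw) (two_mem O))) (O.rat _ _ hx hu)) (O.rat _ _ hx hw)))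

/-- A product of two rational reflections lies in the group. -/
theorem refl_pair_mem {d e : Fin n → F} (hd : Rv F₀ d) (he : Rv F₀ e) (hdd : f d d ≠ 0) (hee : f e e ≠ 0) :
    refl f d * refl f e ∈ M := by
  have S := O.toSetting
  refine O.so_mem _ (fun x y => ?_) ?_ fun x hx => ?_
  · rw [gl_mul_mulVec, gl_mul_mulVec, refl_isometry S hd hdd, refl_isometry S he hee]
  · rw [mem_specialLinear, Units.val_mul, det_mul, refl_val S hdd, refl_val S hee, refl_det S hdd, refl_det S hee]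
    ring
  · have key : ∀ {d : Fin n → F}, Rv F₀ d → f d d ≠ 0 → ∀ {x : Fin n → F}, Rv F₀ x →
        Rv F₀ ((refl f d : Matrix (Fin n) (Fin n) F) *ᵥ x) := fun {d} hd hdd {x} hx => by
      rw [refl_mulVec S hdd]
      exact hx.add (hd.smul (F₀.mul_mem (F₀.div_mem (F₀.neg_mem (two_mem O)) (O.rat _ _ hd hd)) (O.rat _ _ hx hd)))
    rw [gl_mul_mulVec]
    exact key hd hdd (key he hee hx)

/-- A rotation of the second plane of a frame. -/
theorem exists_rot {a b y₁ y₂ : Fin n → F} (Φ : Frame f F₀ a b y₁ y₂) :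
    ∃ g ∈ M, (g : Matrix (Fin n) (Fin n) F) *ᵥ a = a ∧ (g : Matrix (Fin n) (Fin n) F) *ᵥ b = b ∧
      ∃ A B, B ≠ 0 ∧ A ∈ F₀ ∧ B ∈ F₀ ∧ (g : Matrix (Fin n) (Fin n) F) *ᵥ y₁ = A • y₁ + B • y₂ ∧
        (g : Matrix (Fin n) (Fin n) F) *ᵥ y₂ = (-(B * f y₂ y₂ / f y₁ y₁)) • y₁ + A • y₂ := by
  have S := O.toSetting
  have hf := O.unit
  obtain ⟨s1, s2, s3, s4, s5, -⟩ := Φ.swap' S
  have hn1 := Φ.n1
  obtain ⟨t, htm, ht0, htN⟩ : ∃ t ∈ F₀, t ≠ 0 ∧ f y₁ y₁ + t * t * f y₂ y₂ ≠ 0 := by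
    obtain ⟨t, htm, ht0, ht1⟩ := O.five
    by_cases h1 : f y₁ y₁ + 1 * 1 * f y₂ y₂ = 0
    · refine ⟨t, htm, ht0, fun h2 => ht1 (mul_right_cancel₀ Φ.n2 ?_)⟩
      linear_combination h2 - h1
    · exact ⟨1, F₀.one_mem, one_ne_zero, h1⟩
  set d := y₁ + t • y₂ with hd
  have hdr : Rv F₀ d := Φ.r1.add (Φ.r2.smul htm)
  set N := f y₁ y₁ + t * t * f y₂ y₂ with hN
  have hσt : σ t = t := (O.fixed t).2 htm
  have hdd : f d d = N := by
    simp [hd, hN, Unit.add_left hf, Unit.add_right hf, Unit.smul_left hf, Unit.smul_right hf, hσt, Φ.e21, s5]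
    ring
  have hdne : f d d ≠ 0 := by rw [hdd]; exact htN
  have hNm : N ∈ F₀ := hdd ▸ O.rat d d hdr hdr
  have fd : ∀ x, f x d = f x y₁ + t * f x y₂ := fun x => by
    rw [hd, Unit.add_right hf, Unit.smul_right hf, hσt]
  refine ⟨refl f y₁ * refl f d, refl_pair_mem O Φ.r1 hdr Φ.n1 hdne, ?_, ?_,
    -(N - 2 * f y₁ y₁) / N, -(2 * t * f y₁ y₁) / N, ?_, ?_, ?_, ?_, ?_⟩
  · rw [gl_mul_mulVec, refl_mulVec S hdne, hdd, fd, s1, s3]
    simp [refl_mulVec S Φ.n1, s1]
  · rw [gl_mul_mulVec, refl_mulVec S hdne, hdd, fd, s2, s4]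
    simp [refl_mulVec S Φ.n1, s2]
  · exact div_ne_zero (neg_ne_zero.2 (mul_ne_zero (mul_ne_zero O.two ht0) Φ.n1)) htN
  · exact F₀.div_mem (F₀.neg_mem (F₀.sub_mem hNm (F₀.mul_mem (two_mem O) (O.rat _ _ Φ.r1 Φ.r1)))) hNm
  · exact F₀.div_mem (F₀.neg_mem (F₀.mul_mem (F₀.mul_mem (two_mem O) htm) (O.rat _ _ Φ.r1 Φ.r1))) hNm
  · rw [gl_mul_mulVec, refl_mulVec S hdne, refl_mulVec S Φ.n1, hdd, fd, s5, hd]
    simp only [Unit.add_left hf, Unit.smul_left hf, Φ.e21]
    match_scalars <;> field_simp <;> ring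
  · rw [gl_mul_mulVec, refl_mulVec S hdne, refl_mulVec S Φ.n1, hdd, fd, Φ.e21, hd]
    simp only [Unit.add_left hf, Unit.smul_left hf, Φ.e21]
    match_scalars <;> field_simp <;> (try rw [hN]) <;> ring

/-- The element changing the sign on the second plane of a frame. -/
theorem exists_neg {a b y₁ y₂ : Fin n → F} (Φ : Frame f F₀ a b y₁ y₂) :
    ∃ g ∈ M, (g : Matrix (Fin n) (Fin n) F) *ᵥ a = a ∧ (g : Matrix (Fin n) (Fin n) F) *ᵥ b = b ∧
      (g : Matrix (Fin n) (Fin n) F) *ᵥ y₁ = -y₁ ∧ (g : Matrix (Fin n) (Fin n) F) *ᵥ y₂ = -y₂ := by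
  have S := O.toSetting
  obtain ⟨s1, s2, s3, s4, s5, -⟩ := Φ.swap' S
  have hn1 := Φ.n1
  have hn2 := Φ.n2
  refine ⟨refl f y₁ * refl f y₂, refl_pair_mem O Φ.r1 Φ.r2 Φ.n1 Φ.n2, ?_, ?_, ?_, ?_⟩
  · rw [gl_mul_mulVec, refl_mulVec S Φ.n2, s3]; simp [refl_mulVec S Φ.n1, s1]
  · rw [gl_mul_mulVec, refl_mulVec S Φ.n2, s4]; simp [refl_mulVec S Φ.n1, s2]
  · rw [gl_mul_mulVec, refl_mulVec S Φ.n2, s5, mul_zero, zero_smul, add_zero, refl_mulVec S Φ.n1]
    match_scalars
    field_simp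
    ring
  · rw [gl_mul_mulVec, refl_mulVec S Φ.n2, refl_mulVec S Φ.n1, Unit.add_left O.unit, Unit.smul_left O.unit, Φ.e21]
    match_scalars <;> field_simp <;> ring

/-! ### Centres -/

omit O in
/-- Every transvection with the given centre lies in the group. -/
def Full (σ : F ≃+* F) (f : (Fin n → F) → (Fin n → F) → F) (M : Subgroup (GL (Fin n) F)) (v : Fin n → F) : Prop :=
  ∀ c, c + σ c = 0 → formTv f v c ∈ M

theorem full_conj {g : GL (Fin n) F} (hg : g ∈ M) {v : Fin n → F} (hv : f v v = 0) (h : Full σ f M v) :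
    Full σ f M ((g : Matrix (Fin n) (Fin n) F) *ᵥ v) := by
  intro c hc
  have h1 := M.mul_mem (M.mul_mem hg (h c hc)) (M.inv_mem hg)
  rwa [← root_zero O.unit hv, root_conj O.unit (O.isometry g hg) hv (Unit.zero_right O.unit v), mulVec_zero,
    root_zero O.unit (by rw [O.isometry g hg, hv])] at h1

/-- A family of transvections linear in a rational parameter. -/
theorem full_of_linear {v : Fin n → F} {c₀ : F} (hc₀ : c₀ + σ c₀ = 0) (h0 : c₀ ≠ 0)
    (h : ∀ k ∈ F₀, formTv f v (k * c₀) ∈ M) : Full σ f M v := by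
  intro c hc
  have hk : c / c₀ ∈ F₀ := (O.fixed _).1 (by
    rw [map_div₀, eq_neg_of_add_eq_zero_right hc, eq_neg_of_add_eq_zero_right hc₀, neg_div_neg_eq])
  have := h _ hk
  rwa [div_mul_cancel₀ _ h0] at this

/-- The commutator of two root elements with one centre. -/
theorem tv_of_roots {v x x' : Fin n → F} {γ γ' : F} (hv : f v v = 0) (hx : f v x = 0) (hx' : f v x' = 0)
    (h : root f v x γ ∈ M) (h' : root f v x' γ' ∈ M) : formTv f v (f x x' - f x' x) ∈ M := by
  have hf := O.unit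
  have h2 := M.mul_mem (M.mul_mem h h') (M.inv_mem (M.mul_mem h' h))
  have hS : f v (x' + x) = 0 := by rw [Unit.add_right hf, hx', hx, add_zero]
  rw [root_mul hf hv hx hx', root_mul hf hv hx' hx, root_inv hf hv hS,
    root_mul hf hv (by rw [Unit.add_right hf, hx, hx', add_zero])
      (by rw [← neg_one_smul F (x' + x), Unit.smul_right hf, hS, mul_zero]),
    add_comm x x', add_neg_cancel, root_zero hf hv] at h2
  convert h2 using 2
  rw [(Unit.sesq hf).neg_left]
  ring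

/-- The first stage: the image of a rational hyperbolic frame gives all transvections, or a rational plane. -/
theorem stage {g : GL (Fin n) F} (hg : g ∈ M) {u p w₁ w₂ a b : Fin n → F} (Φu : Frame f F₀ u p w₁ w₂)
    (huu : f u u = 0) (ha : Rv F₀ a) (hb : Rv F₀ b) (hgu : (g : Matrix (Fin n) (Fin n) F) *ᵥ u = a + θ • b)
    (hD : f a a * f b b - f a b * f a b ≠ 0) :
    Full σ f M (a + θ • b) ∨
      (∀ y, Rv F₀ y → f (a + θ • b) y = 0 →
        σ (f ((g : Matrix (Fin n) (Fin n) F) *ᵥ w₁) y) * f ((g : Matrix (Fin n) (Fin n) F) *ᵥ w₂) y ∈ F₀) ∧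
      ∃ a' b' q, Rv F₀ a' ∧ Rv F₀ b' ∧ Rv F₀ q ∧ f (a' + θ • b') (a' + θ • b') = 0 ∧
        f a' a' * f b' b' - f a' b' * f a' b' ≠ 0 ∧ f q a' = 0 ∧ f q b' = 0 ∧ f q q ≠ 0 ∧
        ∀ k ∈ F₀, siegel f (a' + θ • b') (k • q) ∈ M := by
  have S := O.toSetting
  have hf := O.unit
  have hiso := O.isometry g hg
  set v := a + θ • b with hvdef
  have hv : f v v = 0 := by rw [← hgu, hiso, huu]
  obtain ⟨y₁, y₂, Φ⟩ := exists_frame S ha hb hD
  obtain ⟨s1, s2, s3, s4, s5, s6⟩ := Φ.swap' S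
  obtain ⟨u1, -, u3, -, u5, -⟩ := Φu.swap' S
  have hn1 := Φ.n1
  have hn2 := Φ.n2
  set X : (Fin n → F) → (Fin n → F) := fun z =>
    (f z y₁ / f y₁ y₁) • y₁ + (f z y₂ / f y₂ y₂) • y₂ with hX
  have hXsmul : ∀ (k : F) z, X (k • z) = k • X z := fun k z => by
    simp only [hX, Unit.smul_left hf]; module
  have hvy1 : f v y₁ = 0 := by rw [hvdef, Unit.add_left hf, Unit.smul_left hf, s1, s2]; ring
  have hvy2 : f v y₂ = 0 := by rw [hvdef, Unit.add_left hf, Unit.smul_left hf, s3, s4]; ring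
  have hXv : ∀ z, f v (X z) = 0 := fun z => by
    simp only [hX, Unit.add_right hf, Unit.smul_right hf, hvy1, hvy2]; ring
  have hXy : ∀ z, f (X z) y₁ = f z y₁ ∧ f (X z) y₂ = f z y₂ := fun z => by
    simp [hX, Unit.add_left hf, Unit.smul_left hf, Φ.e21, s5, hn1, hn2]
  -- the image of a vector orthogonal to `u`
  have himg : ∀ w, Rv F₀ w → f u w = 0 → ∃ r : F,
      (g : Matrix (Fin n) (Fin n) F) *ᵥ w = r • v + X ((g : Matrix (Fin n) (Fin n) F) *ᵥ w) ∧
      root f v (X ((g : Matrix (Fin n) (Fin n) F) *ᵥ w)) (-(f w w / 2) + r - σ r) ∈ M := by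
    intro w hw huw
    set z := (g : Matrix (Fin n) (Fin n) F) *ᵥ w
    obtain ⟨r, s, he⟩ := Φ.expand S z
    have hz : f z v = 0 := by
      rw [← hgu, hiso]
      exact Unit.eq_zero_comm hf huw
    have hm : s = θ * r := by
      have e0 : f (r • a + s • b) v = 0 := by
        have e := congrArg (fun x => f x v) he
        rw [hz, add_assoc, Unit.add_left hf (r • a + s • b),
          show f ((f z y₁ / f y₁ y₁) • y₁ + (f z y₂ / f y₂ y₂) • y₂) v = 0 from Unit.eq_zero_comm hf (hXv z),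
          add_zero] at e
        exact e.symm
      clear hz
      rename' e0 => hz
      rw [hvdef] at hz
      simp only [Unit.add_left hf, Unit.smul_left hf, Unit.add_right hf, Unit.smul_right hf, O.theta,
        S.symm hb ha, form_self O ha hb hv] at hz
      have h4 : (f a b - θ * f b b) * (s - θ * r) = 0 := by linear_combination hz
      refine sub_eq_zero.1 ((mul_eq_zero.1 h4).resolve_left fun h0 => ?_)
      obtain ⟨e1, e2⟩ := theta_indep O (O.rat a b ha hb) (F₀.neg_mem (O.rat b b hb hb))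
        (show f a b + θ * -(f b b) = 0 by linear_combination h0)
      exact hD (by rw [e1, neg_eq_zero.1 e2]; ring)
    have hzr : z = r • v + X z := by
      conv_lhs => rw [he, hm]
      simp only [hX, hvdef]
      module
    refine ⟨r, hzr, ?_⟩
    have h1 := M.mul_mem (M.mul_mem hg (siegel_mem O Φu.ra hw huu huw)) (M.inv_mem hg)
    rw [siegel, root_conj hf hiso huu huw, hgu] at h1
    change root f v z _ ∈ M at h1
    rwa [hzr, add_comm, root_shift hf hv (hXv z)] at h1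
  have hgram : ∀ w w', Rv F₀ w → Rv F₀ w' → f u w = 0 → f u w' = 0 →
      f (X ((g : Matrix (Fin n) (Fin n) F) *ᵥ w)) (X ((g : Matrix (Fin n) (Fin n) F) *ᵥ w')) = f w w' := by
    intro w w' hw hw' h h'
    obtain ⟨r, e, -⟩ := himg w hw h
    obtain ⟨r', e', -⟩ := himg w' hw' h'
    rw [← hiso w w', e, e']
    simp only [Unit.add_left hf, Unit.add_right hf, Unit.smul_left hf, Unit.smul_right hf, hv, hXv,
      Unit.eq_zero_comm hf (hXv _), (hXy _).1, (hXy _).2]
    rw [← e, ← e']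
    simp only [hX, Unit.add_left hf, Unit.add_right hf, Unit.smul_left hf, Unit.smul_right hf, hvy1, hvy2,
      Unit.eq_zero_comm hf hvy1, Unit.eq_zero_comm hf hvy2]
    ring
  obtain ⟨R, hR, Ra, Rb, A, B, hB, hA, hBm, R1, R2⟩ := exists_rot O Φ
  by_cases hfull : Full σ f M v
  · exact Or.inl hfull
  right
  -- the cross term of two images is real
  have hreal : ∀ w w', Rv F₀ w → Rv F₀ w' → f u w = 0 → f u w' = 0 →
      f ((g : Matrix (Fin n) (Fin n) F) *ᵥ w) y₁ / f y₁ y₁ *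
          σ (f ((g : Matrix (Fin n) (Fin n) F) *ᵥ w') y₂ / f y₂ y₂) -
        f ((g : Matrix (Fin n) (Fin n) F) *ᵥ w) y₂ / f y₂ y₂ *
          σ (f ((g : Matrix (Fin n) (Fin n) F) *ᵥ w') y₁ / f y₁ y₁) ∈ F₀ := by
    intro w w' hw hw' h h'
    by_contra hne
    rw [← O.fixed] at hne
    set z := (g : Matrix (Fin n) (Fin n) F) *ᵥ w with hz
    set z' := (g : Matrix (Fin n) (Fin n) F) *ᵥ w' with hz'
    set c1 := f z y₁ / f y₁ y₁ with hc1
    set c2 := f z y₂ / f y₂ y₂ with hc2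
    set d1 := f z' y₁ / f y₁ y₁ with hd1
    set d2 := f z' y₂ / f y₂ y₂ with hd2
    set S₁ := c1 * σ d2 - c2 * σ d1 with hS₁
    have hgr := hgram w w' hw hw' h h'
    have hRx : ∀ k : F, (R : Matrix (Fin n) (Fin n) F) *ᵥ X (k • z) =
        k • ((c1 * A + c2 * -(B * f y₂ y₂ / f y₁ y₁)) • y₁ + (c1 * B + c2 * A) • y₂) := fun k => by
      simp only [hX, Unit.smul_left hf, mulVec_add, mulVec_smul, R1, R2, hc1, hc2]
      module
    have hσA : σ A = A := (O.fixed A).2 hA
    have hσB : σ (B * f y₂ y₂) = B * f y₂ y₂ := by rw [map_mul, (O.fixed B).2 hBm, rat_coe S Φ.r2 Φ.r2]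
    apply hfull
    refine full_of_linear O (c₀ := B * f y₂ y₂ * (S₁ - σ S₁)) ?_
      (mul_ne_zero (mul_ne_zero hB hn2) (sub_ne_zero.2 (Ne.symm hne))) fun k hk => ?_
    · rw [map_mul, hσB, show σ (S₁ - σ S₁) = σ S₁ - S₁ by rw [map_sub σ S₁ (σ S₁), hf.involutive]]; ring
    obtain ⟨r1, -, m1⟩ := himg (k • w) (hw.smul hk) (by rw [Unit.smul_right hf, h, mul_zero])
    obtain ⟨r2, -, m2⟩ := himg w' hw' h'
    have m1' := M.mul_mem (M.mul_mem hR m1) (M.inv_mem hR)
    have hRv : (R : Matrix (Fin n) (Fin n) F) *ᵥ v = v := by rw [hvdef, mulVec_add, mulVec_smul, Ra, Rb]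
    rw [mulVec_smul, ← hz] at m1'
    rw [root_conj hf (O.isometry R hR) hv (hXv _), hRv, hRx] at m1'
    have h3 := tv_of_roots O hv (by
      simp [Unit.add_right hf, Unit.smul_right hf, hvy1, hvy2]) (hXv _) m1' m2
    convert h3 using 2
    rw [hf.herm (X z') _]
    have e : f (k • ((c1 * A + c2 * -(B * f y₂ y₂ / f y₁ y₁)) • y₁ + (c1 * B + c2 * A) • y₂)) (X z') =
        k * (A * f w w' + B * f y₂ y₂ * S₁) := by
      rw [← hgr, ← hz, ← hz']
      simp only [hX, Unit.add_left hf, Unit.add_right hf, Unit.smul_left hf, Unit.smul_right hf, Φ.e21, s5, ← hc1,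
        ← hc2, ← hd1, ← hd2, hS₁]
      field_simp
      ring
    rw [e, map_mul, map_add, map_mul, map_mul, (O.fixed k).2 hk, hσA, rat_coe S hw hw', hσB]
    ring
  -- a common scalar
  obtain ⟨r₁, e1, m1⟩ := himg w₁ Φu.r1 u1
  set z := (g : Matrix (Fin n) (Fin n) F) *ᵥ w₁ with hz
  set c1 := f z y₁ / f y₁ y₁ with hc1
  set c2 := f z y₂ / f y₂ y₂ with hc2
  have hX1 : X z = c1 • y₁ + c2 • y₂ := rfl
  have hf11 : f (X z) (X z) = f w₁ w₁ := hgram w₁ w₁ Φu.r1 Φu.r1 u1 u1
  have hskew : c1 * σ c2 = c2 * σ c1 := by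
    have h0 : σ (c1 * σ c2 - c2 * σ c1) = c1 * σ c2 - c2 * σ c1 :=
      (O.fixed _).2 (hreal w₁ w₁ Φu.r1 Φu.r1 u1 u1)
    rw [map_sub, map_mul, map_mul, hf.involutive, hf.involutive] at h0
    exact mul_left_cancel₀ O.two (by linear_combination -h0)
  obtain ⟨κ, r₂, r₃, hκ, hr2, hr3, hc1', hc2'⟩ : ∃ κ r₂ r₃ : F, κ ≠ 0 ∧ r₂ ∈ F₀ ∧ r₃ ∈ F₀ ∧
      c1 = κ * r₂ ∧ c2 = κ * r₃ := by
    by_cases h0 : c1 = 0
    · refine ⟨c2, 0, 1, fun h2 => Φu.n1 ?_, F₀.zero_mem, F₀.one_mem, by rw [h0, mul_zero], (mul_one _).symm⟩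
      rw [← hf11, hX1, h0, h2, zero_smul, zero_smul, add_zero, Unit.zero_left hf]
    · refine ⟨c1, 1, c2 / c1, h0, F₀.one_mem, (O.fixed _).1 ?_, (mul_one _).symm, by rw [mul_div_cancel₀ _ h0]⟩
      rw [map_div₀, div_eq_div_iff ((RingEquiv.map_ne_zero_iff σ).2 h0) h0]
      linear_combination hskew
  set q := r₂ • y₁ + r₃ • y₂ with hq
  have hqr : Rv F₀ q := (Φ.r1.smul hr2).add (Φ.r2.smul hr3)
  have hXq : X z = κ • q := by rw [hX1, hc1', hc2', hq]; module
  have hqq : κ * σ κ * f q q = f w₁ w₁ := by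
    rw [← hf11, hXq, Unit.smul_left hf, Unit.smul_right hf]; ring
  have hqq0 : f q q ≠ 0 := fun h0 => Φu.n1 (by rw [← hqq, h0, mul_zero])
  refine ⟨fun y hy hvy => ?_, ?_⟩
  · obtain ⟨e1', e2'⟩ := theta_indep O (O.rat a y ha hy) (O.rat b y hb hy)
      (by rw [hvdef, Unit.add_left hf, Unit.smul_left hf] at hvy; exact hvy)
    obtain ⟨r₄, e4, -⟩ := himg w₂ Φu.r2 u3
    set z' := (g : Matrix (Fin n) (Fin n) F) *ᵥ w₂
    set d1 := f z' y₁ / f y₁ y₁
    set d2 := f z' y₂ / f y₂ y₂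
    have hd : κ * σ d1 ∈ F₀ ∧ κ * σ d2 ∈ F₀ := by
      have T1 : κ * (r₂ * σ d2 - r₃ * σ d1) ∈ F₀ := by
        have h0 : c1 * σ d2 - c2 * σ d1 ∈ F₀ := hreal w₁ w₂ Φu.r1 Φu.r2 u1 u3
        rw [hc1', hc2'] at h0
        convert h0 using 1
        ring
      have T2 : κ * (r₂ * σ d1 * f y₁ y₁ + r₃ * σ d2 * f y₂ y₂) ∈ F₀ := by
        have h0 := O.rat w₁ w₂ Φu.r1 Φu.r2
        rw [← hgram w₁ w₂ Φu.r1 Φu.r2 u1 u3, hXq, hq,
          show X z' = d1 • y₁ + d2 • y₂ from rfl] at h0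
        simp only [Unit.add_left hf, Unit.add_right hf, Unit.smul_left hf, Unit.smul_right hf, Φ.e21, s5] at h0
        convert h0 using 1
        ring
      have hΔ : r₂ * r₂ * f y₁ y₁ + r₃ * r₃ * f y₂ y₂ = f q q := by
        simp [hq, Unit.add_left hf, Unit.add_right hf, Unit.smul_left hf, Unit.smul_right hf, Φ.e21, s5,
          (O.fixed _).2 hr2, (O.fixed _).2 hr3]
        ring
      have hΔm : f q q ∈ F₀ := O.rat q q hqr hqr
      constructor
      · have := F₀.div_mem (F₀.sub_mem (F₀.mul_mem hr2 T2)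
          (F₀.mul_mem (F₀.mul_mem hr3 (O.rat _ _ Φ.r2 Φ.r2)) T1)) hΔm
        convert this using 1
        rw [eq_div_iff hqq0, ← hΔ]
        ring
      · have := F₀.div_mem (F₀.add_mem (F₀.mul_mem hr3 T2)
          (F₀.mul_mem (F₀.mul_mem hr2 (O.rat _ _ Φ.r1 Φ.r1)) T1)) hΔm
        convert this using 1
        rw [eq_div_iff hqq0, ← hΔ]
        ring
    have hz1 : f z y = κ * f q y := by
      rw [e1, Unit.add_left hf, Unit.smul_left hf, hvy, mul_zero, zero_add, hXq, Unit.smul_left hf]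
    have hz2 : f z' y = d1 * f y₁ y + d2 * f y₂ y := by
      rw [e4, Unit.add_left hf, Unit.smul_left hf, hvy, mul_zero, zero_add,
        show X z' = d1 • y₁ + d2 • y₂ from rfl, Unit.add_left hf, Unit.smul_left hf, Unit.smul_left hf]
    rw [hz1, hz2, map_mul, rat_coe S hqr hy]
    have k1 := O.stable_conj hd.1
    have k2 := O.stable_conj hd.2
    rw [map_mul, hf.involutive] at k1 k2
    convert F₀.mul_mem (O.rat q y hqr hy)
      (F₀.add_mem (F₀.mul_mem k1 (O.rat _ _ Φ.r1 hy)) (F₀.mul_mem k2 (O.rat _ _ Φ.r2 hy))) using 1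
    ring
  · -- the sign change forces the normalised coefficient
    obtain ⟨N, hN, Na, Nb, N1, N2⟩ := exists_neg O Φ
    have hNv : (N : Matrix (Fin n) (Fin n) F) *ᵥ v = v := by rw [hvdef, mulVec_add, mulVec_smul, Na, Nb]
    have hall : ∀ k ∈ F₀, root f v (k • X z) (-(k * k * f w₁ w₁ / 2) + k * (r₁ - σ r₁)) ∈ M := by
      intro k hk
      obtain ⟨r', e', m'⟩ := himg (k • w₁) (Φu.r1.smul hk) (by rw [Unit.smul_right hf, u1, mul_zero])
      rw [mulVec_smul, ← hz, hXsmul] at e' m'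
      have hr' : r' = k * r₁ := by
        conv_lhs at e' => rw [e1, smul_add, smul_smul]
        have hv0 : v ≠ 0 := by rw [← hgu]; exact gl_mulVec_ne_zero g fun h0 => Φu.det (by
          simp [h0, Unit.zero_left hf])
        exact (smul_left_injective F hv0 (add_right_cancel e')).symm
      convert m' using 2
      rw [hr', map_mul, (O.fixed k).2 hk, Unit.smul_left hf, S.smul_right' hk]
      ring
    have hrr : r₁ - σ r₁ = 0 := by
      by_contra h0
      apply hfull
      refine full_of_linear O (c₀ := 2 * (r₁ - σ r₁)) ?_ (mul_ne_zero O.two h0) fun k hk => ?_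
      · rw [map_mul, map_ofNat, map_sub, hf.involutive]; ring
      have m := hall k hk
      have m' := M.mul_mem (M.mul_mem hN m) (M.inv_mem hN)
      have hNx : (N : Matrix (Fin n) (Fin n) F) *ᵥ (k • X z) = -(k • X z) := by
        rw [hX1, mulVec_smul, mulVec_add, mulVec_smul, mulVec_smul, N1, N2]; module
      have hkv : f v (k • X z) = 0 := by rw [Unit.smul_right hf, hXv, mul_zero]
      rw [root_conj hf (O.isometry N hN) hv hkv, hNv, hNx] at m'
      have m3 := M.mul_mem m m'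
      rw [root_mul hf hv hkv (by rw [← neg_one_smul F (k • X z), Unit.smul_right hf, hkv, mul_zero]),
        add_neg_cancel, root_zero hf hv, (Unit.sesq hf).neg_left, Unit.smul_left hf, Unit.smul_right hf,
        (O.fixed k).2 hk, hf11] at m3
      convert m3 using 2
      have := O.two
      field_simp
      ring
    obtain ⟨a', b', ha', hb', he'⟩ := decomp O (σ κ • v)
    have hv' : f (a' + θ • b') (a' + θ • b') = 0 := by
      rw [← he', Unit.smul_left hf, Unit.smul_right hf, hv, mul_zero, mul_zero]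
    have hvq : f v q = 0 := by rw [hq, Unit.add_right hf, Unit.smul_right hf, Unit.smul_right hf, hvy1, hvy2]; ring
    obtain ⟨q1, q2⟩ := theta_indep O (O.rat a' q ha' hqr) (O.rat b' q hb' hqr) (by
      rw [← Unit.smul_left hf, ← Unit.add_left hf, ← he', Unit.smul_left hf, hvq, mul_zero])
    refine ⟨a', b', q, ha', hb', hqr, hv', det_ne O ha' hb' hv' ?_, by rw [S.symm hqr ha', q1],
      by rw [S.symm hqr hb', q2], hqq0, fun k hk => ?_⟩
    · by_contra hc
      push Not at hc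
      obtain ⟨c3, c4⟩ := hc
      have hab : f (a' + θ • b') (bar σ (a' + θ • b')) = 0 := by
        rw [bar_add O, bar_smul O, bar_rv O ha', bar_rv O hb']
        simp only [Unit.add_left hf, Unit.add_right hf, Unit.smul_left hf, Unit.smul_right hf, hf.involutive,
          S.symm hb' ha', c3, c4, form_self O ha' hb' hv']
        ring
      rw [← he', bar_smul O, Unit.smul_left hf, Unit.smul_right hf, hf.involutive] at hab
      have hσκ : σ κ ≠ 0 := (RingEquiv.map_ne_zero_iff σ).2 hκ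
      have hab' := ((mul_eq_zero.1 hab).resolve_left hσκ |> mul_eq_zero.1).resolve_left hσκ
      rw [hvdef, bar_add O, bar_smul O, bar_rv O ha, bar_rv O hb] at hab'
      simp only [Unit.add_left hf, Unit.add_right hf, Unit.smul_left hf, Unit.smul_right hf, hf.involutive, s6,
        form_self O ha hb hv] at hab'
      obtain ⟨x1, x2⟩ := theta_indep O (F₀.mul_mem (delta_mem O) (O.rat b b hb hb)) (O.rat a b ha hb)
        (mul_left_cancel₀ O.two (show 2 * (θ * θ * f b b + θ * f a b) = 2 * 0 by linear_combination hab'))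
      exact hD (by rw [x2, (mul_eq_zero.1 x1).resolve_left (mul_ne_zero O.theta_ne O.theta_ne)]; ring)
    · have m := hall k hk
      rw [hrr, mul_zero, add_zero, hXq, smul_comm, root_scale hf hv
        (by rw [Unit.smul_right hf, hvq, mul_zero]) hκ, he'] at m
      convert m using 1
      rw [siegel, ← hqq]
      congr 1
      have hσκ : σ κ ≠ 0 := (RingEquiv.map_ne_zero_iff σ).2 hκ
      have := O.two
      rw [Unit.smul_left hf, S.smul_right' hk]
      field_simp

/-- A vector of given value off a given line of a plane. -/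
theorem exists_rep_off {a b : Fin n → F} (ha : Rv F₀ a) (hb : Rv F₀ b) (h : f (a + θ • b) (a + θ • b) = 0)
    (hD : f a a * f b b - f a b * f a b ≠ 0) {c : F} (hc : c ∈ F₀) (hc0 : c ≠ 0) :
    ∃ α β : F, α ∈ F₀ ∧ β ∈ F₀ ∧ α ≠ 0 ∧ f (α • a + β • b) (α • a + β • b) = c := by
  have S := O.toSetting
  have hf := O.unit
  have e : ∀ α β : F, α ∈ F₀ → β ∈ F₀ → f (α • a + β • b) (α • a + β • b) =
      α * α * f a a + 2 * α * β * f a b + β * β * f b b := fun α β hα hβ => by
    simp only [Unit.add_left hf, Unit.add_right hf, Unit.smul_left hf, S.smul_right' hα, S.smul_right' hβ,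
      S.symm hb ha]
    ring
  by_cases hbb : f b b = 0
  · have haa : f a a = 0 := by rw [form_self O ha hb h, hbb, mul_zero]
    have hab : f a b ≠ 0 := fun h0 => hD (by rw [haa, h0]; ring)
    have hm : c / (2 * f a b) ∈ F₀ := F₀.div_mem hc (F₀.mul_mem (two_mem O) (O.rat a b ha hb))
    refine ⟨1, _, F₀.one_mem, hm, one_ne_zero, ?_⟩
    rw [e _ _ F₀.one_mem hm, haa, hbb]
    have := O.two
    field_simp
    ring
  set w := f b b • a + (-f a b) • b with hw
  have hbm := O.rat b b hb hb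
  have habm := O.rat a b ha hb
  have hwr : Rv F₀ w := (ha.smul hbm).add (hb.smul (F₀.neg_mem habm))
  have hwb : f w b = 0 := by rw [hw, Unit.add_left hf, Unit.smul_left hf, Unit.smul_left hf]; ring
  have hww : f w w = f b b * (f a a * f b b - f a b * f a b) := by
    rw [hw, e _ _ hbm (F₀.neg_mem habm)]; ring
  have hww0 : f w w ≠ 0 := by rw [hww]; exact mul_ne_zero hbb hD
  obtain ⟨x, y, hx, hy, hxy⟩ := exists_rep S hb hwr hwb hbb hww0 hc
  have conv : ∀ x y : F, x • b + y • w = (y * f b b) • a + (x - y * f a b) • b := fun x y => by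
    rw [hw]; module
  by_cases hy0 : y = 0
  swap
  · exact ⟨_, _, F₀.mul_mem hy hbm, F₀.sub_mem hx (F₀.mul_mem hy habm), mul_ne_zero hy0 hbb, by rw [← conv]; exact hxy⟩
  subst hy0
  have hx0 : x ≠ 0 := by
    rintro rfl
    simp [Unit.zero_left hf] at hxy
    exact hc0 hxy.symm
  obtain ⟨t, htm, ht0, htN⟩ : ∃ t ∈ F₀, t ≠ 0 ∧ f b b + t * t * f w w ≠ 0 := by
    obtain ⟨t, htm, ht0, ht1⟩ := O.five
    by_cases h1 : f b b + 1 * 1 * f w w = 0
    · refine ⟨t, htm, ht0, fun h2 => ht1 (mul_right_cancel₀ hww0 ?_)⟩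
      linear_combination h2 - h1
    · exact ⟨1, F₀.one_mem, one_ne_zero, h1⟩
  set N := f b b + t * t * f w w with hN
  have hNm : N ∈ F₀ := F₀.add_mem hbm (F₀.mul_mem (F₀.mul_mem htm htm) (O.rat w w hwr hwr))
  set x' := x - 2 * x * f b b / N with hx'
  set y' := -(2 * x * f b b * t) / N with hy'
  have hk : 2 * x * f b b ∈ F₀ := F₀.mul_mem (F₀.mul_mem (two_mem O) hx) hbm
  have hx'm : x' ∈ F₀ := F₀.sub_mem hx (F₀.div_mem hk hNm)
  have hy'm : y' ∈ F₀ := F₀.div_mem (F₀.neg_mem (F₀.mul_mem hk htm)) hNm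
  have hq : f (x' • b + y' • w) (x' • b + y' • w) = c := by
    rw [← hxy]
    simp only [Unit.add_left hf, Unit.add_right hf, Unit.smul_left hf, S.smul_right' hx'm, S.smul_right' hy'm,
      S.smul_right' hx, S.smul_right' F₀.zero_mem, hwb, S.symm hb hwr]
    rw [hx', hy']
    field_simp
    rw [hN]
    ring
  refine ⟨_, _, F₀.mul_mem hy'm hbm, F₀.sub_mem hx'm (F₀.mul_mem hy'm habm), mul_ne_zero ?_ hbb,
    by rw [← conv]; exact hq⟩
  exact div_ne_zero (neg_ne_zero.2 (mul_ne_zero (mul_ne_zero (mul_ne_zero O.two hx0) hbb) ht0)) htN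

/-- The second stage. -/
theorem full_of_siegel {a b q : Fin n → F} (ha : Rv F₀ a) (hb : Rv F₀ b) (hqr : Rv F₀ q)
    (hv : f (a + θ • b) (a + θ • b) = 0) (hD : f a a * f b b - f a b * f a b ≠ 0) (hqa : f q a = 0)
    (hqb : f q b = 0) (hqq : f q q ≠ 0) (h : ∀ k ∈ F₀, siegel f (a + θ • b) (k • q) ∈ M) :
    ∃ a₁ b₁, Rv F₀ a₁ ∧ Rv F₀ b₁ ∧ f (a₁ + θ • b₁) (a₁ + θ • b₁) = 0 ∧
      f a₁ a₁ * f b₁ b₁ - f a₁ b₁ * f a₁ b₁ ≠ 0 ∧ Full σ f M (a₁ + θ • b₁) := by
  have S := O.toSetting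
  have hf := O.unit
  have hba := S.symm hb ha
  -- the second vector of the orthogonal plane
  obtain ⟨y₁, y₂, Φ⟩ := exists_frame S ha hb hD
  obtain ⟨s1, s2, s3, s4, s5, -⟩ := Φ.swap' S
  have hexp := Φ.expand_perp S hqa hqb
  set r₁ := f q y₁ / f y₁ y₁ with hr1
  set r₂ := f q y₂ / f y₂ y₂ with hr2
  have hr1m : r₁ ∈ F₀ := F₀.div_mem (O.rat _ _ hqr Φ.r1) (O.rat _ _ Φ.r1 Φ.r1)
  have hr2m : r₂ ∈ F₀ := F₀.div_mem (O.rat _ _ hqr Φ.r2) (O.rat _ _ Φ.r2 Φ.r2)
  clear_value r₁ r₂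
  have hm1 : r₁ * f y₁ y₁ ∈ F₀ := F₀.mul_mem hr1m (O.rat _ _ Φ.r1 Φ.r1)
  have hm2 : -(r₂ * f y₂ y₂) ∈ F₀ := F₀.neg_mem (F₀.mul_mem hr2m (O.rat _ _ Φ.r2 Φ.r2))
  set q' := (-(r₂ * f y₂ y₂)) • y₁ + (r₁ * f y₁ y₁) • y₂ with hq'
  have hq'r : Rv F₀ q' := (Φ.r1.smul hm2).add (Φ.r2.smul hm1)
  have hqq' : f q' q' = f y₁ y₁ * f y₂ y₂ * f q q := by
    rw [hexp, hq']
    simp only [Unit.add_left hf, Unit.add_right hf, Unit.smul_left hf, S.smul_right' hr1m, S.smul_right' hr2m,
      S.smul_right' hm1, S.smul_right' hm2, Φ.e21, s5]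
    ring
  have hq'0 : f q' q' ≠ 0 := by rw [hqq']; exact mul_ne_zero (mul_ne_zero Φ.n1 Φ.n2) hqq
  have hq'q : f q' q = 0 := by
    rw [hexp, hq']
    simp only [Unit.add_left hf, Unit.add_right hf, Unit.smul_left hf, S.smul_right' hr1m, S.smul_right' hr2m,
      Φ.e21, s5]
    ring
  have hq'a : f q' a = 0 := by rw [hq', Unit.add_left hf, Unit.smul_left hf, Unit.smul_left hf, Φ.e1a, Φ.e2a]; ring
  have hq'b : f q' b = 0 := by rw [hq', Unit.add_left hf, Unit.smul_left hf, Unit.smul_left hf, Φ.e1b, Φ.e2b]; ring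
  have hQ' := O.rat q' q' hq'r hq'r
  obtain ⟨α, β, hα, hβ, hα0, hzz⟩ := exists_rep_off O ha hb hv hD (F₀.neg_mem hQ') (neg_ne_zero.2 hq'0)
  set z := α • a + β • b with hz
  have hzr : Rv F₀ z := (ha.smul hα).add (hb.smul hβ)
  have hza := O.rat z a hzr ha
  have hzb := O.rat z b hzr hb
  have hzq : f z q = 0 := by
    rw [hz, Unit.add_left hf, Unit.smul_left hf, Unit.smul_left hf, S.symm ha hqr, S.symm hb hqr, hqa, hqb]; ring
  have hzq' : f z q' = 0 := by
    rw [hz, Unit.add_left hf, Unit.smul_left hf, Unit.smul_left hf, S.symm ha hq'r, S.symm hb hq'r, hq'a, hq'b]; ring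
  clear_value z
  set τ₀ := f z a with hτ0
  set τ₁ := -f z b with hτ1
  -- the scale
  set E := f a b * (τ₀ * τ₀ + θ * θ * (τ₁ * τ₁)) + 2 * (θ * θ) * τ₀ * τ₁ * f b b with hE
  set G := f b b * (τ₀ * τ₀ + θ * θ * (τ₁ * τ₁)) + 2 * τ₀ * τ₁ * f a b with hG
  have h4 : (4 : F) ≠ 0 := by
    rw [show (4 : F) = 2 * 2 by norm_num]; exact mul_ne_zero O.two O.two
  obtain ⟨k, hkm, hk0, hk⟩ : ∃ k ∈ F₀, k ≠ 0 ∧
      (τ₁ * τ₁ * (k * k * f q q) + k * k * f q q * (k * k * f q q) / 4 * G ≠ 0 ∨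
        τ₀ * τ₁ * (k * k * f q q) + k * k * f q q * (k * k * f q q) / 4 * E ≠ 0) := by
    obtain ⟨t, htm, ht0, ht1⟩ := O.five
    by_contra hc
    push Not at hc
    obtain ⟨a1, a2⟩ := hc 1 F₀.one_mem one_ne_zero
    obtain ⟨b1, -⟩ := hc t htm ht0
    simp only [one_mul] at a1 a2
    have hQ := hqq
    have c1 : f q q * (f q q * G) * (t * t) * (t * t - 1) = 0 := by
      field_simp at a1 b1
      linear_combination b1 - t * t * a1
    have hG0 : G = 0 := by
      simpa [hQ, ht0, sub_eq_zero, ht1] using c1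
    have hτ : τ₁ = 0 := by
      rw [hG0, mul_zero, add_zero] at a1
      simpa [hQ] using a1
    have hτ0' : τ₀ ≠ 0 := by
      intro h0
      have h1 : f z b = 0 := neg_eq_zero.1 hτ
      apply hq'0
      rw [← neg_eq_zero, ← hzz, hz, Unit.add_right hf, S.smul_right' hα, S.smul_right' hβ, ← hz]
      change α * τ₀ + β * f z b = 0
      rw [h0, h1]; ring
    have hbb : f b b = 0 := by
      simpa [hG, hτ, hτ0'] using hG0
    have hE0 : f a b = 0 := by
      rw [hτ, mul_zero, zero_mul, zero_add] at a2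
      simpa [hE, hτ, hτ0', hQ, h4] using a2
    exact hD (by rw [hbb, hE0]; ring)
  set p := k • q with hp
  have hpr : Rv F₀ p := hqr.smul hkm
  set Q := f p p with hQdef
  have hQk : Q = k * k * f q q := by rw [hQdef, hp, Unit.smul_left hf, S.smul_right' hkm]; ring
  have hQm : Q ∈ F₀ := O.rat p p hpr hpr
  have hQ0 : Q ≠ 0 := by rw [hQk]; exact mul_ne_zero (mul_ne_zero hk0 hk0) hqq
  clear_value p
  set v := a + θ • b with hvdef
  have hpa : f p a = 0 := by rw [hp, Unit.smul_left hf, hqa, mul_zero]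
  have hpb : f p b = 0 := by rw [hp, Unit.smul_left hf, hqb, mul_zero]
  have hpv : f p v = 0 := by rw [hvdef, Unit.add_right hf, Unit.smul_right hf, hpa, hpb]; ring
  have hvp : f v p = 0 := Unit.eq_zero_comm hf hpv
  have hq'p : f q' p = 0 := by rw [hp, S.smul_right' hkm, hq'q, mul_zero]
  have hzp : f z p = 0 := by rw [hp, S.smul_right' hkm, hzq, mul_zero]
  have hpz : f p z = 0 := Unit.eq_zero_comm hf hzp
  have hpq' : f p q' = 0 := Unit.eq_zero_comm hf hq'p
  have hq'v : f q' v = 0 := by rw [hvdef, Unit.add_right hf, Unit.smul_right hf, hq'a, hq'b]; ring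
  have hvq' : f v q' = 0 := Unit.eq_zero_comm hf hq'v
  have hzv : f z v = τ₀ + θ * τ₁ := by
    rw [hvdef, Unit.add_right hf, Unit.smul_right hf, O.theta, hτ0, hτ1]; ring
  have hvz : f v z = τ₀ - θ * τ₁ := by
    rw [hf.herm, hzv, map_add, map_mul, O.theta, (O.fixed _).2 hza, map_neg, (O.fixed _).2 hzb, hτ1]; ring
  -- the new hyperbolic frame
  set u₁ := z + q' with hu1
  have hu1r : Rv F₀ u₁ := hzr.add hq'r
  have hq'z : f q' z = 0 := Unit.eq_zero_comm hf hzq'
  have huu : f u₁ u₁ = 0 := by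
    simp [hu1, Unit.add_left hf, Unit.add_right hf, hzz, hzq', hq'z]
  set w := f z b • a + (-f z a) • b with hw
  have hwr : Rv F₀ w := (ha.smul hzb).add (hb.smul (F₀.neg_mem hza))
  have hza' : f z a = α * f a a + β * f a b := by
    rw [hz, Unit.add_left hf, Unit.smul_left hf, Unit.smul_left hf, hba]
  have hzb' : f z b = α * f a b + β * f b b := by rw [hz, Unit.add_left hf, Unit.smul_left hf, Unit.smul_left hf]
  have hwz : f w z = 0 := by
    rw [hw, Unit.add_left hf, Unit.smul_left hf, Unit.smul_left hf, S.symm ha hzr, S.symm hb hzr]; ring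
  have hwb : f w b = -α * (f a a * f b b - f a b * f a b) := by
    rw [hw, Unit.add_left hf, Unit.smul_left hf, Unit.smul_left hf, hza', hzb']; ring
  have hzz2 : f z z = α * f z a + β * f z b := by
    conv_lhs => arg 2; rw [hz]
    rw [Unit.add_right hf, S.smul_right' hα, S.smul_right' hβ]
  have hww : f w w = (f a a * f b b - f a b * f a b) * f z z := by
    rw [hw]
    simp only [Unit.add_left hf, Unit.add_right hf, Unit.smul_left hf, S.smul_right' (show f z b ∈ F₀ from hzb),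
      S.smul_right' (F₀.neg_mem (show f z a ∈ F₀ from hza))]
    rw [hzz2, hza', hzb', hba]
    ring
  have hwp : f w p = 0 := by
    rw [hw, Unit.add_left hf, Unit.smul_left hf, Unit.smul_left hf, Unit.eq_zero_comm hf hpa,
      Unit.eq_zero_comm hf hpb]; ring
  have hwq' : f w q' = 0 := by
    rw [hw, Unit.add_left hf, Unit.smul_left hf, Unit.smul_left hf, Unit.eq_zero_comm hf hq'a,
      Unit.eq_zero_comm hf hq'b]; ring
  set u₂ := z - q' with hu2
  have Φu : Frame f F₀ u₁ u₂ p w :=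
    { ra := hu1r
      rb := hzr.sub hq'r
      r1 := hpr
      r2 := hwr
      e1a := by rw [hu1, Unit.add_right hf, hpz, hpq', add_zero]
      e1b := by rw [hu2, Unit.sub_right hf, hpz, hpq', sub_zero]
      e2a := by rw [hu1, Unit.add_right hf, hwz, hwq', add_zero]
      e2b := by rw [hu2, Unit.sub_right hf, hwz, hwq', sub_zero]
      e21 := hwp
      n1 := hQ0
      n2 := by rw [hww, hzz]; exact mul_ne_zero hD (neg_ne_zero.2 hq'0)
      det := by
        rw [huu, zero_mul, zero_sub, neg_ne_zero]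
        have : f u₁ u₂ ≠ 0 := by
          rw [hu1, hu2, Unit.add_left hf, Unit.sub_right hf, Unit.sub_right hf, hzz, hzq', hq'z,
            show -f q' q' - 0 + (0 - f q' q') = -(2 * f q' q') by ring, neg_ne_zero]
          exact mul_ne_zero O.two hq'0
        exact mul_ne_zero this this }
  -- the image of the new singular vector
  set g := siegel f v p with hg
  have hgM : g ∈ M := by rw [hg, hp]; exact h k hkm
  have hgx := fun x => siegel_mulVec O hv hvp x
  have hτm : τ₁ ∈ F₀ := F₀.neg_mem hzb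
  have hQ2 : -(Q / 2) ∈ F₀ := F₀.neg_mem (F₀.div_mem hQm (two_mem O))
  set a₁ := u₁ + τ₀ • p + (-(Q / 2)) • (τ₀ • a + (θ * θ * τ₁) • b) with ha1
  set b₁ := τ₁ • p + (-(Q / 2)) • (τ₀ • b + τ₁ • a) with hb1
  have ha1r : Rv F₀ a₁ := (hu1r.add (hpr.smul hza)).add
    (((ha.smul hza).add (hb.smul (F₀.mul_mem (delta_mem O) hτm))).smul hQ2)
  have hb1r : Rv F₀ b₁ := (hpr.smul hτm).add (((hb.smul hza).add (ha.smul hτm)).smul hQ2)
  have hu1v : f u₁ v = τ₀ + θ * τ₁ := by rw [hu1, Unit.add_left hf, hzv, hq'v, add_zero]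
  have hu1p : f u₁ p = 0 := by rw [hu1, Unit.add_left hf, hzp, hq'p, add_zero]
  have hgu : (g : Matrix (Fin n) (Fin n) F) *ᵥ u₁ = a₁ + θ • b₁ := by
    rw [hg, hgx, hu1v, hu1p, ha1, hb1, hvdef]
    module
  have hv1 : f (a₁ + θ • b₁) (a₁ + θ • b₁) = 0 := by rw [← hgu, O.isometry g hgM, huu]
  have hfaa := form_self O ha hb hv
  have hD1 : f a₁ a₁ * f b₁ b₁ - f a₁ b₁ * f a₁ b₁ ≠ 0 := by
    refine det_ne O ha1r hb1r hv1 ?_
    have hau : f a u₁ = τ₀ := by
      rw [hu1, Unit.add_right hf, Unit.eq_zero_comm hf hq'a, add_zero, S.symm ha hzr]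
    have hbu : f b u₁ = -τ₁ := by
      rw [hu1, Unit.add_right hf, Unit.eq_zero_comm hf hq'b, add_zero, S.symm hb hzr, hτ1, neg_neg]
    have hua : f u₁ a = τ₀ := by rw [hu1, Unit.add_left hf, hq'a, add_zero]
    have hub : f u₁ b = -τ₁ := by rw [hu1, Unit.add_left hf, hq'b, add_zero, hτ1, neg_neg]
    have e1 : f b₁ b₁ = τ₁ * τ₁ * Q + Q * Q / 4 * G := by
      rw [hb1, hG]
      simp only [Unit.add_left hf, Unit.add_right hf, Unit.smul_left hf, S.smul_right' hza, S.smul_right' hτm,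
        S.smul_right' hQ2, hpa, hpb, Unit.eq_zero_comm hf hpa, Unit.eq_zero_comm hf hpb, hba, hfaa]
      rw [← hQdef]
      have := O.two
      field_simp
      ring
    have e2 : f a₁ b₁ = τ₀ * τ₁ * Q + Q * Q / 4 * E := by
      rw [ha1, hb1, hE]
      simp only [Unit.add_left hf, Unit.add_right hf, Unit.smul_left hf, S.smul_right' hza, S.smul_right' hτm,
        S.smul_right' hQ2, hpa, hpb, Unit.eq_zero_comm hf hpa, Unit.eq_zero_comm hf hpb, hba, hfaa, hu1p, hua, hub]
      rw [← hQdef]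
      have := O.two
      field_simp
      ring
    rw [e1, e2, hQk]
    exact hk.symm
  rcases stage O hgM Φu huu ha1r hb1r hgu hD1 with hfull | ⟨hy, -⟩
  · exact ⟨a₁, b₁, ha1r, hb1r, hv1, hD1, hfull⟩
  exfalso
  have hN : τ₀ * τ₀ - θ * θ * (τ₁ * τ₁) ∈ F₀ :=
    F₀.sub_mem (F₀.mul_mem hza hza) (F₀.mul_mem (delta_mem O) (F₀.mul_mem hτm hτm))
  set N := τ₀ * τ₀ - θ * θ * (τ₁ * τ₁) with hNdef
  set β' := (f q' q' + Q / 2 * N) / f q' q' with hβ'
  have hβ'm : β' ∈ F₀ := F₀.div_mem (F₀.add_mem hQ' (F₀.mul_mem (F₀.div_mem hQm (two_mem O)) hN)) hQ'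
  set y := z + β' • q' with hy'
  have hyr : Rv F₀ y := hzr.add (hq'r.smul hβ'm)
  have hpy : f p y = 0 := by rw [hy', Unit.add_right hf, S.smul_right' hβ'm, hpz, hpq', mul_zero, add_zero]
  have hvy : f v y = τ₀ - θ * τ₁ := by
    rw [hy', Unit.add_right hf, S.smul_right' hβ'm, hvz, hvq', mul_zero, add_zero]
  have hwy : f w y = 0 := by rw [hy', Unit.add_right hf, S.smul_right' hβ'm, hwz, hwq', mul_zero, add_zero]
  have hu1y : f u₁ y = -f q' q' + β' * f q' q' := by
    simp [hu1, hy', Unit.add_left hf, Unit.add_right hf, S.smul_right' hβ'm, hzz, hzq', hq'z]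
  have hv1y : f (a₁ + θ • b₁) y = 0 := by
    rw [← hgu, hg, hgx, Unit.add_left hf, Unit.add_left hf, Unit.smul_left hf, Unit.smul_left hf, hu1v, hu1p, hpy,
      hvy, hu1y, hβ', hNdef]
    field_simp
    ring
  have hτz : τ₀ - θ * τ₁ ≠ 0 := by
    intro h0
    obtain ⟨e0, e1⟩ := theta_indep O hza (F₀.neg_mem hτm) (show τ₀ + θ * -τ₁ = 0 by linear_combination h0)
    apply hα0
    have e1' : f z b = 0 := by simpa [hτ1] using e1
    rw [hτ0, hza'] at e0
    rw [hzb'] at e1'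
    exact (mul_eq_zero.1 (show α * (f a a * f b b - f a b * f a b) = 0 by
      linear_combination f b b * e0 - f a b * e1')).resolve_right hD
  have hres := hy y hyr hv1y
  rw [hg, hgx, hgx, hpv, hwp, ← hQdef] at hres
  simp only [Unit.add_left hf, Unit.smul_left hf, hpy, hvy, hwy, mul_zero, zero_mul, add_zero, zero_sub, sub_zero,
    zero_add, map_neg, map_mul, map_sub, show σ Q = Q from (O.fixed _).2 hQm, (O.fixed _).2 hza, (O.fixed _).2 hτm, O.theta] at hres
  set ρ := f w v with hρ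
  have hρm : ρ ∈ F₀ := by
    have hN0 : N ≠ 0 := by
      intro h0
      have e : (τ₀ - θ * τ₁) * (τ₀ + θ * τ₁) = 0 := by linear_combination h0
      rcases mul_eq_zero.1 e with e | e
      · exact hτz e
      · obtain ⟨e0, e1⟩ := theta_indep O hza hτm e
        exact hτz (by rw [e0, e1]; ring)
    have := F₀.div_mem hres (F₀.mul_mem (F₀.div_mem (F₀.mul_mem hQm hQm) (two_mem O)) hN)
    convert this using 1
    have := O.two
    rw [eq_div_iff (mul_ne_zero (div_ne_zero (mul_ne_zero hQ0 hQ0) O.two) hN0), hNdef]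
    field_simp
    ring
  have hwb0 : f w b = 0 := by
    rw [hρ, hvdef, Unit.add_right hf, Unit.smul_right hf, O.theta] at hρm
    have h1 := F₀.sub_mem hρm (O.rat w a hwr ha)
    rw [add_sub_cancel_left] at h1
    by_contra h0
    exact theta_notMem O (by
      have := F₀.neg_mem (F₀.div_mem h1 (O.rat w b hwr hb))
      rwa [mul_div_cancel_right₀ _ h0, neg_neg] at this)
  exact mul_ne_zero (neg_ne_zero.2 hα0) hD (hwb ▸ hwb0)

omit O in
/-- A non-zero rational singular vector. -/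
theorem exists_singular (S : Setting σ f F₀) : ∃ s, Rv F₀ s ∧ s ≠ 0 ∧ f s s = 0 := by
  haveI := Fintype.ofFinite F₀
  have h3 := le_finrank_perpOf S (k := 0) ![]
  have := S.four
  obtain ⟨x, -, hx0, hqx⟩ := OrthTools.exists_singular (quad_nondegenerate S) (S.perpOf (![] : Fin 0 → Fin n → F₀))
    (by omega)
  exact ⟨up x, up_rv x, fun h => hx0 (up_injective (h.trans up_zero.symm)), by rw [← quad_coe S, hqx]; rfl⟩

omit O in
/-- A rational singular vector not orthogonal to a given one. -/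
theorem exists_singular_ne (S : Setting σ f F₀) {a : Fin n → F} (ha0 : a ≠ 0) :
    ∃ r, Rv F₀ r ∧ f r r = 0 ∧ f r a ≠ 0 := by
  have hf := S.unit
  obtain ⟨u, hu, hu0, huu⟩ := exists_singular S
  obtain ⟨p, hp, hpp, hup⟩ := exists_partner S hu hu0 huu
  obtain ⟨w₁, w₂, Φ⟩ := exists_frame_pair S hu hp huu hpp hup
  obtain ⟨s1, s2, s3, s4, s5, -⟩ := Φ.swap' S
  by_cases hua : f u a = 0
  swap
  · exact ⟨u, hu, huu, hua⟩
  by_cases hpa : f p a = 0
  swap
  · exact ⟨p, hp, hpp, hpa⟩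
  have key : ∀ w, Rv F₀ w → f w u = 0 → f w p = 0 → f w a ≠ 0 → ∃ r, Rv F₀ r ∧ f r r = 0 ∧ f r a ≠ 0 := by
    intro w hw hwu hwp hwa
    have hkm : -f w w / (2 * f u p) ∈ F₀ :=
      F₀.div_mem (F₀.neg_mem (S.rat w w hw hw)) (F₀.mul_mem (ofNat_mem F₀ 2) (S.rat u p hu hp))
    refine ⟨p + w + (-f w w / (2 * f u p)) • u, (hp.add hw).add (hu.smul hkm), ?_, ?_⟩
    · simp only [Unit.add_left hf, Unit.add_right hf, Unit.smul_left hf, S.smul_right' hkm, hpp, huu, hwu, hwp,
        S.symm hp hw, S.symm hu hw, S.symm hp hu]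
      have := S.two
      field_simp
      ring
    · rw [Unit.add_left hf, Unit.add_left hf, Unit.smul_left hf, hpa, hua, mul_zero, add_zero, zero_add]
      exact hwa
  by_cases h1 : f w₁ a = 0
  swap
  · exact key w₁ Φ.r1 Φ.e1a Φ.e1b h1
  by_cases h2 : f w₂ a = 0
  swap
  · exact key w₂ Φ.r2 Φ.e2a Φ.e2b h2
  exact absurd (Φ.eq_zero S (Unit.eq_zero_comm hf hua) (Unit.eq_zero_comm hf hpa) (Unit.eq_zero_comm hf h1)
    (Unit.eq_zero_comm hf h2)) ha0

/-- A rational singular vector orthogonal to neither of two given ones. -/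
theorem exists_both {a b : Fin n → F} (ha0 : a ≠ 0) (hb0 : b ≠ 0) :
    ∃ r, Rv F₀ r ∧ f r r = 0 ∧ f r a ≠ 0 ∧ f r b ≠ 0 := by
  have S := O.toSetting
  have hf := O.unit
  obtain ⟨p, hp, hpp, hpa⟩ := exists_singular_ne S ha0
  obtain ⟨p', hp', hpp', hpb'⟩ := exists_singular_ne S hb0
  by_cases hpb : f p b = 0
  swap
  · exact ⟨p, hp, hpp, hpa, hpb⟩
  by_cases hpa' : f p' a = 0
  swap
  · exact ⟨p', hp', hpp', hpa', hpb'⟩
  by_cases hpp2 : f p p' = 0
  · refine ⟨p + p', hp.add hp', ?_, by rwa [Unit.add_left hf, hpa', add_zero],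
      by rwa [Unit.add_left hf, hpb, zero_add]⟩
    simp [Unit.add_left hf, Unit.add_right hf, hpp, hpp', hpp2, S.symm hp' hp]
  obtain ⟨w, w₂, Φ⟩ := exists_frame_pair S hp hp' hpp hpp' hpp2
  obtain ⟨t, htm, ht0, ht1⟩ := O.five
  set k := -f w w / (2 * f p p') with hk
  have hkm : k ∈ F₀ :=
    F₀.div_mem (F₀.neg_mem (O.rat w w Φ.r1 Φ.r1)) (F₀.mul_mem (two_mem O) (O.rat p p' hp hp'))
  have hk2 : k * (2 * f p p') = -f w w := div_mul_cancel₀ _ (mul_ne_zero O.two hpp2)
  have hk0 : k ≠ 0 := fun h0 => Φ.n1 (by rw [h0, zero_mul] at hk2; exact neg_eq_zero.1 hk2.symm)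
  by_contra hno
  push Not at hno
  have hbad : ∀ m ∈ F₀, m ≠ 0 → f p a + m * f w a = 0 ∨ k * m * f p' b + f w b = 0 := by
    intro m hm hm0
    have hr : f (p + m • w + (k * (m * m)) • p') (p + m • w + (k * (m * m)) • p') = 0 := by
      simp only [Unit.add_left hf, Unit.add_right hf, Unit.smul_left hf, S.smul_right' hm,
        S.smul_right' (F₀.mul_mem hkm (F₀.mul_mem hm hm)), hpp, hpp', Φ.e1a, Φ.e1b, S.symm hp Φ.r1, S.symm hp' Φ.r1,
        S.symm hp' hp]
      linear_combination (m * m) * hk2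
    by_cases h1 : f p a + m * f w a = 0
    · exact Or.inl h1
    right
    have h2 := hno _ ((hp.add (Φ.r1.smul hm)).add (hp'.smul (F₀.mul_mem hkm (F₀.mul_mem hm hm)))) hr (by
      simpa [Unit.add_left hf, Unit.smul_left hf, hpa'] using h1)
    simp only [Unit.add_left hf, Unit.smul_left hf, hpb, zero_add] at h2
    exact (mul_eq_zero.1 (show m * (k * m * f p' b + f w b) = 0 by linear_combination h2)).resolve_left hm0
  have pair : ∀ x y : F, x ≠ y → f p a + x * f w a = 0 → f p a + y * f w a = 0 → False := by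
    intro x y hxy h1 h2
    rcases mul_eq_zero.1 (show (x - y) * f w a = 0 by linear_combination h1 - h2) with h | h
    · exact hxy (sub_eq_zero.1 h)
    · exact hpa (by rw [h, mul_zero, add_zero] at h1; exact h1)
  have pair' : ∀ x y : F, x ≠ y → k * x * f p' b + f w b = 0 → k * y * f p' b + f w b = 0 → False := by
    intro x y hxy h1 h2
    rcases mul_eq_zero.1 (show (x - y) * (k * f p' b) = 0 by linear_combination h1 - h2) with h | h
    · exact hxy (sub_eq_zero.1 h)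
    · exact mul_ne_zero hk0 hpb' h
  have e1 : (1 : F) ≠ -1 := fun h => O.two (by linear_combination h)
  have e2 : (1 : F) ≠ t := fun h => ht1 (by rw [← h, one_mul])
  have e3 : (-1 : F) ≠ t := fun h => ht1 (by rw [← h]; ring)
  rcases hbad 1 F₀.one_mem one_ne_zero with a1 | a1 <;>
    rcases hbad (-1) (F₀.neg_mem F₀.one_mem) (neg_ne_zero.2 one_ne_zero) with a2 | a2 <;>
      rcases hbad t htm ht0 with a3 | a3 <;>
        first
          | exact pair _ _ e1 a1 a2
          | exact pair _ _ e2 a1 a3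
          | exact pair _ _ e3 a2 a3
          | exact pair' _ _ e1 a1 a2
          | exact pair' _ _ e2 a1 a3
          | exact pair' _ _ e3 a2 a3

/-- Rational singular vectors are conjugate. -/
theorem exists_move {s t : Fin n → F} (hs : Rv F₀ s) (ht : Rv F₀ t) (hs0 : s ≠ 0) (ht0 : t ≠ 0)
    (hss : f s s = 0) (htt : f t t = 0) : ∃ h ∈ M, (h : Matrix (Fin n) (Fin n) F) *ᵥ s = t := by
  have S := O.toSetting
  have hf := O.unit
  have step : ∀ s t : Fin n → F, Rv F₀ s → Rv F₀ t → f s s = 0 → f t t = 0 → f s t ≠ 0 →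
      ∃ h ∈ M, (h : Matrix (Fin n) (Fin n) F) *ᵥ s = t := by
    intro s t hs ht hss htt hst
    obtain ⟨y₁, y₂, Φ⟩ := exists_frame_pair S hs ht hss htt hst
    obtain ⟨-, s2, -, -, -, -⟩ := Φ.swap' S
    have hdd : f (s - t) (s - t) = -2 * f s t := by
      simp [Unit.sub_left hf, Unit.sub_right hf, hss, htt, S.symm ht hs]; ring
    have hd0 : f (s - t) (s - t) ≠ 0 := by rw [hdd]; exact mul_ne_zero (neg_ne_zero.2 O.two) hst
    refine ⟨refl f y₁ * refl f (s - t), refl_pair_mem O Φ.r1 (hs.sub ht) Φ.n1 hd0, ?_⟩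
    rw [gl_mul_mulVec, refl_mulVec S hd0, hdd, Unit.sub_right hf, hss, zero_sub]
    have : (-2 / (-2 * f s t) * -f s t) = -1 := by
      have := O.two
      field_simp
    rw [this, neg_one_smul, neg_sub, add_sub_cancel, refl_mulVec S Φ.n1, s2, mul_zero, zero_smul, add_zero]
  obtain ⟨r, hr, hrr, hrs, hrt⟩ := exists_both O hs0 ht0
  obtain ⟨h1, hh1, e1⟩ := step s r hs hr hss hrr (by rwa [S.symm hs hr])
  obtain ⟨h2, hh2, e2⟩ := step r t hr ht hrr htt hrt
  exact ⟨h2 * h1, M.mul_mem hh2 hh1, by rw [gl_mul_mulVec, e1, e2]⟩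

/-- From a full centre to an orthogonal rational singular one. -/
theorem full_of_orth {v s : Fin n → F} (hv : f v v = 0) (hv0 : v ≠ 0) (h : Full σ f M v) (hs : Rv F₀ s)
    (hs0 : s ≠ 0) (hss : f s s = 0) (hvs : f v s = 0) : Full σ f M s := by
  have S := O.toSetting
  have hf := O.unit
  have hsv := Unit.eq_zero_comm hf hvs
  by_cases hy : ∃ y, Rv F₀ y ∧ f s y = 0 ∧ f v y ≠ 0
  · obtain ⟨y, hy, hsy, hvy⟩ := hy
    intro c' hc'
    set e := - f v y with he
    have he0 : e ≠ 0 := neg_ne_zero.2 hvy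
    have hσe : σ e ≠ 0 := (RingEquiv.map_ne_zero_iff σ).2 he0
    clear_value e
    set c := - c' / (2 * (e * σ e)) with hcd
    have hc : c + σ c = 0 := by
      rw [hcd, map_div₀, map_neg, map_mul, map_mul, map_ofNat, hf.involutive,
        eq_neg_of_add_eq_zero_right hc']
      ring
    clear_value c
    have hh := siegel_mem O hs hy hss hsy
    have hhv : (siegel f s y : Matrix (Fin n) (Fin n) F) *ᵥ v = v + e • s := by
      rw [siegel_mulVec O hss hsy, hvs, he]
      module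
    have hT := h c hc
    have hv2 : f (v + e • s) (v + e • s) = 0 := by rw [← hhv, O.isometry _ hh, hv]
    have h1 := full_conj O hh hv h c hc
    rw [hhv] at h1
    have hlam : f s ((c * σ e) • v) = 0 := by rw [Unit.smul_right hf, hsv, mul_zero]
    have hsplit : formTv f (v + e • s) c = formTv f v c * root f s ((c * σ e) • v) (c * e * σ e) := by
      refine gl_ext fun x => ?_
      rw [Unit.formTv_mulVec hf hv2, gl_mul_mulVec, Unit.formTv_mulVec hf hv, root_mulVec hf hss hlam]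
      simp only [Unit.add_left hf, Unit.add_right hf, Unit.smul_left hf, Unit.smul_right hf, map_mul, hsv, hv,
        hf.involutive, eq_neg_of_add_eq_zero_right hc]
      match_scalars <;> ring
    rw [hsplit] at h1
    have hR := M.mul_mem (M.inv_mem hT) h1
    rw [inv_mul_cancel_left] at hR
    have h2 := tv_of_roots O hss hlam hsy hR hh
    convert h2 using 2
    rw [hf.herm y ((c * σ e) • v), Unit.smul_left hf, map_mul, map_mul, hf.involutive,
      eq_neg_of_add_eq_zero_right hc, show f v y = -e by rw [he, neg_neg], map_neg]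
    rw [hcd]
    have := O.two
    field_simp
    ring
  push Not at hy
  obtain ⟨p, hp, hpp, hsp⟩ := exists_partner S hs hs0 hss
  obtain ⟨w₁, w₂, Φ⟩ := exists_frame_pair S hs hp hss hpp hsp
  obtain ⟨s1, s2, s3, s4, s5, -⟩ := Φ.swap' S
  have hexp : v - (f v p / f s p) • s = 0 := by
    refine Φ.eq_zero S ?_ ?_ ?_ ?_
    · rw [Unit.sub_left hf, Unit.smul_left hf, hvs, hss]; ring
    · rw [Unit.sub_left hf, Unit.smul_left hf, div_mul_cancel₀ _ hsp, sub_self]
    · rw [Unit.sub_left hf, Unit.smul_left hf, hy w₁ Φ.r1 s1, s1]; ring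
    · rw [Unit.sub_left hf, Unit.smul_left hf, hy w₂ Φ.r2 s3, s3]; ring
  rw [sub_eq_zero] at hexp
  set k := f v p / f s p
  clear_value k
  have hk0 : k ≠ 0 := fun h0 => hv0 (by rw [hexp, h0, zero_smul])
  have hn0 : k * σ k ≠ 0 := mul_ne_zero hk0 ((RingEquiv.map_ne_zero_iff σ).2 hk0)
  intro c hc
  have h1 := h (c / (k * σ k)) (by
    rw [map_div₀, map_mul, hf.involutive, mul_comm (σ k) k, ← add_div, hc, zero_div])
  rwa [hexp, Unit.formTv_smul hf k hss, mul_div_cancel₀ _ hn0] at h1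

/-- A rational singular full centre. -/
theorem exists_full_rational {a b : Fin n → F} (ha : Rv F₀ a) (hb : Rv F₀ b)
    (hv : f (a + θ • b) (a + θ • b) = 0) (hD : f a a * f b b - f a b * f a b ≠ 0)
    (h : Full σ f M (a + θ • b)) : ∃ s, Rv F₀ s ∧ s ≠ 0 ∧ f s s = 0 ∧ Full σ f M s := by
  have S := O.toSetting
  have hf := O.unit
  obtain ⟨y₁, y₂, Φ⟩ := exists_frame S ha hb hD
  obtain ⟨s1, s2, s3, s4, s5, hba⟩ := Φ.swap' S
  have hfaa := form_self O ha hb hv
  set D := f a a * f b b - f a b * f a b with hDdef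
  have hDm : D ∈ F₀ := F₀.sub_mem (F₀.mul_mem (O.rat a a ha ha) (O.rat b b hb hb))
    (F₀.mul_mem (O.rat a b ha hb) (O.rat a b ha hb))
  obtain ⟨P, R, hP, hR, hPR, hG⟩ : ∃ P R : F, P ∈ F₀ ∧ R ∈ F₀ ∧ P + θ * R ≠ 0 ∧
      f a b * (P * P + θ * θ * (R * R)) - 2 * (θ * θ) * f b b * P * R ≠ 0 := by
    by_cases hab : f a b = 0
    · refine ⟨1, 1, F₀.one_mem, F₀.one_mem, fun h0 => one_ne_zero
        (theta_indep O F₀.one_mem F₀.one_mem h0).1, ?_⟩
      have hbb : f b b ≠ 0 := fun h0 => hD (by rw [hDdef, h0, hab]; ring)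
      rw [hab]
      simp [O.two, O.theta_ne, hbb]
    · exact ⟨1, 0, F₀.one_mem, F₀.zero_mem, by simp, by simpa using hab⟩
  obtain ⟨r, q, hza, hzb, hr, hq⟩ := solve S ha hb hD P R
  obtain ⟨r', q', hza', hzb', hr', hq'⟩ := solve S ha hb hD (-(θ * θ) * R) (-P)
  have hA := O.rat a a ha ha
  have hAB := O.rat a b ha hb
  have hB := O.rat b b hb hb
  have hrm : r ∈ F₀ := hr ▸ F₀.div_mem (F₀.sub_mem (F₀.mul_mem hB hP) (F₀.mul_mem hAB hR)) hDm
  have hqm : q ∈ F₀ := hq ▸ F₀.div_mem (F₀.sub_mem (F₀.mul_mem hA hR) (F₀.mul_mem hAB hP)) hDm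
  have hR' : -(θ * θ) * R ∈ F₀ := F₀.mul_mem (F₀.neg_mem (delta_mem O)) hR
  have hrm' : r' ∈ F₀ := hr' ▸ F₀.div_mem (F₀.sub_mem (F₀.mul_mem hB hR') (F₀.mul_mem hAB (F₀.neg_mem hP))) hDm
  have hqm' : q' ∈ F₀ := hq' ▸ F₀.div_mem (F₀.sub_mem (F₀.mul_mem hA (F₀.neg_mem hP)) (F₀.mul_mem hAB hR')) hDm
  set z := r • a + q • b with hz
  set z' := r' • a + q' • b with hz'
  have hzr : Rv F₀ z := (ha.smul hrm).add (hb.smul hqm)
  have hzr' : Rv F₀ z' := (ha.smul hrm').add (hb.smul hqm')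
  have hzz' : f z z' ≠ 0 := by
    have e : f z z' = r' * P + q' * R := by
      conv_lhs => arg 2; rw [hz']
      rw [Unit.add_right hf, S.smul_right' hrm', S.smul_right' hqm', hza, hzb]
    rw [e, hr', hq']
    intro h0
    apply hG
    rw [div_mul_eq_mul_div, div_mul_eq_mul_div, ← add_div, div_eq_zero_iff] at h0
    have h1 := h0.resolve_right hD
    rw [hfaa] at h1
    linear_combination h1
  have hzy : ∀ x : Fin n → F, f a x = 0 → f b x = 0 → f z x = 0 ∧ f z' x = 0 := fun x h1 h2 => by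
    constructor
    · rw [hz, Unit.add_left hf, Unit.smul_left hf, Unit.smul_left hf, h1, h2]; ring
    · rw [hz', Unit.add_left hf, Unit.smul_left hf, Unit.smul_left hf, h1, h2]; ring
  obtain ⟨x₁, x₂, hx1, hx2, hxx⟩ := exists_rep S Φ.r1 Φ.r2 Φ.e21 Φ.n1 Φ.n2 (F₀.neg_mem (O.rat z z hzr hzr))
  obtain ⟨x₃, x₄, hx3, hx4, hxx'⟩ := exists_rep S Φ.r1 Φ.r2 Φ.e21 Φ.n1 Φ.n2 (F₀.neg_mem (O.rat z' z' hzr' hzr'))
  set p := x₁ • y₁ + x₂ • y₂ with hp
  set p' := x₃ • y₁ + x₄ • y₂ with hp'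
  have hpr : Rv F₀ p := (Φ.r1.smul hx1).add (Φ.r2.smul hx2)
  have hpr' : Rv F₀ p' := (Φ.r1.smul hx3).add (Φ.r2.smul hx4)
  have hperp : ∀ x : Fin n → F, (f a x = 0 ∧ f b x = 0) → f z x = 0 ∧ f z' x = 0 := fun x h => hzy x h.1 h.2
  have hap : f a p = 0 ∧ f b p = 0 := by
    constructor <;> simp [hp, Unit.add_right hf, S.smul_right' hx1, S.smul_right' hx2, s1, s2, s3, s4]
  have hap' : f a p' = 0 ∧ f b p' = 0 := by
    constructor <;> simp [hp', Unit.add_right hf, S.smul_right' hx3, S.smul_right' hx4, s1, s2, s3, s4]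
  set v := a + θ • b with hvdef
  have hvp : f v p = 0 := by rw [hvdef, Unit.add_left hf, Unit.smul_left hf, hap.1, hap.2]; ring
  have hvp' : f v p' = 0 := by rw [hvdef, Unit.add_left hf, Unit.smul_left hf, hap'.1, hap'.2]; ring
  have hvz : f v z = P + θ * R := by
    rw [hvdef, Unit.add_left hf, Unit.smul_left hf, S.symm ha hzr, S.symm hb hzr, hza, hzb]
  have hvz' : f v z' = -(θ * θ) * R - θ * P := by
    rw [hvdef, Unit.add_left hf, Unit.smul_left hf, S.symm ha hzr', S.symm hb hzr', hza', hzb']; ring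
  -- choose the sign
  obtain ⟨p₂, hp2r, hp2, hzp2, hz'p2, hvp2, he⟩ : ∃ p₂, Rv F₀ p₂ ∧ f p₂ p₂ = -f z' z' ∧ f z p₂ = 0 ∧
      f z' p₂ = 0 ∧ f v p₂ = 0 ∧ f z z' + f p p₂ ≠ 0 := by
    by_cases h1 : f z z' + f p p' = 0
    · refine ⟨(-1 : F) • p', hpr'.smul (F₀.neg_mem F₀.one_mem), ?_, ?_, ?_, ?_, ?_⟩
      · rw [← hxx', Unit.smul_left hf, S.smul_right' (F₀.neg_mem F₀.one_mem)]; ring
      · rw [S.smul_right' (F₀.neg_mem F₀.one_mem), (hperp p' hap').1, mul_zero]
      · rw [S.smul_right' (F₀.neg_mem F₀.one_mem), (hperp p' hap').2, mul_zero]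
      · rw [S.smul_right' (F₀.neg_mem F₀.one_mem), hvp', mul_zero]
      · rw [S.smul_right' (F₀.neg_mem F₀.one_mem)]
        intro h2
        exact mul_ne_zero O.two hzz' (by linear_combination h1 + h2)
    · exact ⟨p', hpr', hxx', (hperp p' hap').1, (hperp p' hap').2, hvp', h1⟩
  set s := z + p with hsd
  set s' := z' + p₂ with hsd'
  have hsr : Rv F₀ s := hzr.add hpr
  have hsr' : Rv F₀ s' := hzr'.add hp2r
  have hss : f s s = 0 := by
    simp [hsd, Unit.add_left hf, Unit.add_right hf, hxx, (hperp p hap).1, Unit.eq_zero_comm hf (hperp p hap).1]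
  have hss' : f s' s' = 0 := by
    simp [hsd', Unit.add_left hf, Unit.add_right hf, hp2, hz'p2, Unit.eq_zero_comm hf hz'p2]
  set e := f s s' with hed
  have he' : e = f z z' + f p p₂ := by
    simp [hed, hsd, hsd', Unit.add_left hf, Unit.add_right hf, hzp2, Unit.eq_zero_comm hf (hperp p hap).2]
  have he0 : e ≠ 0 := by rw [he']; exact he
  have hs0 : s ≠ 0 := fun h0 => he0 (by rw [hed, h0, Unit.zero_left hf])
  set e1 := P + θ * R with he1d
  have hvs : f v s = e1 := by rw [hsd, Unit.add_right hf, hvz, hvp, add_zero]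
  have hvs' : f v s' = -θ * e1 := by rw [hsd', Unit.add_right hf, hvz', hvp2, add_zero, he1d]; ring
  have hem : e ∈ F₀ := O.rat s s' hsr hsr'
  obtain ⟨μ, hμm, hμ0, hμ1⟩ := O.five
  have hes : f s' s = e := by rw [hed, S.symm hsr' hsr]
  have hd1 : f (s - s') (s - s') = -(2 * e) := by
    simp [Unit.sub_left hf, Unit.sub_right hf, hss, hss', ← hed, hes]; ring
  have hd2 : f (s - μ • s') (s - μ • s') = -(2 * (μ * e)) := by
    simp [Unit.sub_left hf, Unit.sub_right hf, Unit.smul_left hf, S.smul_right' hμm, hss, hss', ← hed, hes]; ring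
  have hd1' : f (s - s') (s - s') ≠ 0 := by rw [hd1, neg_ne_zero]; exact mul_ne_zero O.two he0
  have hd2' : f (s - μ • s') (s - μ • s') ≠ 0 := by
    rw [hd2, neg_ne_zero]; exact mul_ne_zero O.two (mul_ne_zero hμ0 he0)
  set g := refl f (s - μ • s') * refl f (s - s') with hgd
  have hg : g ∈ M := refl_pair_mem O (hsr.sub (hsr'.smul hμm)) (hsr.sub hsr') hd2' hd1'
  set cs := -θ * e1 * (μ⁻¹ - 1) / e with hcs
  set cs' := e1 * (μ - 1) / e with hcs'
  have hgv : (g : Matrix (Fin n) (Fin n) F) *ᵥ v = v + cs • s + cs' • s' := by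
    rw [hgd, gl_mul_mulVec, refl_mulVec S hd1', refl_mulVec S hd2', hd1, hd2]
    simp only [Unit.add_left hf, Unit.smul_left hf, Unit.sub_left hf, Unit.sub_right hf, S.smul_right' hμm, hvs,
      hvs', hss, hss', ← hed, hes, hcs, hcs']
    have := O.two
    match_scalars <;> field_simp <;> ring
  set hv' := (g : Matrix (Fin n) (Fin n) F) *ᵥ v with hhv
  have hFv : f v hv' = θ * (e1 * σ e1) * (μ⁻¹ - μ) / e := by
    rw [hgv, Unit.add_right hf, Unit.add_right hf, hv, Unit.smul_right hf, Unit.smul_right hf, hvs, hvs', hcs, hcs']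
    simp only [map_div₀, map_mul, map_neg, map_sub, map_inv₀, map_one, O.theta, (O.fixed _).2 hμm,
      (O.fixed _).2 hem]
    ring
  have hhvs : f hv' s = μ * e1 := by
    rw [hgv, Unit.add_left hf, Unit.add_left hf, Unit.smul_left hf, Unit.smul_left hf, hvs, hss, hes, hcs']
    field_simp
    ring
  have hμμ : μ⁻¹ - μ ≠ 0 := fun h0 => hμ1 (by
    have := congrArg (fun x => μ * x) h0
    simp only [mul_sub, mul_inv_cancel₀ hμ0, mul_zero] at this
    exact (sub_eq_zero.1 this).symm)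
  have hFv0 : f v hv' ≠ 0 := by
    rw [hFv]
    exact div_ne_zero (mul_ne_zero (mul_ne_zero O.theta_ne (mul_ne_zero hPR
      ((RingEquiv.map_ne_zero_iff σ).2 hPR))) hμμ) he0
  set c := -1 / (μ * f v hv') with hcd
  have hσFv : σ (f v hv') = -f v hv' := by
    rw [hFv]
    simp only [map_div₀, map_mul, map_sub, map_inv₀, hf.involutive, O.theta, (O.fixed _).2 hμm, (O.fixed _).2 hem]
    ring
  have hc : c + σ c = 0 := by
    rw [hcd, map_div₀, map_neg, map_one, map_mul, (O.fixed _).2 hμm, hσFv, mul_neg, div_neg]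
    ring
  have hvv' : f hv' hv' = 0 := by rw [hhv, O.isometry g hg, hv]
  have hT := full_conj O hg hv h c hc
  rw [← hhv] at hT
  set v'' := (formTv f hv' c : Matrix (Fin n) (Fin n) F) *ᵥ v with hv''
  have hv''s : f v'' s = 0 := by
    rw [hv'', Unit.formTv_mulVec hf hvv', Unit.add_left hf, Unit.smul_left hf, hvs, hhvs, hcd]
    field_simp
    ring
  have hv0 : v ≠ 0 := fun h0 => hPR (by rw [← hvz, h0, Unit.zero_left hf])
  exact ⟨s, hsr, hs0, hss, full_of_orth O ((O.isometry _ hT v v).trans hv) (gl_mulVec_ne_zero _ hv0)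
    (full_conj O hT hv h) hsr hs0 hss hv''s⟩

/-- An image of a rational singular vector in general position. -/
theorem exists_gen_moved {g : GL (Fin n) F} (hg : g ∈ M) (hnot : g ∉ ratScalar F₀ (Fin n)) :
    ∃ u, Rv F₀ u ∧ f u u = 0 ∧
      f ((g : Matrix (Fin n) (Fin n) F) *ᵥ u) (bar σ ((g : Matrix (Fin n) (Fin n) F) *ᵥ u)) ≠ 0 := by
  have hf := O.unit
  have hS := O.toSetting
  have h13 := O.four
  by_contra hcon
  push Not at hcon
  set Φ : (Fin n → F) → (Fin n → F) → F := fun x y =>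
    f ((g : Matrix (Fin n) (Fin n) F) *ᵥ x) (bar σ ((g : Matrix (Fin n) (Fin n) F) *ᵥ y)) with hΦdef
  have hΦl : ∀ x y z, Φ (x + y) z = Φ x z + Φ y z := fun x y z => by simp only [Φ, mulVec_add, Unit.add_left hf]
  have hΦr : ∀ x y z, Φ x (y + z) = Φ x y + Φ x z := fun x y z => by
    simp only [Φ, mulVec_add, bar_add O, Unit.add_right hf]
  have hΦs : ∀ (k : F) x y, Φ (k • x) y = k * Φ x y := fun k x y => by simp only [Φ, mulVec_smul, Unit.smul_left hf]
  have hΦs' : ∀ (k : F) x y, Φ x (k • y) = k * Φ x y := fun k x y => by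
    simp only [Φ, mulVec_smul, bar_smul O, Unit.smul_right hf, hf.involutive]
  have hbarsymm : ∀ X Y, f X (bar σ Y) = f Y (bar σ X) := by
    intro X Y
    obtain ⟨a, b, ha, hb, rfl⟩ := decomp O X
    obtain ⟨c, d, hc, hd, rfl⟩ := decomp O Y
    simp only [bar_add O, bar_smul O, bar_rv O ha, bar_rv O hb, bar_rv O hc, bar_rv O hd, O.theta,
      Unit.add_left hf, Unit.add_right hf, Unit.smul_left hf, Unit.smul_right hf, map_neg, hS.symm hc ha,
      hS.symm hc hb, hS.symm hd ha, hS.symm hd hb]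
    ring
  have hsym : ∀ x y, Φ x y = Φ y x := fun x y => hbarsymm _ _
  have hcone : ∀ s, Rv F₀ s → f s s = 0 → Φ s s = 0 := fun s hs hss => hcon s hs hss
  obtain ⟨u, hu, hu0, huu⟩ := exists_singular hS
  obtain ⟨p, hp, hpp, hup⟩ := exists_partner hS hu hu0 huu
  have hpu : f p u ≠ 0 := by rw [hS.symm hp hu]; exact hup
  set κ := Φ u p / f u p with hκ
  have haux : ∀ u p z : Fin n → F, Rv F₀ u → Rv F₀ p → Rv F₀ z → f u u = 0 → f p p = 0 → f u p ≠ 0 → f z u = 0 →
      f z p = 0 → Φ z z = Φ u p / f u p * f z z ∧ Φ p z = 0 := by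
    intro u p z hu hp hz huu hpp hup hzu hzp
    set k := - f z z / (2 * f u p) with hk
    have hkF : k ∈ F₀ := F₀.div_mem (F₀.neg_mem (O.rat _ _ hz hz)) (F₀.mul_mem (two_mem O) (O.rat _ _ hu hp))
    have hk2 : k * (2 * f u p) = - f z z := div_mul_cancel₀ _ (mul_ne_zero O.two hup)
    clear_value k
    have hexp : ∀ t ∈ F₀, t ≠ 0 →
        2 * k * t * Φ p u + 2 * Φ p z + t * Φ z z + 2 * k * (t * t) * Φ z u = 0 := by
      intro t ht ht0
      have htk : k * (t * t) ∈ F₀ := F₀.mul_mem hkF (F₀.mul_mem ht ht)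
      have h := hcone (p + t • z + (k * (t * t)) • u) ((hp.add (hz.smul ht)).add (hu.smul htk)) (by
        simp only [Unit.add_left hf, Unit.add_right hf, Unit.smul_left hf, hS.smul_right' htk, hS.smul_right' ht, hpp,
          huu, hzu, hzp, hS.symm hu hz, hS.symm hp hz, hS.symm hp hu]
        linear_combination t * t * hk2)
      simp only [hΦl, hΦr, hΦs, hΦs', hcone u hu huu, hcone p hp hpp, hsym z p, hsym u p, hsym u z] at h
      refine (mul_eq_zero.1 (show t * (2 * k * t * Φ p u + 2 * Φ p z + t * Φ z z +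
        2 * k * (t * t) * Φ z u) = 0 by linear_combination h)).resolve_left ht0
    obtain ⟨t, htm, ht0, ht1⟩ := O.five
    have E1 := hexp 1 F₀.one_mem one_ne_zero
    have E2 := hexp (-1) (F₀.neg_mem F₀.one_mem) (neg_ne_zero.2 one_ne_zero)
    have E3 := hexp t htm ht0
    have hev : 2 * k * Φ p u + Φ z z = 0 :=
      mul_left_cancel₀ O.two (show 2 * (2 * k * Φ p u + Φ z z) = 2 * 0 by linear_combination E1 - E2)
    have hkzu : k * Φ z u = 0 := by
      have e : (2 * (t * t - 1)) * (k * Φ z u) = 0 := by linear_combination E3 - E1 - (t - 1) * hev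
      exact (mul_eq_zero.1 e).resolve_left (mul_ne_zero O.two (sub_ne_zero.2 ht1))
    refine ⟨?_, mul_left_cancel₀ O.two (show 2 * Φ p z = 2 * 0 by linear_combination E1 - hev - 2 * hkzu)⟩
    rw [div_mul_eq_mul_div, eq_div_iff hup, hsym u p]
    linear_combination f u p * hev - Φ p u * hk2
  have hW : ∀ z, Rv F₀ z → f z u = 0 → f z p = 0 → Φ u z = 0 ∧ Φ p z = 0 ∧ Φ z z = κ * f z z := by
    intro z hz hzu hzp
    obtain ⟨e3, e2⟩ := haux u p z hu hp hz huu hpp hup hzu hzp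
    exact ⟨(haux p u z hp hu hz hpp huu hpu hzp hzu).2, e2, e3⟩
  have hdiag : ∀ x, Rv F₀ x → Φ x x = κ * f x x := by
    intro x hx
    set z := x - (f x p / f u p) • u - (f x u / f u p) • p with hzdef
    have hA : f x p / f u p ∈ F₀ := F₀.div_mem (O.rat _ _ hx hp) (O.rat _ _ hu hp)
    have hB : f x u / f u p ∈ F₀ := F₀.div_mem (O.rat _ _ hx hu) (O.rat _ _ hu hp)
    have hz : Rv F₀ z := (hx.sub (hu.smul hA)).sub (hp.smul hB)
    have hzu : f z u = 0 := by
      simp only [hzdef, Unit.sub_left hf, Unit.smul_left hf, huu, hS.symm hp hu]; field_simp; ring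
    have hzp : f z p = 0 := by
      simp only [hzdef, Unit.sub_left hf, Unit.smul_left hf, hpp]; field_simp; ring
    obtain ⟨e1, e2, e3⟩ := hW z hz hzu hzp
    have hx' : x = z + (f x p / f u p) • u + (f x u / f u p) • p := by rw [hzdef]; abel
    rw [hx']
    simp only [hΦl, hΦr, hΦs, hΦs', hsym z u, hsym z p, e1, e2, e3, hcone u hu huu, hcone p hp hpp, hsym p u,
      Unit.add_left hf, Unit.add_right hf, Unit.smul_left hf, hS.smul_right' hA, hS.smul_right' hB, huu, hpp,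
      hzu, hzp, hS.symm hu hz, hS.symm hp hz, hS.symm hp hu, hκ]
    field_simp
    ring
  refine hnot (mem_ratScalar_of_lines' g (by omega) fun y hy => ?_)
  have hpol : ∀ x, Rv F₀ x → Φ x y = κ * f x y := by
    intro x hx
    have h := hdiag (x + y) (hx.add hy)
    simp only [hΦl, hΦr, hdiag x hx, hdiag y hy, hsym y x, Unit.add_left hf, Unit.add_right hf,
      hS.symm hy hx] at h
    exact mul_left_cancel₀ O.two (by linear_combination h)
  have hk : bar σ ((g : Matrix (Fin n) (Fin n) F) *ᵥ y) = σ κ • ((g : Matrix (Fin n) (Fin n) F) *ᵥ y) := by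
    obtain ⟨w, hw⟩ : ∃ w, bar σ ((g : Matrix (Fin n) (Fin n) F) *ᵥ y) - σ κ • ((g : Matrix (Fin n) (Fin n) F) *ᵥ y) =
        (g : Matrix (Fin n) (Fin n) F) *ᵥ w :=
      ⟨_, (gl_mulVec_inv_mulVec g _).symm⟩
    have hw0 : w = 0 := by
      by_contra hne
      obtain ⟨-, z, hz⟩ := hf.nondegenerate w hne
      apply hz
      have hall : ∀ x, Rv F₀ x → f x w = 0 := fun x hx => by
        rw [← O.isometry g hg x w, ← hw, Unit.sub_right hf, Unit.smul_right hf, hf.involutive,
          O.isometry g hg]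
        exact sub_eq_zero.2 (hpol x hx)
      rw [pi_eq_sum_univ' z, (Unit.sesq hf).sum_right]
      refine Finset.sum_eq_zero fun i _ => ?_
      rw [Unit.smul_right hf, hf.herm w, hall _ (Rv.single i), map_zero, mul_zero]
    rw [hw0, mulVec_zero, sub_eq_zero] at hw
    exact hw
  obtain ⟨a, b, ha, hb, hab⟩ := decomp O ((g : Matrix (Fin n) (Fin n) F) *ᵥ y)
  rw [hab, bar_add O, bar_smul O, bar_rv O ha, bar_rv O hb, O.theta] at hk
  by_cases hk1 : σ κ = 1
  · refine ⟨1, a, ha, ?_⟩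
    rw [hk1, one_smul] at hk
    have hb0 : (2 * θ) • b = 0 := by
      rw [← sub_eq_zero] at hk
      rw [show (2 * θ) • b = -(a + -θ • b - (a + θ • b)) by module, hk, neg_zero]
    rw [hab, (smul_eq_zero.1 hb0).resolve_left (mul_ne_zero O.two O.theta_ne)]
    simp
  · refine ⟨θ * (1 + σ κ) / (1 - σ κ) + θ, b, hb, ?_⟩
    have h1 : (1 - σ κ) • a = (θ * (1 + σ κ)) • b := by
      rw [← sub_eq_zero] at hk ⊢
      rw [← hk]
      module
    have hne : (1 : F) - σ κ ≠ 0 := sub_ne_zero.2 (Ne.symm hk1)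
    rw [hab, add_smul, div_eq_inv_mul, mul_smul, ← h1, smul_smul, inv_mul_cancel₀ hne, one_smul]


/-- Some rational singular centre. -/
theorem exists_rational_centre {g : GL (Fin n) F} (hg : g ∈ M) (hnot : g ∉ ratScalar F₀ (Fin n)) :
    ∃ s, Rv F₀ s ∧ s ≠ 0 ∧ f s s = 0 ∧ Full σ f M s := by
  have S := O.toSetting
  have hf := O.unit
  obtain ⟨u, hu, huu, hns⟩ := exists_gen_moved O hg hnot
  obtain ⟨a, b, ha, hb, hab⟩ := decomp O ((g : Matrix (Fin n) (Fin n) F) *ᵥ u)
  have hv : f (a + θ • b) (a + θ • b) = 0 := by rw [← hab, O.isometry g hg, huu]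
  have hD : f a a * f b b - f a b * f a b ≠ 0 := by
    refine det_ne O ha hb hv ?_
    by_contra hc
    push Not at hc
    apply hns
    rw [hab, bar_add O, bar_smul O, bar_rv O ha, bar_rv O hb]
    simp only [Unit.add_left hf, Unit.add_right hf, Unit.smul_left hf, Unit.smul_right hf, hf.involutive,
      S.symm hb ha, hc.1, hc.2, form_self O ha hb hv]
    ring
  have hu0 : u ≠ 0 := by
    rintro rfl
    exact hns (by rw [mulVec_zero, Unit.zero_left hf])
  obtain ⟨p, hp, hpp, hup⟩ := exists_partner S hu hu0 huu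
  obtain ⟨w₁, w₂, Φu⟩ := exists_frame_pair S hu hp huu hpp hup
  rcases stage O hg Φu huu ha hb hab hD with hfull | ⟨-, a', b', q, ha', hb', hq, hv', hD', hqa, hqb, hqq, hk⟩
  · exact exists_full_rational O ha hb hv hD hfull
  · obtain ⟨a₁, b₁, ha1, hb1, hv1, hD1, hfull⟩ := full_of_siegel O ha' hb' hq hv' hD' hqa hqb hqq hk
    exact exists_full_rational O ha1 hb1 hv1 hD1 hfull

/-- All transvections at rational singular centres. -/
theorem rational_centres {g : GL (Fin n) F} (hg : g ∈ M) (hnot : g ∉ ratScalar F₀ (Fin n)) {s' : Fin n → F}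
    (hs' : Rv F₀ s') (hss' : f s' s' = 0) {c' : F} (hc' : c' + σ c' = 0) : formTv f s' c' ∈ M := by
  have hf := O.unit
  obtain ⟨s, hs, hs0, hss, hfull⟩ := exists_rational_centre O hg hnot
  by_cases hs'0 : s' = 0
  · subst hs'0
    rw [show formTv f (0 : Fin n → F) c' = 1 from gl_ext fun x => by
      rw [Unit.formTv_mulVec hf hss']; simp]
    exact M.one_mem
  obtain ⟨h, hh, e⟩ := exists_move O hs hs' hs0 hs'0 hss hss'
  have := full_conj O hh hss hfull c' hc'
  rwa [e] at this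

/-- A singular vector orthogonal to one of two orthogonal singular vectors only. -/
theorem exists_singular_orth_ne {a b : Fin n → F} (ha : Rv F₀ a) (hb : Rv F₀ b) (haa : f a a = 0)
    (hab : f a b = 0) (hin : a ∉ Submodule.span F ({b} : Set (Fin n → F))) :
    ∃ y, Rv F₀ y ∧ f y y = 0 ∧ f b y = 0 ∧ f a y ≠ 0 := by
  have S := O.toSetting
  have hf := O.unit
  obtain ⟨y, hy, hyd, hya⟩ := exists_orth_ne S (k := 1) ![b] (fun i => by fin_cases i; exact hb) ha
    (by simpa using hin)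
  have hyb : f y b = 0 := hyd 0
  have hkm : -f y y / (2 * f y a) ∈ F₀ :=
    F₀.div_mem (F₀.neg_mem (O.rat y y hy hy)) (F₀.mul_mem (two_mem O) (O.rat y a hy ha))
  refine ⟨y + (-f y y / (2 * f y a)) • a, hy.add (ha.smul hkm), ?_, ?_, ?_⟩
  · simp only [Unit.add_left hf, Unit.add_right hf, Unit.smul_left hf, S.smul_right' hkm, haa, S.symm ha hy]
    have := O.two
    field_simp
    ring
  · rw [Unit.add_right hf, S.smul_right' hkm, S.symm hb hy, hyb, S.symm hb ha, hab, mul_zero, add_zero]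
  · rw [Unit.add_right hf, S.smul_right' hkm, haa, mul_zero, add_zero, S.symm ha hy]
    exact hya

/-- All transvections. -/
theorem all_centres {g : GL (Fin n) F} (hg : g ∈ M) (hnot : g ∉ ratScalar F₀ (Fin n)) {v : Fin n → F}
    (hv : f v v = 0) {c : F} (hc : c + σ c = 0) : formTv f v c ∈ M := by
  have hf := O.unit
  have hS := O.toSetting
  set C : Set (Fin n → F) := {x | ∀ c, c + σ c = 0 → formTv f x c ∈ M} with hC
  have hrat : ∀ t, Rv F₀ t → f t t = 0 → t ∈ C := fun t ht htt c hc => rational_centres O hg hnot ht htt hc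
  have hback : ∀ x y k, f x x = 0 → Rv F₀ y → f y y = 0 → k ∈ F₀ →
      x + (θ * k * f x y) • y ∈ C → x ∈ C := by
    intro x y k hx hy hyy hk h d hd
    have hk' : θ * k + σ (θ * k) = 0 := by rw [map_mul, O.theta, (O.fixed k).2 hk]; ring
    have ht := rational_centres O hg hnot hy hyy hk'
    have e : formTv f (x + (θ * k * f x y) • y) d = formTv f y (θ * k) * formTv f x d * (formTv f y (θ * k))⁻¹ := by
      have hxt : (formTv f y (θ * k) : Matrix (Fin n) (Fin n) F) *ᵥ x = x + (θ * k * f x y) • y :=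
        Unit.formTv_mulVec hf hyy _ _
      have hiso := O.isometry _ ht
      rw [← root_zero hf hx, root_conj hf hiso hx (Unit.zero_right hf x), mulVec_zero, hxt,
        root_zero hf (by rw [← hxt, hiso, hx])]
    have h1 := h d hd
    rw [e] at h1
    have h2 := M.mul_mem (M.mul_mem (M.inv_mem ht) h1) ht
    simpa [mul_assoc] using h2
  have hdep : ∀ r : F, ∀ w, Rv F₀ w → f (r • w) (r • w) = 0 → r • w ∈ C := by
    intro r w hw hrw d hd
    by_cases hr : r = 0
    · subst hr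
      rw [show formTv f ((0 : F) • w) d = 1 from gl_ext fun x => by rw [Unit.formTv_mulVec hf hrw]; simp]
      exact M.one_mem
    have hww : f w w = 0 := by
      rw [Unit.smul_left hf, Unit.smul_right hf] at hrw
      exact ((mul_eq_zero.1 hrw).resolve_left hr |> mul_eq_zero.1).resolve_left ((RingEquiv.map_ne_zero_iff σ).2 hr)
    rw [Unit.formTv_smul hf r hww]
    refine rational_centres O hg hnot hw hww ?_
    rw [map_mul, map_mul, hf.involutive]
    linear_combination (r * σ r) * hd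
  -- pairs with singular second component
  have hsing : ∀ a b, Rv F₀ a → Rv F₀ b → f (a + θ • b) (a + θ • b) = 0 → f b b = 0 → f a b ≠ 0 →
      a + θ • b ∈ C := by
    intro a b ha hb h hbb hab
    refine hback _ b (-(f a b)⁻¹) h hb hbb (F₀.neg_mem (F₀.inv_mem (O.rat _ _ ha hb))) ?_
    have e : a + θ • b + (θ * -(f a b)⁻¹ * f (a + θ • b) b) • b = a := by
      rw [Unit.add_left hf, Unit.smul_left hf, hbb]
      match_scalars <;> field_simp <;> ring
    rw [e]
    exact hrat a ha (by rw [form_self O ha hb h, hbb, mul_zero])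
  obtain ⟨a, b, ha, hb, rfl⟩ := decomp O v
  suffices H : a + θ • b ∈ C from H c hc
  by_cases hb0 : b = 0
  · rw [hb0, smul_zero, add_zero, ← one_smul F a]
    exact hdep 1 a ha (by rwa [hb0, smul_zero, add_zero, ← one_smul F a] at hv)
  by_cases hline : ∃ r : F, a = r • b
  · obtain ⟨r, rfl⟩ := hline
    rw [← add_smul] at hv ⊢
    exact hdep _ b hb hv
  push Not at hline
  have hmove : ∀ y k, Rv F₀ y → k ∈ F₀ →
      Rv F₀ (a + (θ * θ * k * f b y) • y) ∧ Rv F₀ (b + (k * f a y) • y) ∧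
      a + θ • b + (θ * k * f (a + θ • b) y) • y =
        (a + (θ * θ * k * f b y) • y) + θ • (b + (k * f a y) • y) := fun y k hy hk =>
    ⟨ha.add (hy.smul (F₀.mul_mem (F₀.mul_mem (delta_mem O) hk) (O.rat _ _ hb hy))),
      hb.add (hy.smul (F₀.mul_mem hk (O.rat _ _ ha hy))), by
        rw [Unit.add_left hf, Unit.smul_left hf]; module⟩
  have hiso : ∀ y k, Rv F₀ y → f y y = 0 → k ∈ F₀ →
      f ((a + (θ * θ * k * f b y) • y) + θ • (b + (k * f a y) • y))
        ((a + (θ * θ * k * f b y) • y) + θ • (b + (k * f a y) • y)) = 0 := by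
    intro y k hy hyy hk
    have hk' : θ * k + σ (θ * k) = 0 := by rw [map_mul, O.theta, (O.fixed k).2 hk]; ring
    have ht := rational_centres O hg hnot hy hyy hk'
    rw [← (hmove y k hy hk).2.2, ← Unit.formTv_mulVec hf hyy (θ * k) (a + θ • b), O.isometry _ ht, hv]
  by_cases hbb : f b b = 0
  · by_cases hab : f a b = 0
    · obtain ⟨y, hy, hyy, hyb, hay⟩ := exists_singular_orth_ne O ha hb (by rw [form_self O ha hb hv, hbb, mul_zero])
        hab (fun hin => by
          obtain ⟨r, hr⟩ := Submodule.mem_span_singleton.1 hin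
          exact hline r hr.symm)
      refine hback _ y 1 hv hy hyy F₀.one_mem ?_
      obtain ⟨h1, h2, h3⟩ := hmove y 1 hy F₀.one_mem
      rw [h3]
      refine hsing _ _ h1 h2 (hiso y 1 hy hyy F₀.one_mem) ?_ ?_
      · simp [Unit.add_left hf, Unit.add_right hf, Unit.smul_left hf, hS.smul_right' (O.rat _ _ ha hy),
          hbb, hyb, hyy, hS.symm hy hb]
      · rw [hyb, mul_zero, zero_smul, add_zero, one_mul, Unit.add_right hf,
          hS.smul_right' (O.rat _ _ ha hy), hab, zero_add]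
        exact mul_ne_zero hay hay
    · exact hsing a b ha hb hv hbb hab
  obtain ⟨y, hy, hyy, hya', hyb'⟩ := exists_both O (a := a) (b := b) (fun h0 => hline 0 (by rw [h0, zero_smul])) hb0
  have hby : f b y ≠ 0 := by rwa [hS.symm hb hy]
  have hay : f a y ≠ 0 := by rwa [hS.symm ha hy]
  set k := - f b b / (2 * f a y * f b y) with hk
  have hkF : k ∈ F₀ := F₀.div_mem (F₀.neg_mem (O.rat _ _ hb hb))
    (F₀.mul_mem (F₀.mul_mem (two_mem O) (O.rat _ _ ha hy)) (O.rat _ _ hb hy))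
  have hk2 : k * (2 * f a y * f b y) = - f b b := by
    rw [hk, div_mul_cancel₀ _ (mul_ne_zero (mul_ne_zero O.two hay) hby)]
  clear_value k
  refine hback _ y k hv hy hyy hkF ?_
  obtain ⟨h1, h2, h3⟩ := hmove y k hy hkF
  rw [h3]
  have hi := hiso y k hy hyy hkF
  set a₁ := a + (θ * θ * k * f b y) • y
  set b₁ := b + (k * f a y) • y
  have hbb1 : f b₁ b₁ = 0 := by
    simp only [b₁, Unit.add_left hf, Unit.add_right hf, Unit.smul_left hf,
      hS.smul_right' (F₀.mul_mem hkF (O.rat _ _ ha hy)), hS.symm hy hb, hyy]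
    linear_combination hk2
  by_cases hab1 : f a₁ b₁ = 0
  · by_cases hin : a₁ ∈ Submodule.span F {b₁}
    · obtain ⟨r, hr⟩ := Submodule.mem_span_singleton.1 hin
      rw [← hr, ← add_smul] at hi ⊢
      exact hdep _ b₁ h2 hi
    obtain ⟨z, hz, hzz, hzb, haz⟩ := exists_singular_orth_ne O h1 h2 (by rw [form_self O h1 h2 hi, hbb1, mul_zero])
      hab1 hin
    refine hback _ z 1 hi hz hzz F₀.one_mem ?_
    have e : a₁ + θ • b₁ + (θ * 1 * f (a₁ + θ • b₁) z) • z = a₁ + θ • (b₁ + f a₁ z • z) := by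
      rw [Unit.add_left hf, Unit.smul_left hf, hzb]; module
    rw [e]
    have hk' : θ * 1 + σ (θ * 1) = 0 := by rw [mul_one, O.theta]; ring
    refine hsing a₁ _ h1 (h2.add (hz.smul (O.rat _ _ h1 hz))) ?_ ?_ ?_
    · rw [← e, ← Unit.formTv_mulVec hf hzz (θ * 1) (a₁ + θ • b₁),
        O.isometry _ (rational_centres O hg hnot hz hzz hk'), hi]
    · simp only [Unit.add_left hf, Unit.add_right hf, Unit.smul_left hf, hS.smul_right' (O.rat _ _ h1 hz),
        hbb1, hzb, hzz, hS.symm hz h2]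
      ring
    · rw [Unit.add_right hf, hS.smul_right' (O.rat _ _ h1 hz), hab1, zero_add]
      exact mul_ne_zero haz haz
  · exact hsing a₁ b₁ h1 h2 hi hbb1 hab1

omit O

/-- The orthogonal subfield group is maximal. -/
theorem maximal_orthSubfield (S : Setting σ f F₀) (hθ0 : θ ≠ 0) (hθ : σ θ = -θ) {K : Subgroup (GL (Fin n) F)}
    (hKi : ∀ g ∈ K, Symp.IsIsometry f g)
    (hroot : ∀ u w γ, f u u = 0 → f u w = 0 → γ + σ γ = - f w w → root f u w γ ∈ K)
    (hSO : ∀ g : GL (Fin n) F, Symp.IsIsometry f g → g ∈ Cfsg.Geo.specialLinear (Fin n) F → g ∈ K)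
    (hgen : ∀ M : Subgroup (GL (Fin n) F), (∀ v, f v v = 0 → ∀ c, c + σ c = 0 → formTv f v c ∈ M) → K ≤ M) :
    Cfsg.Geo.IsMaximalIn K (ratScalar F₀ (Fin n) ⊓ K) := by
  have h13 := S.four
  have hf := S.unit
  haveI : NeZero (2 : F) := ⟨S.two⟩
  have hso : ∀ g : GL (Fin n) F, Symp.IsIsometry f g → g ∈ Cfsg.Geo.specialLinear (Fin n) F →
      (∀ x, Rv F₀ x → Rv F₀ ((g : Matrix (Fin n) (Fin n) F) *ᵥ x)) → g ∈ ratScalar F₀ (Fin n) ⊓ K :=
    fun g hg hd hr => ⟨mem_ratScalar_of_lines' _ (by omega) fun x hx => ⟨1, _, hr x hx, (one_smul F _).symm⟩,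
      hSO g hg hd⟩
  refine ⟨lt_of_le_of_ne inf_le_right fun he => ?_, fun M hle hMK => ?_⟩
  · have O : Over σ f F₀ θ K := { S with
      isometry := hKi
      so_mem := fun g hg hd hr => (hso g hg hd hr).2
      theta_ne := hθ0
      theta := hθ }
    obtain ⟨s, hs, hs0, hss⟩ := exists_singular S
    obtain ⟨p, hp, -, hsp⟩ := exists_partner S hs hs0 hss
    have hps : f p s ≠ 0 := by rwa [S.symm hp hs]
    have hmem := hroot s 0 θ hss (Unit.zero_right hf s) (by rw [hθ, Unit.zero_left hf]; ring)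
    rw [← he, root_zero hf hss] at hmem
    obtain ⟨c, hc, hcr⟩ := UnitSymp.ratScalar_rv hmem.1
    have e1 := hcr s hs
    rw [Unit.formTv_mulVec hf hss, hss, mul_zero, zero_smul, add_zero] at e1
    obtain ⟨i, hi⟩ := Function.ne_iff.1 hs0
    have hcF : c ∈ F₀ := by
      have := F₀.div_mem (e1 i) (hs i)
      rwa [Pi.smul_apply, smul_eq_mul, mul_div_cancel_right₀ _ (by simpa using hi)] at this
    have e2 := hcr p hp i
    rw [Unit.formTv_mulVec hf hss] at e2
    simp only [Pi.smul_apply, Pi.add_apply, smul_eq_mul] at e2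
    apply theta_notMem O
    have hk := F₀.div_mem (F₀.div_mem (F₀.sub_mem (F₀.div_mem e2 hcF) (hp i)) (hs i)) (S.rat p s hp hs)
    rwa [mul_div_cancel_left₀ _ hc, add_sub_cancel_left, mul_div_cancel_right₀ _ (by simpa using hi),
      mul_div_cancel_right₀ _ hps] at hk
  by_cases hall : M ≤ ratScalar F₀ (Fin n)
  · exact Or.inl (le_antisymm (le_inf hall hMK) hle)
  right
  refine le_antisymm hMK ?_
  have O : Over σ f F₀ θ M := { S with
    isometry := fun g hg => hKi g (hMK hg)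
    so_mem := fun g hg hd hr => hle (hso g hg hd hr)
    theta_ne := hθ0
    theta := hθ }
  obtain ⟨g, hgM, hg⟩ := SetLike.not_le_iff_exists.1 hall
  exact hgen M fun v hv c hc => all_centres O hgM hg hv hc

end CfsgLib.GeomClasses.UnitFourOrth
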