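import Cfsg.Agent.Lib.GeomClasses.UnitFour.SubRoot
import Cfsg.Agent.Lib.GeomClasses.UnitOrthRat
import Cfsg.Agent.Lib.GeomClasses.UnitSymp
import Cfsg.Agent.Lib.Tech46.CoprimeGen

/-!
A transvection with irrational centre gives a new coefficient; maximality of unitary subfield groups.
-/

set_option autoImplicit false
set_option linter.unusedSectionVars false

namespace CfsgLib.GeomClasses.UnitFourSub

open Matrix CfsgLib.GeomClasses.SkewPair
open CfsgLib.GeomClasses.SympRoot (Rv Rat')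

variable {n : ℕ} {F : Type*} [Field F] [Fintype F] {σ : F ≃+* F} {f : (Fin n → F) → (Fin n → F) → F}
  {F₀ : Subfield F}

theorem ratio_mem (S : Setting σ f F₀) {r₀ r s : Fin n → F} (hr₀ : Rv F₀ r₀) (hr : Rv F₀ r) (hs : Rv F₀ s)
    (h0 : r₀ ∉ Submodule.span F ({r} : Set (Fin n → F))) (h1 : r ∉ Submodule.span F ({r₀} : Set (Fin n → F)))
    {c d e : F} (h : c • r₀ + d • r = e • s) : c⁻¹ * d ∈ F₀ := by
  have H := S.toIsSkewHerm
  by_cases hc : c = 0
  · rw [hc, _root_.inv_zero, zero_mul]; exact F₀.zero_mem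
  obtain ⟨z, hz, -, hzr, hzr₀⟩ := exists_iso_ne S hr hr₀ h0
  obtain ⟨z', hz', -, hzr₀', hzr'⟩ := exists_iso_ne S hr₀ hr h1
  have e1 := congrArg (f z) h
  have e2 := congrArg (f z') h
  simp only [add_right H, smul_right H, hzr, hzr₀, hzr', hzr₀', mul_one, mul_zero, add_zero, zero_add] at e1 e2
  refine S.stable' ?_
  rw [map_mul, map_inv₀, e1, e2]
  have hσe : σ e ≠ 0 := fun h0 => hc (by simpa [h0] using e1)
  rw [show (σ e * f z s)⁻¹ * (σ e * f z' s) = f z' s / f z s by field_simp]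
  exact F₀.div_mem (S.rat _ _ hz' hs) (S.rat _ _ hz hs)

/-- A matrix mapping rational isotropic vectors to multiples of rational ones is rational up to a scalar. -/
theorem mem_ratScalar_of_iso_lines (S : Setting σ f F₀) (g : GL (Fin n) F)
    (h : ∀ a, Rv F₀ a → f a a = 0 → ∃ c : F, ∃ b, Rv F₀ b ∧ (g : Matrix (Fin n) (Fin n) F) *ᵥ a = c • b) :
    g ∈ SympRoot.ratScalar F₀ (Fin n) := by
  have H := S.toIsSkewHerm
  have := S.four
  obtain ⟨a, ha, haa, -, hn⟩ := exists_avoid S (fun _ => 0) (fun _ => 0) (fun _ => SympRoot.Rv.zero)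
    (fun _ => SympRoot.Rv.zero)
  have ha0 : a ≠ 0 := fun h0 => hn (by rw [h0]; exact Submodule.zero_mem _)
  obtain ⟨c, r₀, hr₀, hga⟩ := h a ha haa
  have hgne : ∀ {x : Fin n → F}, x ≠ 0 → (g : Matrix (Fin n) (Fin n) F) *ᵥ x ≠ 0 := fun {x} hx =>
    gl_mulVec_ne_zero g hx
  have hc0 : c ≠ 0 := fun h0 => hgne ha0 (by rw [hga, h0, zero_smul])
  have hr₀0 : r₀ ≠ 0 := fun h0 => hgne ha0 (by rw [hga, h0, smul_zero])
  have hcommon : ∀ b, Rv F₀ b → f b b = 0 → Rv F₀ (c⁻¹ • ((g : Matrix (Fin n) (Fin n) F) *ᵥ b)) := by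
    intro b hb hbb
    by_cases hin : b ∈ Submodule.span F ({a} : Set (Fin n → F))
    · obtain ⟨k, rfl⟩ := Submodule.mem_span_singleton.1 hin
      obtain ⟨i, hi⟩ := Function.ne_iff.1 ha0
      have hk : k ∈ F₀ := by
        have := F₀.div_mem (hb i) (ha i)
        rwa [Pi.smul_apply, smul_eq_mul, mul_div_cancel_right₀ _ (by simpa using hi)] at this
      rw [mulVec_smul, hga, smul_comm k, inv_smul_smul₀ hc0]
      exact hr₀.smul hk
    obtain ⟨d, r, hr, hgb⟩ := h b hb hbb
    obtain ⟨t, htm, ht0, ht⟩ : ∃ t ∈ F₀, t ≠ 0 ∧ σ t * f a b + t * f b a = 0 := by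
      by_cases he : f a b = 0
      · exact ⟨1, F₀.one_mem, one_ne_zero, by rw [he, eq_zero_comm H he]; ring⟩
      · have hσ : σ (f a b) ≠ 0 := (RingEquiv.map_ne_zero_iff σ).2 he
        refine ⟨(σ (f a b))⁻¹, F₀.inv_mem (S.stable _ (S.rat _ _ ha hb)), inv_ne_zero hσ, ?_⟩
        rw [map_inv₀, S.involutive, S.skew a b, inv_mul_cancel₀ he, mul_neg, inv_mul_cancel₀ hσ, add_neg_cancel]
    obtain ⟨e, s, hs, hgs⟩ := h (a + t • b) (ha.add (hb.smul htm)) (by
      simp only [add_left H, add_right H, smul_left H, smul_right H, haa, hbb]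
      linear_combination ht)
    rw [mulVec_add, mulVec_smul, hga, hgb, smul_smul] at hgs
    have hd0 : d ≠ 0 := fun h0 => hin (by
      have : b = 0 := by_contra fun hne => hgne hne (by rw [hgb, h0, zero_smul])
      rw [this]; exact Submodule.zero_mem _)
    have h1 : r ∉ Submodule.span F ({r₀} : Set (Fin n → F)) := fun hr' => by
      obtain ⟨k, hk⟩ := Submodule.mem_span_singleton.1 hr'
      refine hin (Submodule.mem_span_singleton.2 ⟨d * k / c, gl_mulVec_injective g ?_⟩)
      show (g : Matrix (Fin n) (Fin n) F) *ᵥ ((d * k / c) • a) = (g : Matrix (Fin n) (Fin n) F) *ᵥ b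
      rw [mulVec_smul, hga, hgb, smul_smul, div_mul_cancel₀ _ hc0, mul_smul, hk]
    have h0 : r₀ ∉ Submodule.span F ({r} : Set (Fin n → F)) := fun hr' => by
      obtain ⟨k, hk⟩ := Submodule.mem_span_singleton.1 hr'
      have hk0 : k ≠ 0 := fun h0 => hr₀0 (by rw [← hk, h0, zero_smul])
      exact h1 (Submodule.mem_span_singleton.2 ⟨k⁻¹, by rw [← hk, inv_smul_smul₀ hk0]⟩)
    have := F₀.div_mem (ratio_mem S hr₀ hr hs h0 h1 hgs) htm
    rw [show c⁻¹ * (t * d) / t = c⁻¹ * d by field_simp] at this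
    rw [hgb, smul_smul]
    exact hr.smul this
  refine UnitOrth.mem_ratScalar_of_lines' g (by omega) fun x hx =>
    ⟨c, c⁻¹ • ((g : Matrix (Fin n) (Fin n) F) *ᵥ x), ?_, (smul_inv_smul₀ hc0 _).symm⟩
  obtain ⟨p, q, hp, hq, hpp, hqq, -, -, rfl⟩ :=
    exists_split S SympRoot.Rv.zero (zero_left H 0) hx (zero_left H x)
  rw [mulVec_add, smul_add]
  exact (hcommon p hp hpp).add (hcommon q hq hqq)

/-- An element outside a subfield of odd prime index satisfies no quadratic equation over it. -/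
theorem quad_indep {r : ℕ} (hr : r.Prime) (hr2 : r ≠ 2) (hcard : Fintype.card F = Nat.card F₀ ^ r) {κ : F}
    (hκ : κ ∉ F₀) {x y z : F} (hx : x ∈ F₀) (hy : y ∈ F₀) (hz : z ∈ F₀) (he : x * κ * κ + y * κ + z = 0) :
    x = 0 ∧ y = 0 ∧ z = 0 := by
  classical
  by_cases hx0 : x = 0
  · have hy0 : y = 0 := by
      by_contra hy0
      refine hκ ?_
      have hk : κ = -z / y := by
        rw [eq_div_iff hy0]
        linear_combination he - κ * κ * hx0
      rw [hk]
      exact F₀.div_mem (F₀.neg_mem hz) hy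
    exact ⟨hx0, hy0, by linear_combination he - κ * κ * hx0 - κ * hy0⟩
  exfalso
  let g : F₀ × F₀ → F := fun t => (t.1 : F) + t.2 * κ
  let R : Subring F :=
    { carrier := Set.range g
      zero_mem' := ⟨(0, 0), by simp [g]⟩
      one_mem' := ⟨(1, 0), by simp [g]⟩
      add_mem' := by
        rintro _ _ ⟨s, rfl⟩ ⟨t, rfl⟩
        exact ⟨s + t, by simp [g]; ring⟩
      neg_mem' := by
        rintro _ ⟨s, rfl⟩
        exact ⟨-s, by simp [g]; ring⟩
      mul_mem' := by
        rintro _ _ ⟨s, rfl⟩ ⟨t, rfl⟩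
        refine ⟨(⟨s.1 * t.1 + s.2 * t.2 * (-z / x), F₀.add_mem (F₀.mul_mem s.1.2 t.1.2)
          (F₀.mul_mem (F₀.mul_mem s.2.2 t.2.2) (F₀.div_mem (F₀.neg_mem hz) hx))⟩,
          ⟨s.1 * t.2 + s.2 * t.1 + s.2 * t.2 * (-y / x), F₀.add_mem (F₀.add_mem (F₀.mul_mem s.1.2 t.2.2)
            (F₀.mul_mem s.2.2 t.1.2)) (F₀.mul_mem (F₀.mul_mem s.2.2 t.2.2)
              (F₀.div_mem (F₀.neg_mem hy) hx))⟩), ?_⟩
        simp only [g]
        field_simp
        linear_combination (-((s.2 : F) * t.2)) * he }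
  let K : Subfield F :=
    { R with
      inv_mem' := fun w hw => by
        by_cases h0 : w = 0
        · subst h0; rw [_root_.inv_zero]; exact hw
        have h2 : w ^ (Fintype.card F - 2) * w = 1 := by
          rw [← pow_succ, show Fintype.card F - 2 + 1 = Fintype.card F - 1 by
            have := Fintype.one_lt_card (α := F); omega, FiniteField.pow_card_sub_one_eq_one w h0]
        rw [← eq_inv_of_mul_eq_one_left h2]
        exact Subring.pow_mem _ hw _ }
  have hle : F₀ ≤ K := fun w hw => ⟨(⟨w, hw⟩, 0), by simp [g]⟩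
  have hκK : κ ∈ K := ⟨(0, 1), by simp [g]⟩
  have hK : K = ⊤ := Rational.subfield_eq_top_of_lt hr hcard (lt_of_le_of_ne hle fun he' => hκ (he' ▸ hκK))
  have hsurj : Function.Surjective g := fun w => (hK ▸ Subfield.mem_top w : w ∈ K)
  have h1 := Nat.card_le_card_of_surjective g hsurj
  rw [Nat.card_prod, Nat.card_eq_fintype_card, hcard, ← pow_two] at h1
  have h2 : 1 < Nat.card F₀ := Finite.one_lt_card
  have := (Nat.pow_le_pow_iff_right h2).1 h1
  exact hr2 (le_antisymm this hr.two_le)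

variable {M : Subgroup (GL (Fin n) F)} (O : Over σ f F₀ M) (hL : ∀ c ∈ longSet σ f F₀ M, c ∈ F₀)
include O hL

/-- The centre of a transvection in `M` is not orthogonal to a rational isotropic vector. -/
theorem false_of_killed {v : Fin n → F} (hv : ∀ c : F, ∀ y, Rv F₀ y → v ≠ c • y) (hvv : f v v = 0)
    (h : formTv f v 1 ∈ M) {s : Fin n → F} (hs : Rv F₀ s) (hs0 : s ≠ 0) (hss : f s s = 0) (hvs : f v s = 0) :
    False := by
  have H := O.toIsSkewHerm
  have hsv := eq_zero_comm H hvs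
  obtain ⟨z, hz, hzz, hsz, he0⟩ := exists_iso_pairing O.toSetting hs hs0 hss fun c => hv c s hs
  set e := f v z with he
  have hh := O.root_mem s z 0 hs hz F₀.zero_mem hss hsz (by rw [map_zero, hzz, sub_zero])
  have hhv : (root f s z 0 : Matrix (Fin n) (Fin n) F) *ᵥ v = v + e • s := by
    rw [root_mulVec H hss hsz, hvs, ← he]; simp
  have h1 := O.tv_mem_conj hh hvv h
  rw [hhv, formTv_split H hss hvv hsv (map_one σ), one_mul, one_mul] at h1
  have hR := M.mul_mem (M.inv_mem h) h1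
  rw [inv_mul_cancel_left] at hR
  clear h1 hhv hh
  set w := σ e • v with hw
  clear_value w
  have hσe : σ e ≠ 0 := (RingEquiv.map_ne_zero_iff σ).2 he0
  have hsw : f s w = 0 := by rw [hw, smul_right H, hsv, mul_zero]
  have hws : f w s = 0 := eq_zero_comm H hsw
  have hww : f w w = 0 := by rw [hw, smul_left H, smul_right H, hvv, mul_zero, mul_zero]
  have hk : ∀ z', Rv F₀ z' → f z' z' = 0 → f s z' = 0 → f w z' ∈ F₀ := by
    intro z' hz' hzz' hsz'
    by_cases hin : z' ∈ Submodule.span F ({s} : Set (Fin n → F))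
    · obtain ⟨m, rfl⟩ := Submodule.mem_span_singleton.1 hin
      rw [smul_right H, hws, mul_zero]
      exact F₀.zero_mem
    have hg := (O.mem_long (map_one σ) F₀.one_mem).2 z' hz' hzz'
    have h2 := M.mul_mem (M.mul_mem hg hR) (M.inv_mem hg)
    rw [root_conj H (O.isometry _ hg) hss hsw, formTv_mulVec H hzz', formTv_mulVec H hzz', hsz', mul_zero,
      zero_smul, add_zero, one_mul] at h2
    have h3 := M.mul_mem (M.inv_mem hR) h2
    have h4 : f s (w + f w z' • z') = 0 := by rw [add_right H, smul_right H, hsw, hsz', mul_zero, add_zero]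
    rw [root_inv H hss hsw, root_mul H hss (by rw [neg_right H, hsw, neg_zero]) h4, neg_add_cancel_left, hww,
      add_zero, neg_add_cancel, zero_add] at h3
    exact O.short_mem hL (O.split ⟨hs, hz', hss, hzz', hsz', hs0, hin⟩ h3).2
  have hk' : ∀ y, Rv F₀ y → f s y = 0 → f w y ∈ F₀ := fun y hy hsy => by
    obtain ⟨p, q, hp, hq, hpp, hqq, hsp, hsq, rfl⟩ := exists_split O.toSetting hs hss hy hsy
    rw [add_right H]
    exact F₀.add_mem (hk p hp hpp hsp) (hk q hq hqq hsq)
  obtain ⟨p, hp, hpp, hps⟩ := exists_partner O.toSetting hs hs0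
  have hsp : f s p = -1 := by rw [O.skew p s, hps, map_one]
  set μ := -f w p with hμ
  set a0 := w - μ • s with ha0
  have hwa : w = a0 + μ • s := by rw [ha0, sub_add_cancel]
  have ha0p : f a0 p = 0 := by rw [ha0, sub_left O.toSetting, smul_left H, hsp, hμ]; ring
  have ha0R : Rv F₀ a0 := by
    refine rv_of_values O.toSetting fun y hy => ?_
    have hy' : f s (y + σ (f s y) • p) = 0 := by rw [add_right H, smul_right H, hsp, O.involutive]; ring
    have := hk' _ (hy.add (hp.smul (O.stable _ (O.rat _ _ hs hy)))) hy'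
    rw [hwa, add_left H, smul_left H, hy', mul_zero, add_zero, add_right H, smul_right H, ha0p, mul_zero,
      add_zero] at this
    exact this
  have hsa0 : f s a0 = 0 := by rw [ha0, sub_right O.toSetting, smul_right H, hss, hsw, mul_zero, sub_zero]
  have ha0s := eq_zero_comm H hsa0
  have ha00 : f a0 a0 = 0 := by
    rw [ha0, sub_left O.toSetting, sub_right O.toSetting, sub_right O.toSetting]
    simp only [smul_left H, smul_right H, hws, hsw, hww, hss]
    ring
  have hvw : v = (σ e)⁻¹ • w := by rw [hw, inv_smul_smul₀ hσe]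
  have hind : a0 ∉ Submodule.span F ({s} : Set (Fin n → F)) := fun hin => by
    obtain ⟨m, hm⟩ := Submodule.mem_span_singleton.1 hin
    exact hv ((σ e)⁻¹ * (m + μ)) s hs (by rw [mul_smul, add_smul, hm, ← hwa, ← hvw])
  have hμ' : μ ∉ F₀ := fun hm => hv (σ e)⁻¹ w (hwa ▸ ha0R.add (hs.smul hm)) hvw
  have hNF : e * σ e ∈ F₀ := by
    have := hk z hz hzz hsz
    rwa [hw, smul_left H, ← he, mul_comm] at this
  have hN0 : e * σ e ≠ 0 := mul_ne_zero he0 hσe
  have hfix : σ (e * σ e)⁻¹ = (e * σ e)⁻¹ := by rw [map_inv₀, map_mul, O.involutive, mul_comm]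
  have h5 : formTv f w (e * σ e)⁻¹ ∈ M := by
    rw [hw, SkewPair.formTv_smul H hvv, O.involutive, mul_comm (σ e) e, mul_inv_cancel₀ hN0]
    exact h
  rw [hwa, formTv_split H hss ha00 hsa0 hfix] at h5
  have h6 := M.mul_mem (M.inv_mem ((O.mem_long hfix (F₀.inv_mem hNF)).2 a0 ha0R ha00)) h5
  rw [inv_mul_cancel_left] at h6
  have h7 := F₀.mul_mem hNF (O.short_mem hL (O.split ⟨hs, ha0R, hss, ha00, hsa0, hs0, hind⟩ h6).2)
  rw [mul_inv_cancel_left₀ hN0] at h7
  exact hμ' (O.stable' h7)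

/-- No transvection in `M` has centre pairing non-trivially with all rational isotropic vectors. -/
theorem false_of_injective (hquad : ∀ κ : F, κ ∉ F₀ → ∀ x ∈ F₀, ∀ y ∈ F₀, ∀ z ∈ F₀,
      x * κ * κ + y * κ + z = 0 → x = 0 ∧ y = 0 ∧ z = 0) {v : Fin n → F} (hvv : f v v = 0) (h : formTv f v 1 ∈ M)
    (hinj : ∀ s, Rv F₀ s → f s s = 0 → f s v = 0 → s = 0) : False := by
  classical
  have H := O.toIsSkewHerm
  obtain ⟨a, b, hp⟩ := O.exists_pair
  have hab := hp.orth
  have hba := eq_zero_comm H hab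
  have haa := hp.iso_left
  have hbb := hp.iso_right
  have hav : f a v ≠ 0 := fun h0 => hp.ne_zero (hinj a hp.rv_left haa h0)
  have hbv : f b v ≠ 0 := fun h0 => (hp.symm O).ne_zero (hinj b hp.rv_right hbb h0)
  have hva := ne_zero_comm H hav
  have hvb := ne_zero_comm H hbv
  let lin : (Fin n → F) → ((Fin n → F) →ₗ[F] F) := fun x =>
    { toFun := fun y => f y x
      map_add' := fun y z => add_left H y z x
      map_smul' := fun c y => smul_left H c y x }
  -- vectors orthogonal to the fixed space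
  have hperp : ∀ x, (∀ y, f y a = 0 → f y b = 0 → f y v = 0 → f y x = 0) →
      ∃ α β γ : F, x = α • a + β • b + γ • v := by
    intro x hx
    let L : Fin 3 → ((Fin n → F) →ₗ[F] F) := ![lin a, lin b, lin v]
    have hmem : lin x ∈ Submodule.span F (Set.range L) := mem_span_of_iInf_ker_le_ker (by
      intro y hy
      rw [Submodule.mem_iInf] at hy
      exact hx y (hy 0) (hy 1) (hy 2))
    obtain ⟨c, hc⟩ := (Submodule.mem_span_range_iff_exists_fun F).1 hmem
    refine ⟨σ (c 0), σ (c 1), σ (c 2), sub_eq_zero.1 ?_⟩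
    by_contra hne
    obtain ⟨y, hy⟩ := O.nondegenerate _ hne
    apply hy
    refine eq_zero_comm H ?_
    have e := LinearMap.congr_fun hc y
    rw [Fin.sum_univ_three] at e
    simp only [L, lin, Matrix.cons_val_zero, Matrix.cons_val_one, Matrix.cons_val, LinearMap.add_apply,
      LinearMap.smul_apply, LinearMap.coe_mk, AddHom.coe_mk, smul_eq_mul] at e
    rw [sub_right O.toSetting, add_right H, add_right H, smul_right H, smul_right H, smul_right H,
      O.involutive, O.involutive, O.involutive]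
    linear_combination -e
  have hspan2 : ∀ {x : Fin n → F}, (∃ α β γ : F, x = α • a + β • b + γ • v) → f x a = 0 →
      ∃ α β : F, x = α • a + β • b := by
    rintro x ⟨α, β, γ, rfl⟩ hxa
    simp only [add_left H, smul_left H, haa, hba, mul_zero, add_zero, zero_add] at hxa
    exact ⟨α, β, by rw [(mul_eq_zero.1 hxa).resolve_right hva, zero_smul, add_zero]⟩
  let W : Subgroup (GL (Fin n) F) :=
    { carrier := {g | ∀ y, f y a = 0 → f y b = 0 → f y v = 0 → (g : Matrix (Fin n) (Fin n) F) *ᵥ y = y}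
      one_mem' := fun y _ _ _ => by simp
      mul_mem' := fun {g k} hg hk y h1 h2 h3 => by rw [gl_mul_mulVec, hk y h1 h2 h3, hg y h1 h2 h3]
      inv_mem' := fun {g} hg y h1 h2 h3 => by
        conv_lhs => rw [← hg y h1 h2 h3]
        rw [gl_inv_mulVec_mulVec] }
  set G := M ⊓ W with hG
  have himg : ∀ g ∈ G, ∀ x, ∃ α β γ : F,
      (g : Matrix (Fin n) (Fin n) F) *ᵥ x - x = α • a + β • b + γ • v := by
    intro g hg x
    refine hperp _ fun y h1 h2 h3 => ?_
    have := O.isometry g hg.1 y x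
    rw [hg.2 y h1 h2 h3] at this
    rw [sub_right O.toSetting, this, sub_self]
  have himg' : ∀ g ∈ G, ∀ c d : F,
      ∃ α β γ : F, (g : Matrix (Fin n) (Fin n) F) *ᵥ (c • a + d • b) = α • a + β • b + γ • v := by
    intro g hg c d
    obtain ⟨α, β, γ, e⟩ := himg g hg (c • a + d • b)
    exact ⟨c + α, d + β, γ, by rw [sub_eq_iff_eq_add.1 e]; module⟩
  have himga : ∀ g ∈ G, ∃ α β γ : F, (g : Matrix (Fin n) (Fin n) F) *ᵥ a = α • a + β • b + γ • v :=
    fun g hg => by simpa using himg' g hg 1 0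
  have himgb : ∀ g ∈ G, ∃ α β γ : F, (g : Matrix (Fin n) (Fin n) F) *ᵥ b = α • a + β • b + γ • v :=
    fun g hg => by simpa using himg' g hg 0 1
  -- stabilizing the plane of `a` and `b`
  obtain ⟨pa, hpar, -, hpab, hpaa⟩ := exists_iso_ne O.toSetting hp.rv_right hp.rv_left (hp.symm O).indep
  obtain ⟨pb, hpbr, -, hpba, hpbb⟩ := exists_iso_ne O.toSetting hp.rv_left hp.rv_right hp.indep
  have hcoef : ∀ x y : F, f pa (x • a + y • b) = σ x ∧ f pb (x • a + y • b) = σ y := fun x y => by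
    simp [add_right H, smul_right H, hpaa, hpab, hpba, hpbb]
  set κ := -σ (f a v) / σ (f b v) with hκd
  have hκb : σ κ * f b v = - f a v := by
    have := hbv
    rw [hκd, map_div₀, map_neg, O.involutive, O.involutive, div_mul_cancel₀ _ hbv]
  have hκ0 : κ ∉ F₀ := fun hk => by
    have h1 := hinj (a + σ κ • b) (hp.rv_left.add (hp.rv_right.smul (O.stable _ hk)))
      (by simp [add_left H, add_right H, smul_left H, smul_right H, haa, hbb, hab, hba])
      (by rw [add_left H, smul_left H, hκb, add_neg_cancel])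
    have h2 := (hcoef 1 (σ κ)).1
    rw [one_smul, h1, zero_right H, map_one] at h2
    exact zero_ne_one h2
  have hκ0' : σ κ ∉ F₀ := fun hk => hκ0 (O.stable' hk)
  have hstab : ∀ g ∈ G, (∃ α β : F, (g : Matrix (Fin n) (Fin n) F) *ᵥ a = α • a + β • b) →
      (∃ α β : F, (g : Matrix (Fin n) (Fin n) F) *ᵥ b = α • a + β • b) →
      (g : Matrix (Fin n) (Fin n) F) *ᵥ a = a ∧ (g : Matrix (Fin n) (Fin n) F) *ᵥ b = b := by
    rintro g hg ⟨α, β, hga⟩ ⟨γ, δ, hgb⟩
    have hline : ∀ x, Rv F₀ x → (∃ c d : F, x = c • a + d • b) →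
        ∃ e : F, ∃ y : Fin n → F, Rv F₀ y ∧ (g : Matrix (Fin n) (Fin n) F) *ᵥ x = e • y := by
      rintro x hx ⟨c, d, hxe⟩
      by_contra hno
      push Not at hno
      have hxx : f x x = 0 := by
        rw [hxe]; simp [add_left H, add_right H, smul_left H, smul_right H, haa, hbb, hab, hba]
      have hT := O.tv_mem_conj hg.1 hxx ((O.mem_long (map_one σ) F₀.one_mem).2 x hx hxx)
      exact false_of_killed O hL hno (by rw [O.isometry g hg.1, hxx]) hT hp.rv_left hp.ne_zero haa (by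
        rw [hxe, mulVec_add, mulVec_smul, mulVec_smul, hga, hgb]
        simp [add_left H, smul_left H, haa, hba])
    obtain ⟨lam, a', ha', ea⟩ := hline a hp.rv_left ⟨1, 0, by simp⟩
    obtain ⟨μ, b', hb', eb⟩ := hline b hp.rv_right ⟨0, 1, by simp⟩
    obtain ⟨ν, c', hc', ec⟩ := hline (a + b) (hp.rv_left.add hp.rv_right) ⟨1, 1, by simp⟩
    have hlam : lam ≠ 0 := fun h0 => gl_mulVec_ne_zero g hp.ne_zero (by rw [ea, h0, zero_smul])
    have hμ : μ ≠ 0 := fun h0 => gl_mulVec_ne_zero g (hp.symm O).ne_zero (by rw [eb, h0, zero_smul])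
    rw [mulVec_add, ea, eb] at ec
    have hind : ∀ {x y : Fin n → F} {i j : F}, (g : Matrix (Fin n) (Fin n) F) *ᵥ x = i • a' →
        (g : Matrix (Fin n) (Fin n) F) *ᵥ y = j • b' → i ≠ 0 → j ≠ 0 → b' ∈ Submodule.span F ({a'} : Set (Fin n → F)) →
        y ∈ Submodule.span F ({x} : Set (Fin n → F)) := by
      intro x y i j hx hy hi hj hin
      obtain ⟨k, hk⟩ := Submodule.mem_span_singleton.1 hin
      refine Submodule.mem_span_singleton.2 ⟨j * k / i, gl_mulVec_injective g ?_⟩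
      show (g : Matrix (Fin n) (Fin n) F) *ᵥ ((j * k / i) • x) = (g : Matrix (Fin n) (Fin n) F) *ᵥ y
      rw [mulVec_smul, hx, hy, smul_smul, div_mul_cancel₀ _ hi, mul_smul, hk]
    have hb'a : b' ∉ Submodule.span F ({a'} : Set (Fin n → F)) := fun hin => hp.indep (hind ea eb hlam hμ hin)
    have ha'b : a' ∉ Submodule.span F ({b'} : Set (Fin n → F)) := fun hin => by
      obtain ⟨k, hk⟩ := Submodule.mem_span_singleton.1 hin
      have hk0 : k ≠ 0 := fun h0 => gl_mulVec_ne_zero g hp.ne_zero (by rw [ea, ← hk, h0, zero_smul, smul_zero])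
      exact hb'a (Submodule.mem_span_singleton.2 ⟨k⁻¹, by rw [← hk, inv_smul_smul₀ hk0]⟩)
    have hm := ratio_mem O.toSetting ha' hb' hc' ha'b hb'a ec
    set p' := f pa a' with hp'
    set q' := f pb a' with hq'
    set s' := f pa ((lam⁻¹ * μ) • b') with hs'
    set t' := f pb ((lam⁻¹ * μ) • b') with ht'
    have hb'' : Rv F₀ ((lam⁻¹ * μ) • b') := hb'.smul hm
    have eb' : (g : Matrix (Fin n) (Fin n) F) *ᵥ b = lam • ((lam⁻¹ * μ) • b') := by
      rw [eb, smul_smul, ← mul_assoc, mul_inv_cancel₀ hlam, one_mul]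
    have hgr : (g : Matrix (Fin n) (Fin n) F) *ᵥ (a + σ κ • b) = a + σ κ • b := hg.2 _
      (by rw [add_left H, smul_left H, haa, hba, mul_zero, add_zero])
      (by rw [add_left H, smul_left H, hab, hbb, mul_zero, add_zero])
      (by rw [add_left H, smul_left H, hκb, add_neg_cancel])
    have r1 := congrArg (f pa) hgr
    have r2 := congrArg (f pb) hgr
    rw [mulVec_add, mulVec_smul, ea, eb', add_right H, smul_right H, smul_right H, smul_right H, ← hp', ← hs',
      O.involutive, add_right H, smul_right H, hpaa, hpab, mul_zero, add_zero] at r1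
    rw [mulVec_add, mulVec_smul, ea, eb', add_right H, smul_right H, smul_right H, smul_right H, ← hq', ← ht',
      O.involutive, add_right H, smul_right H, hpba, hpbb, mul_one, zero_add, O.involutive] at r2
    obtain ⟨hs0, hpt, hq0⟩ := hquad κ hκ0 s' (O.rat _ _ hpar hb'') (p' - t')
      (F₀.sub_mem (O.rat _ _ hpar ha') (O.rat _ _ hpbr hb'')) (-q') (F₀.neg_mem (O.rat _ _ hpbr ha')) (by
        have hσl : σ lam ≠ 0 := (RingEquiv.map_ne_zero_iff σ).2 hlam
        refine (mul_eq_zero.1 ?_).resolve_left hσl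
        linear_combination κ * r1 - r2)
    rw [hs0, mul_zero, mul_zero, add_zero] at r1
    have hq0' : q' = 0 := neg_eq_zero.1 hq0
    have hpt' : t' = p' := (sub_eq_zero.1 hpt).symm
    have hexp : ∀ x : Fin n → F, (∃ c d : F, x = c • a + d • b) → f pa x = 1 → f pb x = 0 → x = a := by
      rintro x ⟨c, d, rfl⟩ h1 h2
      obtain ⟨hc, hd⟩ := hcoef c d
      rw [hc, RingEquiv.map_eq_one_iff] at h1
      rw [hd, RingEquiv.map_eq_zero_iff] at h2
      rw [h1, h2, one_smul, zero_smul, add_zero]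
    refine ⟨hexp _ ⟨α, β, hga⟩ (by rw [ea, smul_right H]; exact r1) (by rw [ea, smul_right H, ← hq', hq0', mul_zero]),
      ?_⟩
    obtain ⟨hc, hd⟩ := hcoef γ δ
    rw [← hgb, eb', smul_right H, ← hs', hs0, mul_zero, eq_comm, RingEquiv.map_eq_zero_iff] at hc
    rw [← hgb, eb', smul_right H, ← ht', hpt', hp', r1, eq_comm, RingEquiv.map_eq_one_iff] at hd
    rw [hgb, hc, hd, zero_smul, one_smul, zero_add]
  let P : Subgroup G :=
    { carrier := {g | (g.1 : Matrix (Fin n) (Fin n) F) *ᵥ a = a ∧ (g.1 : Matrix (Fin n) (Fin n) F) *ᵥ b = b}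
      one_mem' := ⟨by simp, by simp⟩
      mul_mem' := fun {g k} hg hk => ⟨by rw [Subgroup.coe_mul, gl_mul_mulVec, hk.1, hg.1],
        by rw [Subgroup.coe_mul, gl_mul_mulVec, hk.2, hg.2]⟩
      inv_mem' := fun {g} hg => ⟨by
          conv_lhs => rw [← hg.1]
          rw [Subgroup.coe_inv, gl_inv_mulVec_mulVec],
        by
          conv_lhs => rw [← hg.2]
          rw [Subgroup.coe_inv, gl_inv_mulVec_mulVec]⟩ }
  have hPD : ∀ g ∈ P, ∀ x, ∃ α β : F, (g.1 : Matrix (Fin n) (Fin n) F) *ᵥ x = x + (α • a + β • b) := by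
    intro g hg x
    have := O.isometry g.1 g.2.1 x a
    rw [hg.1] at this
    obtain ⟨α, β, e⟩ := hspan2 (himg g.1 g.2 x) (by rw [sub_left O.toSetting, this, sub_self])
    exact ⟨α, β, by rw [← e, add_sub_cancel]⟩
  have hPfix : ∀ g ∈ P, ∀ α β : F, (g.1 : Matrix (Fin n) (Fin n) F) *ᵥ (α • a + β • b) = α • a + β • b :=
    fun g hg α β => by rw [mulVec_add, mulVec_smul, mulVec_smul, hg.1, hg.2]
  have hTG : ∀ w : Fin n → F, (w = a ∨ w = b) → ∀ c, c ∈ F₀ → σ c = c → formTv f w c ∈ G := by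
    intro w hw c hc hc'
    refine ⟨(O.mem_long hc' hc).2 w (by rcases hw with rfl | rfl <;> [exact hp.rv_left; exact hp.rv_right])
      (by rcases hw with rfl | rfl <;> assumption), fun y h1 h2 _ => ?_⟩
    rcases hw with rfl | rfl
    · rw [formTv_mulVec H haa, h1, mul_zero, zero_smul, add_zero]
    · rw [formTv_mulVec H hbb, h2, mul_zero, zero_smul, add_zero]
  let s₀ : G := ⟨formTv f a 1, hTG a (Or.inl rfl) 1 F₀.one_mem (map_one σ)⟩
  let t₀ : G := ⟨formTv f b 1, hTG b (Or.inr rfl) 1 F₀.one_mem (map_one σ)⟩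
  have hs₀ : s₀ ∈ P := ⟨by simp [s₀, formTv_mulVec H haa, haa], by simp [s₀, formTv_mulVec H haa, hba]⟩
  have ht₀ : t₀ ∈ P := ⟨by simp [t₀, formTv_mulVec H hbb, hab], by simp [t₀, formTv_mulVec H hbb, hbb]⟩
  obtain ⟨p, hp'⟩ := CharP.exists F
  haveI := hp'
  haveI : Fact p.Prime := ⟨CharP.char_is_prime F p⟩
  have hPcomm : ∀ g ∈ P, ∀ k ∈ P, g * k = k * g := by
    intro g hg k hk
    refine Subtype.ext (gl_ext fun x => ?_)
    obtain ⟨α, β, e1⟩ := hPD g hg x
    obtain ⟨α', β', e2⟩ := hPD k hk x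
    rw [Subgroup.coe_mul, Subgroup.coe_mul, gl_mul_mulVec, gl_mul_mulVec, e1, e2,
      mulVec_add _ x (α' • a + β' • b), mulVec_add _ x (α • a + β • b), hPfix g hg, hPfix k hk, e1, e2]
    abel
  have hpow : ∀ g ∈ P, g ^ p = 1 := by
    intro g hg
    refine Subtype.ext (gl_ext fun x => ?_)
    obtain ⟨α, β, e1⟩ := hPD g hg x
    have hk : ∀ k : ℕ, ((g ^ k : G).1 : Matrix (Fin n) (Fin n) F) *ᵥ x = x + (k : F) • (α • a + β • b) := by
      intro k
      induction k with
      | zero => simp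
      | succ k ih =>
        rw [pow_succ', Subgroup.coe_mul, gl_mul_mulVec, ih, mulVec_add, mulVec_smul, hPfix g hg, e1, Nat.cast_succ,
          add_smul, one_smul]
        abel
    rw [hk p, CharP.cast_eq_zero, zero_smul, add_zero]
    simp
  have hPp : IsPGroup p P := fun g => ⟨1, Subtype.ext (by rw [pow_one, Subgroup.coe_pow]; exact hpow g.1 g.2)⟩
  have hN : ∀ g ∈ Subgroup.normalizer (P : Set G), g ∈ P := by
    intro g hg
    have hperp' : ∀ w : Fin n → F, (w = a ∨ w = b) → ∀ hw : formTv f w 1 ∈ G, (⟨_, hw⟩ : G) ∈ P →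
        f ((g.1 : Matrix (Fin n) (Fin n) F) *ᵥ w) a = 0 := by
      intro w hw hwG hwP
      have hww : f w w = 0 := by rcases hw with rfl | rfl <;> assumption
      have hw0 : w ≠ 0 := by
        rcases hw with rfl | rfl
        · exact hp.ne_zero
        · exact (hp.symm O).ne_zero
      have h1 := ((Subgroup.mem_normalizer_iff.1 hg ⟨_, hwG⟩).1 hwP).1
      rw [Subgroup.coe_mul, Subgroup.coe_mul, Subgroup.coe_inv, iso_tv_conj H (O.isometry g.1 g.2.1) hww,
        formTv_mulVec H (by rw [O.isometry g.1 g.2.1, hww]), one_mul, add_eq_left, smul_eq_zero] at h1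
      exact eq_zero_comm H (h1.resolve_right (gl_mulVec_ne_zero g.1 hw0))
    exact hstab g.1 g.2 (hspan2 (himga g.1 g.2) (hperp' a (Or.inl rfl) _ hs₀))
      (hspan2 (himgb g.1 g.2) (hperp' b (Or.inr rfl) _ ht₀))
  -- transfer
  have hidx : ¬ p ∣ P.index := by
    obtain ⟨m, hm⟩ := IsPGroup.iff_card.1 hPp
    rintro ⟨e, he⟩
    have h1 : p ^ (m + 1) ∣ Nat.card G := ⟨e, by rw [← P.card_mul_index, hm, he]; ring⟩
    have h2 := (Sylow.prime_pow_dvd_card_normalizer h1 hm).trans (Subgroup.card_dvd_of_le hN)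
    rw [hm] at h2
    exact absurd (Nat.le_of_dvd (pow_pos (Fact.out : p.Prime).pos m) h2)
      (not_le.2 (Nat.pow_lt_pow_right (Fact.out : p.Prime).one_lt m.lt_succ_self))
  have hNC : Subgroup.normalizer ((hPp.toSylow hidx : Sylow p G) : Set G) ≤
      Subgroup.centralizer ((hPp.toSylow hidx : Sylow p G) : Set G) := fun g hg k hk =>
    hPcomm k hk g (hN g hg)
  set K := (MonoidHom.transferSylow (hPp.toSylow hidx) hNC).ker with hKdef
  have hnorm : K.Normal := MonoidHom.normal_ker _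
  have hcompl : K.IsComplement' P := MonoidHom.ker_transferSylow_isComplement' (hPp.toSylow hidx) hNC
  have hKcard : ¬ p ∣ Nat.card K := by rwa [hcompl.index_eq_card] at hidx
  have hcent : ∀ k : G, ∀ i j : ℕ, (i < p ∧ j = 1) ∨ (i = 1 ∧ j = 0) →
      k * (s₀ ^ i * t₀ ^ j) = s₀ ^ i * t₀ ^ j * k → k ∈ P := by
    intro k i j hij hk
    have hk' : ∀ x, (k.1 : Matrix (Fin n) (Fin n) F) *ᵥ (((i : F) * f x a) • a + ((j : F) * f x b) • b) =
        ((i : F) * f ((k.1 : Matrix (Fin n) (Fin n) F) *ᵥ x) a) • a +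
          ((j : F) * f ((k.1 : Matrix (Fin n) (Fin n) F) *ᵥ x) b) • b := by
      intro x
      have hpw : ∀ w : Fin n → F, f w w = 0 → ∀ m : ℕ, formTv f w (1 : F) ^ m = formTv f w (m : F) := by
        intro w hw m
        induction m with
        | zero =>
          refine gl_ext fun y => ?_
          simp [formTv_mulVec H hw]
        | succ m ih => rw [pow_succ, ih, formTv_mul H hw, Nat.cast_succ]
      have hval : ∀ y, ((s₀ ^ i * t₀ ^ j : G).1 : Matrix (Fin n) (Fin n) F) *ᵥ y =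
          y + (((i : F) * f y a) • a + ((j : F) * f y b) • b) := by
        intro y
        rw [Subgroup.coe_mul, Subgroup.coe_pow, Subgroup.coe_pow, hpw a haa, hpw b hbb, gl_mul_mulVec,
          formTv_mulVec H hbb, formTv_mulVec H haa, add_left H, smul_left H, hba, mul_zero, add_zero]
        abel
      have this : ((k.1 * (s₀ ^ i * t₀ ^ j : G).1 : GL (Fin n) F) : Matrix (Fin n) (Fin n) F) *ᵥ x =
          (((s₀ ^ i * t₀ ^ j : G).1 * k.1 : GL (Fin n) F) : Matrix (Fin n) (Fin n) F) *ᵥ x :=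
        congrArg (fun t : G => (t.1 : Matrix (Fin n) (Fin n) F) *ᵥ x) hk
      rw [gl_mul_mulVec, gl_mul_mulVec, hval, hval, mulVec_add _ x, add_right_inj] at this
      exact this
    have hij' : (i : F) ≠ 0 ∨ (j : F) ≠ 0 := by
      rcases hij with ⟨-, rfl⟩ | ⟨rfl, -⟩
      · right; simp
      · left; simp
    set g := k.1
    have ea := hk' pa
    have eb := hk' pb
    rw [hpaa, hpab, mul_zero, zero_smul, add_zero, mul_one, mulVec_smul] at ea
    rw [hpbb, hpba, mul_zero, zero_smul, zero_add, mul_one, mulVec_smul] at eb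
    refine hstab g k.2 ?_ ?_
    · by_cases hi : (i : F) = 0
      · obtain ⟨α, β, γ, e⟩ := himga g k.2
        have hj := hij'.resolve_left (not_not.2 hi)
        rw [hi, zero_mul, zero_smul, zero_add] at eb
        have h1 := O.isometry g k.2.1 a b
        rw [hab] at h1
        have h2 : f ((g : Matrix (Fin n) (Fin n) F) *ᵥ a) b = 0 := by
          have hgb : (g : Matrix (Fin n) (Fin n) F) *ᵥ b =
              f ((g : Matrix (Fin n) (Fin n) F) *ᵥ pb) b • b := by
            rw [mul_smul] at eb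
            exact (smul_right_injective _ hj eb)
          have hne : f ((g : Matrix (Fin n) (Fin n) F) *ᵥ pb) b ≠ 0 := fun h0 =>
            gl_mulVec_ne_zero g (hp.symm O).ne_zero (by rw [hgb, h0, zero_smul])
          rw [hgb, smul_right H] at h1
          exact (mul_eq_zero.1 h1).resolve_left ((RingEquiv.map_ne_zero_iff σ).2 hne)
        rw [e, add_left H, add_left H, smul_left H, smul_left H, smul_left H, hab, hbb, mul_zero, mul_zero,
          add_zero, zero_add] at h2
        exact ⟨α, β, by rw [e, (mul_eq_zero.1 h2).resolve_right hvb, zero_smul, add_zero]⟩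
      · exact ⟨(i : F)⁻¹ * ((i : F) * f ((g : Matrix (Fin n) (Fin n) F) *ᵥ pa) a),
          (i : F)⁻¹ * ((j : F) * f ((g : Matrix (Fin n) (Fin n) F) *ᵥ pa) b),
          by rw [mul_smul (i : F)⁻¹, mul_smul (i : F)⁻¹, ← smul_add, ← ea, inv_smul_smul₀ hi]⟩
    · by_cases hj : (j : F) = 0
      · obtain ⟨α, β, γ, e⟩ := himgb g k.2
        have hi := hij'.resolve_right (not_not.2 hj)
        rw [hj, zero_mul, zero_smul, add_zero] at ea
        have h1 := O.isometry g k.2.1 b a
        rw [hba] at h1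
        have hga : (g : Matrix (Fin n) (Fin n) F) *ᵥ a = f ((g : Matrix (Fin n) (Fin n) F) *ᵥ pa) a • a := by
          rw [mul_smul] at ea
          exact (smul_right_injective _ hi ea)
        have hne : f ((g : Matrix (Fin n) (Fin n) F) *ᵥ pa) a ≠ 0 := fun h0 =>
          gl_mulVec_ne_zero g hp.ne_zero (by rw [hga, h0, zero_smul])
        rw [hga, smul_right H] at h1
        exact hspan2 ⟨α, β, γ, e⟩ ((mul_eq_zero.1 h1).resolve_left ((RingEquiv.map_ne_zero_iff σ).2 hne))
      · exact ⟨(j : F)⁻¹ * ((i : F) * f ((g : Matrix (Fin n) (Fin n) F) *ᵥ pb) a),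
          (j : F)⁻¹ * ((j : F) * f ((g : Matrix (Fin n) (Fin n) F) *ᵥ pb) b),
          by rw [mul_smul (j : F)⁻¹, mul_smul (j : F)⁻¹, ← smul_add, ← eb, inv_smul_smul₀ hj]⟩
  have hK : K ≤ ⊥ := Tech46.le_of_centralizers_le s₀ t₀ (hpow s₀ hs₀) (hpow t₀ ht₀) (hPcomm s₀ hs₀ t₀ ht₀) K ⊥
    hKcard (by simp [Subgroup.normalizer_eq_top_iff.2 hnorm]) (by simp [Subgroup.normalizer_eq_top_iff.2 hnorm])
    fun i j hij k hk => by
      have hkP := hcent k i j hij (Subgroup.mem_centralizer_singleton_iff.1 hk.2)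
      exact hcompl.disjoint.le_bot ⟨hk.1, hkP⟩
  rw [le_bot_iff.1 hK] at hcompl
  have htop : P = ⊤ := Subgroup.isComplement'_bot_left.1 hcompl
  have hvG : formTv f v 1 ∈ G := ⟨h, fun y _ _ h3 => by
    rw [formTv_mulVec H hvv, h3, mul_zero, zero_smul, add_zero]⟩
  have hvP : (⟨_, hvG⟩ : G) ∈ P := htop ▸ Subgroup.mem_top _
  have h9 := hvP.1
  rw [formTv_mulVec H hvv, one_mul, add_eq_left, smul_eq_zero] at h9
  rcases h9 with h9 | h9
  · exact hav h9
  · exact hav (by rw [h9, zero_right H])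

omit O hL

/-- Unitary subfield groups of odd prime degree are maximal. -/
theorem maximal_subfield (S : Setting σ f F₀) {r : ℕ} (hr : r.Prime) (hr2 : r ≠ 2)
    (hcard : Fintype.card F = Nat.card F₀ ^ r)
    {K : Subgroup (GL (Fin n) F)}
    (hKi : ∀ g ∈ K, ∀ x y, f ((g : Matrix (Fin n) (Fin n) F) *ᵥ x) ((g : Matrix (Fin n) (Fin n) F) *ᵥ y) = f x y)
    (hroot : ∀ u w γ, f u u = 0 → f u w = 0 → σ γ = γ - f w w → root f u w γ ∈ K)
    (hgen : ∀ M : Subgroup (GL (Fin n) F), (∀ v, f v v = 0 → ∀ c, σ c = c → formTv f v c ∈ M) → K ≤ M) :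
    Cfsg.Geo.IsMaximalIn K (SympRoot.ratScalar F₀ (Fin n) ⊓ K) := by
  classical
  have H := S.toIsSkewHerm
  have hT : ∀ v, f v v = 0 → ∀ c, σ c = c → formTv f v c ∈ K := fun v hv c hc => by
    rw [← root_zero H hv]
    exact hroot v 0 c hv (zero_right H v) (by rw [zero_left H, sub_zero, hc])
  have OK : Over σ f F₀ K :=
    { S with
      isometry := hKi
      root_mem := fun u w γ _ _ _ huu huw h => hroot u w γ huu huw h }
  have hR : ∀ u w γ, Rv F₀ u → Rv F₀ w → γ ∈ F₀ → f u u = 0 → f u w = 0 → σ γ = γ - f w w →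
      root f u w γ ∈ SympRoot.ratScalar F₀ (Fin n) ⊓ K := fun u w γ hu hw hγ huu huw h => by
    have hh := OK.rat_root hu hw hγ huu huw h
    exact ⟨mem_ratScalar_of_iso_lines S _ fun x hx _ => ⟨1, _, hh.2 x hx, (one_smul F _).symm⟩, hh.1⟩
  obtain ⟨ω, hω, hω'⟩ := S.moved
  obtain ⟨lam, hlam, hlam'⟩ : ∃ x : F, σ x = x ∧ x ∉ F₀ := by
    by_contra hc
    push Not at hc
    have hall : ∀ x : F, x ∈ F₀ := fun x => by
      obtain ⟨a, b, ha, hb, he, -⟩ := OK.exists_parts hω' x
      rw [he]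
      exact F₀.add_mem (hc a ha) (F₀.mul_mem hω (hc b hb))
    have h1 : Nat.card F₀ = Nat.card F := Nat.card_congr (Equiv.subtypeUnivEquiv hall)
    rw [h1, ← Nat.card_eq_fintype_card] at hcard
    have := Nat.pow_right_injective (Finite.one_lt_card (α := F))
      (show Nat.card F ^ 1 = Nat.card F ^ r by rw [pow_one]; exact hcard)
    exact hr.one_lt.ne this
  refine ⟨lt_of_le_of_ne inf_le_right fun he => ?_, fun M hle hMK => ?_⟩
  · obtain ⟨a, b, hp⟩ := OK.exists_pair
    obtain ⟨p, hpr, -, hpa⟩ := exists_partner S hp.rv_left hp.ne_zero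
    have hmem := hT a hp.iso_left lam hlam
    rw [← he] at hmem
    obtain ⟨k, hk0, hk⟩ := UnitSymp.ratScalar_rv hmem.1
    have e1 := hk b hp.rv_right
    have e2 := hk p hpr
    rw [formTv_mulVec H hp.iso_left, eq_zero_comm H hp.orth, mul_zero, zero_smul, add_zero] at e1
    rw [formTv_mulVec H hp.iso_left, hpa, mul_one, smul_add] at e2
    obtain ⟨i, hi⟩ := Function.ne_iff.1 (hp.symm OK).ne_zero
    have hkF : k ∈ F₀ := by
      have := F₀.div_mem (e1 i) (hp.rv_right i)
      rwa [Pi.smul_apply, smul_eq_mul, mul_div_cancel_right₀ _ (by simpa using hi)] at this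
    obtain ⟨j, hj⟩ := Function.ne_iff.1 hp.ne_zero
    have e3 := F₀.sub_mem (e2 j) (F₀.mul_mem hkF (hpr j))
    simp only [Pi.add_apply, Pi.smul_apply, smul_eq_mul, add_sub_cancel_left] at e3
    refine hlam' ?_
    have := F₀.div_mem (F₀.div_mem e3 hkF) (hp.rv_left j)
    rwa [mul_div_cancel_left₀ _ hk0, mul_div_cancel_right₀ _ (by simpa using hj)] at this
  by_cases hall : M ≤ SympRoot.ratScalar F₀ (Fin n)
  · exact Or.inl (le_antisymm (le_inf hall hMK) hle)
  right
  refine le_antisymm hMK ?_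
  have O : Over σ f F₀ M :=
    { S with
      isometry := fun g hg => hKi g (hMK hg)
      root_mem := fun u w γ hu hw hγ huu huw h => hle (hR u w γ hu hw hγ huu huw h) }
  have hquad : ∀ κ : F, κ ∉ F₀ → ∀ x ∈ F₀, ∀ y ∈ F₀, ∀ z ∈ F₀,
      x * κ * κ + y * κ + z = 0 → x = 0 ∧ y = 0 ∧ z = 0 := fun κ hκ x hx y hy z hz he =>
    quad_indep hr hr2 hcard hκ hx hy hz he
  obtain ⟨c, hc, hc'⟩ : ∃ c ∈ longSet σ f F₀ M, c ∉ F₀ := by
    by_contra hL
    push Not at hL
    obtain ⟨g, hgM, hg⟩ := SetLike.not_le_iff_exists.1 hall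
    obtain ⟨a, ha, haa, hirr⟩ : ∃ a, Rv F₀ a ∧ f a a = 0 ∧
        ∀ c : F, ∀ b, Rv F₀ b → (g : Matrix (Fin n) (Fin n) F) *ᵥ a ≠ c • b := by
      by_contra hno
      push Not at hno
      exact hg (mem_ratScalar_of_iso_lines S g hno)
    have hv := O.tv_mem_conj hgM haa ((O.mem_long (map_one σ) F₀.one_mem).2 a ha haa)
    have hvv : f ((g : Matrix (Fin n) (Fin n) F) *ᵥ a) ((g : Matrix (Fin n) (Fin n) F) *ᵥ a) = 0 := by
      rw [O.isometry g hgM, haa]
    by_cases hk : ∃ s, Rv F₀ s ∧ s ≠ 0 ∧ f s s = 0 ∧ f ((g : Matrix (Fin n) (Fin n) F) *ᵥ a) s = 0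
    · obtain ⟨s, hs, hs0, hss, hvs⟩ := hk
      exact false_of_killed O hL hirr hvv hv hs hs0 hss hvs
    · push Not at hk
      exact false_of_injective O hL hquad hvv hv fun s hs hss h0 =>
        by_contra fun hne => hk s hs hne hss (eq_zero_comm H h0)
  obtain ⟨hfull, hshort⟩ := O.full_of_new hr hcard hc hc'
  exact hgen M fun v hv c hc => O.mem_of_full hfull hshort hv hc

end CfsgLib.GeomClasses.UnitFourSub
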