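import Cfsg.Agent.Lib.GeomClasses.UnitSymp

/-!
Symplectic subfield groups inside unitary groups, dimension four included.
-/

set_option autoImplicit false
set_option linter.unusedSectionVars false

namespace CfsgLib.GeomClasses.UnitFour

open Matrix SympRoot UnitSymp

variable {ι : Type} [Fintype ι] [DecidableEq ι] {F : Type*} [Field F]

/-- An isometry group containing the rational transvections of a rational form, in dimension at least three. -/
structure Low (f : (ι → F) → (ι → F) → F) (F₀ : Subfield F) (M : Subgroup (GL ι F)) : Prop where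
  symp : Cfsg.Geo.IsSymplecticForm f
  two_lt : 2 < Fintype.card ι
  rat : ∀ u v, Rv F₀ u → Rv F₀ v → f u v ∈ F₀
  isometry : ∀ h ∈ M, Symp.IsIsometry f h
  mem : ∀ a, Rv F₀ a → ∀ c ∈ F₀, formTv f a c ∈ M

variable {f : (ι → F) → (ι → F) → F} {F₀ : Subfield F} {M : Subgroup (GL ι F)}

theorem Low.partner (S : Low f F₀ M) {a : ι → F} (ha : Rv F₀ a) (ha0 : a ≠ 0) :
    ∃ p, Rv F₀ p ∧ f a p = 1 := by
  obtain ⟨i, hi⟩ := exists_single S.symp ha0
  exact ⟨(f a (Pi.single i 1))⁻¹ • Pi.single i 1, (Rv.single i).smul (F₀.inv_mem (S.rat _ _ ha (Rv.single i))),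
    by rw [Symp.smul_right S.symp, inv_mul_cancel₀ hi]⟩

/-- A rational vector orthogonal to `u` pairing non-trivially with `x`, unless `x` lies on the line of `u`. -/
theorem Low.exists_orth (S : Low f F₀ M) {u x : ι → F} (hu : Rv F₀ u) (hu0 : u ≠ 0)
    (hx : ∀ c : F, x ≠ c • u) : ∃ z, Rv F₀ z ∧ f u z = 0 ∧ f x z ≠ 0 := by
  obtain ⟨p, hp, hup⟩ := S.partner hu hu0
  by_contra hc
  push Not at hc
  refine hx (f x p) (sub_eq_zero.1 (eq_zero_of_single S.symp fun i => ?_))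
  set z := Pi.single i (1 : F) - f u (Pi.single i 1) • p with hz
  have h1 := hc z ((Rv.single i).sub (hp.smul (S.rat _ _ hu (Rv.single i))))
    (by rw [hz, Symp.sub_right S.symp, Symp.smul_right S.symp, hup, mul_one, sub_self])
  rw [hz, Symp.sub_right S.symp, Symp.smul_right S.symp] at h1
  rw [Symp.sub_left S.symp, Symp.smul_left S.symp]
  linear_combination h1

/-- The same for two vectors. -/
theorem Low.exists_orth_both (S : Low f F₀ M) {u x y : ι → F} (hu : Rv F₀ u) (hu0 : u ≠ 0)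
    (hx : ∀ c : F, x ≠ c • u) (hy : ∀ c : F, y ≠ c • u) :
    ∃ z, Rv F₀ z ∧ f u z = 0 ∧ f x z ≠ 0 ∧ f y z ≠ 0 := by
  obtain ⟨z, hz, huz, hxz⟩ := S.exists_orth hu hu0 hx
  obtain ⟨z', hz', huz', hyz'⟩ := S.exists_orth hu hu0 hy
  by_cases h1 : f y z = 0
  · by_cases h2 : f x z' = 0
    · exact ⟨z + z', hz.add hz', by rw [Symp.add_right S.symp, huz, huz', add_zero],
        by rwa [Symp.add_right S.symp, h2, add_zero], by rwa [Symp.add_right S.symp, h1, zero_add]⟩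
    · exact ⟨z', hz', huz', h2, hyz'⟩
  · exact ⟨z, hz, huz, hxz, h1⟩

/-- A pair of rational partners of an orthogonal independent pair. -/
theorem Low.partners (S : Low f F₀ M) {a b : ι → F} (ha : Rv F₀ a) (hb : Rv F₀ b) (ha0 : a ≠ 0)
    (hab : f a b = 0) (hi : ∀ c : F, b ≠ c • a) :
    ∃ p q, Rv F₀ p ∧ Rv F₀ q ∧ f a p = 1 ∧ f b p = 0 ∧ f a q = 0 ∧ f b q = 1 := by
  obtain ⟨z, hz, haz, hbz⟩ := S.exists_orth ha ha0 hi
  obtain ⟨p, hp, hap⟩ := S.partner ha ha0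
  set q := (f b z)⁻¹ • z with hq
  have hqR : Rv F₀ q := hz.smul (F₀.inv_mem (S.rat _ _ hb hz))
  have haq : f a q = 0 := by rw [hq, Symp.smul_right S.symp, haz, mul_zero]
  have hbq : f b q = 1 := by rw [hq, Symp.smul_right S.symp, inv_mul_cancel₀ hbz]
  exact ⟨p - f b p • q, q, hp.sub (hqR.smul (S.rat _ _ hb hp)), hqR,
    by rw [Symp.sub_right S.symp, Symp.smul_right S.symp, hap, haq, mul_zero, sub_zero],
    by rw [Symp.sub_right S.symp, Symp.smul_right S.symp, hbq, mul_one, sub_self], haq, hbq⟩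

theorem Low.rat_formTv (S : Low f F₀ M) {a : ι → F} (ha : Rv F₀ a) {c : F} (hc : c ∈ F₀) :
    Rat' F₀ M (formTv f a c) :=
  ⟨S.mem a ha c hc, fun v hv => by
    rw [Symp.formTv_mulVec S.symp]; exact hv.add (ha.smul (F₀.mul_mem hc (S.rat _ _ hv ha)))⟩

theorem Low.rat_root (S : Low f F₀ M) {u w : ι → F} (hu : Rv F₀ u) (hw : Rv F₀ w) {c : F} (hc : c ∈ F₀) :
    Rat' F₀ M (root f u w c) :=
  (((S.rat_formTv (hu.add hw) F₀.one_mem).mul (S.rat_formTv hu (F₀.neg_mem F₀.one_mem))).mul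
    (S.rat_formTv hw (F₀.neg_mem F₀.one_mem))).mul (S.rat_formTv hu hc)

theorem Low.move (S : Low f F₀ M) {a b : ι → F} (ha : Rv F₀ a) (hb : Rv F₀ b) (ha0 : a ≠ 0)
    (hb0 : b ≠ 0) : ∃ h, Rat' F₀ M h ∧ (h : Matrix ι ι F) *ᵥ a = b := by
  have step : ∀ {a b : ι → F}, Rv F₀ a → Rv F₀ b → f a b ≠ 0 →
      ∃ h, Rat' F₀ M h ∧ (h : Matrix ι ι F) *ᵥ a = b := fun {a b} ha hb h =>
    ⟨_, S.rat_formTv (hb.sub ha) (F₀.inv_mem (S.rat _ _ ha hb)), Symp.formTv_move S.symp h⟩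
  by_cases h : f a b = 0
  · obtain ⟨i, hi⟩ := exists_single S.symp ha0
    obtain ⟨j, hj⟩ := exists_single S.symp hb0
    obtain ⟨z, hz, h1, h2⟩ : ∃ z, Rv F₀ z ∧ f a z ≠ 0 ∧ f b z ≠ 0 := by
      by_cases h1 : f b (Pi.single i 1) = 0
      · by_cases h2 : f a (Pi.single j 1) = 0
        · exact ⟨Pi.single i 1 + Pi.single j 1, (Rv.single i).add (Rv.single j),
            by rwa [Symp.add_right S.symp, h2, add_zero], by rwa [Symp.add_right S.symp, h1, zero_add]⟩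
        · exact ⟨_, Rv.single j, h2, hj⟩
      · exact ⟨_, Rv.single i, hi, h1⟩
    obtain ⟨g₁, hg₁, e₁⟩ := step ha hz h1
    obtain ⟨g₂, hg₂, e₂⟩ := step hz hb (Symp.ne_zero_comm S.symp h2)
    exact ⟨g₂ * g₁, hg₂.mul hg₁, by rw [gl_mul_mulVec, e₁, e₂]⟩
  · exact step ha hb h

theorem Low.move_fix (S : Low f F₀ M) {u a b : ι → F} (hu : Rv F₀ u) (hu0 : u ≠ 0) (ha : Rv F₀ a)
    (hb : Rv F₀ b) (hua : f u a = 0) (hub : f u b = 0) (hai : ∀ c : F, a ≠ c • u) (hbi : ∀ c : F, b ≠ c • u) :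
    ∃ h, Rat' F₀ M h ∧ (h : Matrix ι ι F) *ᵥ u = u ∧ (h : Matrix ι ι F) *ᵥ a = b := by
  have step : ∀ {a b : ι → F}, Rv F₀ a → Rv F₀ b → f u a = 0 → f u b = 0 → f a b ≠ 0 →
      ∃ h, Rat' F₀ M h ∧ (h : Matrix ι ι F) *ᵥ u = u ∧ (h : Matrix ι ι F) *ᵥ a = b := fun {a b} ha hb h1 h2 h =>
    ⟨_, S.rat_formTv (hb.sub ha) (F₀.inv_mem (S.rat _ _ ha hb)),
      by rw [Symp.formTv_mulVec S.symp, Symp.sub_right S.symp, h2, h1, sub_zero, mul_zero, zero_smul, add_zero],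
      Symp.formTv_move S.symp h⟩
  by_cases h : f a b = 0
  · obtain ⟨z, hz, huz, h1, h2⟩ := S.exists_orth_both hu hu0 hai hbi
    obtain ⟨g₁, hg₁, d₁, e₁⟩ := step ha hz hua huz h1
    obtain ⟨g₂, hg₂, d₂, e₂⟩ := step hz hb huz hub (Symp.ne_zero_comm S.symp h2)
    exact ⟨g₂ * g₁, hg₂.mul hg₁, by rw [gl_mul_mulVec, d₁, d₂], by rw [gl_mul_mulVec, e₁, e₂]⟩
  · exact step ha hb hua hub h

/-- Transitivity on orthogonal independent rational pairs. -/
theorem Low.move_pair (S : Low f F₀ M) {u w u' w' : ι → F} (hu : Rv F₀ u) (hw : Rv F₀ w) (hu0 : u ≠ 0)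
    (huw : f u w = 0) (hi : ∀ c : F, w ≠ c • u) (hu' : Rv F₀ u') (hw' : Rv F₀ w') (hu0' : u' ≠ 0)
    (huw' : f u' w' = 0) (hi' : ∀ c : F, w' ≠ c • u') :
    ∃ h, Rat' F₀ M h ∧ (h : Matrix ι ι F) *ᵥ u = u' ∧ (h : Matrix ι ι F) *ᵥ w = w' := by
  obtain ⟨g, hg, he⟩ := S.move hu hu' hu0 hu0'
  obtain ⟨k, hk, hku, hkw⟩ := S.move_fix (a := (g : Matrix ι ι F) *ᵥ w) hu' hu0' (hg.2 w hw) hw'
    (by rw [← he, S.isometry g hg.1, huw]) huw' (fun c hc => hi c (gl_mulVec_injective g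
      (show (g : Matrix ι ι F) *ᵥ w = (g : Matrix ι ι F) *ᵥ (c • u) by rw [hc, ← he, mulVec_smul]))) hi'
  exact ⟨k * g, hk.mul hg, by rw [gl_mul_mulVec, he, hku], by rw [gl_mul_mulVec, hkw]⟩

/-- An orthogonal independent rational pair through a given rational vector. -/
theorem Low.exists_second (S : Low f F₀ M) {a : ι → F} (ha : Rv F₀ a) (ha0 : a ≠ 0) :
    ∃ b, Rv F₀ b ∧ f a b = 0 ∧ ∀ c : F, b ≠ c • a := by
  classical
  obtain ⟨p, hp, hap⟩ := S.partner ha ha0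
  by_contra hc
  push Not at hc
  have hall : ∀ i, (Pi.single i (1 : F) : ι → F) ∈
      Submodule.span F ((({a, p} : Finset (ι → F))) : Set (ι → F)) := by
    intro i
    obtain ⟨c, hc'⟩ := hc (Pi.single i (1 : F) - f a (Pi.single i 1) • p)
      ((Rv.single i).sub (hp.smul (S.rat _ _ ha (Rv.single i))))
      (by rw [Symp.sub_right S.symp, Symp.smul_right S.symp, hap, mul_one, sub_self])
    rw [show (Pi.single i (1 : F) : ι → F) = c • a + f a (Pi.single i 1) • p from sub_eq_iff_eq_add.1 hc']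
    exact Submodule.add_mem _ (Submodule.smul_mem _ _ (Submodule.subset_span (by simp)))
      (Submodule.smul_mem _ _ (Submodule.subset_span (by simp)))
  have htop : Submodule.span F ((({a, p} : Finset (ι → F))) : Set (ι → F)) = ⊤ := by
    rw [eq_top_iff]
    intro x _
    rw [pi_eq_sum_univ' x]
    exact Submodule.sum_mem _ fun i _ => Submodule.smul_mem _ _ (hall i)
  have h1 := finrank_span_finset_le_card (R := F) ({a, p} : Finset (ι → F))
  rw [Set.finrank, htop, finrank_top, Module.finrank_fintype_fun_eq_card] at h1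
  have h2 : Finset.card ({a, p} : Finset (ι → F)) ≤ 2 := Finset.card_le_two
  have := S.two_lt
  omega

/-- A rational orthogonal independent pair. -/
theorem Low.exists_pair (S : Low f F₀ M) :
    ∃ a b, Rv F₀ a ∧ Rv F₀ b ∧ a ≠ 0 ∧ f a b = 0 ∧ ∀ c : F, b ≠ c • a := by
  have := S.two_lt
  obtain ⟨i⟩ : Nonempty ι := Fintype.card_pos_iff.1 (by omega)
  have h0 : (Pi.single i (1 : F) : ι → F) ≠ 0 := by simp
  obtain ⟨b, hb, hab, hi⟩ := S.exists_second (Rv.single i) h0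
  exact ⟨_, b, Rv.single i, hb, h0, hab, hi⟩

theorem Low.mem_ratScalar_of_lines (S : Low f F₀ M) (g : GL ι F)
    (h : ∀ a, Rv F₀ a → ∃ c : F, ∃ b, Rv F₀ b ∧ (g : Matrix ι ι F) *ᵥ a = c • b) : g ∈ ratScalar F₀ ι := by
  have := S.two_lt
  obtain ⟨i₀⟩ : Nonempty ι := Fintype.card_pos_iff.1 (by omega)
  obtain ⟨c, r₀, hr₀, he₀⟩ := h _ (Rv.single (F₀ := F₀) i₀)
  have hne : ∀ x : ι → F, x ≠ 0 → (g : Matrix ι ι F) *ᵥ x ≠ 0 := fun x hx h0 =>
    hx (gl_mulVec_injective g (show (g : Matrix ι ι F) *ᵥ x = (g : Matrix ι ι F) *ᵥ 0 by rw [h0, mulVec_zero]))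
  have hc0 : c ≠ 0 := fun h0 => hne (Pi.single i₀ 1) (by simp) (by rw [he₀, h0, zero_smul])
  have hr₀0 : r₀ ≠ 0 := fun h0 => hne (Pi.single i₀ 1) (by simp) (by rw [he₀, h0, smul_zero])
  have hcol : ∀ a i, c⁻¹ * (g : Matrix ι ι F) a i ∈ F₀ := by
    intro a i
    suffices H : Rv F₀ (c⁻¹ • ((g : Matrix ι ι F) *ᵥ Pi.single i 1)) by
      simpa using H a
    rcases eq_or_ne i i₀ with rfl | hi
    · rwa [he₀, smul_smul, inv_mul_cancel₀ hc0, one_smul]
    obtain ⟨d, r, hr, hei⟩ := h _ (Rv.single (F₀ := F₀) i)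
    obtain ⟨e, s, hs, hes⟩ := h _ ((Rv.single (F₀ := F₀) i₀).add (Rv.single i))
    rw [mulVec_add, he₀, hei] at hes
    have hd0 : d ≠ 0 := fun h0 => hne (Pi.single i 1) (by simp) (by rw [hei, h0, zero_smul])
    have hr0 : r ≠ 0 := fun h0 => hne (Pi.single i 1) (by simp) (by rw [hei, h0, smul_zero])
    have hind : ∀ k : F, r₀ ≠ k • r := by
      intro k hk
      have h1 : (Pi.single i₀ (1 : F) : ι → F) = (c * k / d) • Pi.single i 1 := gl_mulVec_injective g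
        (show (g : Matrix ι ι F) *ᵥ Pi.single i₀ 1 = (g : Matrix ι ι F) *ᵥ ((c * k / d) • Pi.single i 1) by
          rw [mulVec_smul, he₀, hei, hk, smul_smul, smul_smul, div_mul_cancel₀ _ hd0])
      simpa [hi] using congrFun h1 i₀
    have hind' : ∀ k : F, r ≠ k • r₀ := by
      intro k hk
      have hk0 : k ≠ 0 := fun h0 => hr0 (by rw [hk, h0, zero_smul])
      exact hind k⁻¹ (by rw [hk, smul_smul, inv_mul_cancel₀ hk0, one_smul])
    obtain ⟨z, hz, hrz, hr₀z⟩ := S.exists_orth hr hr0 hind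
    obtain ⟨z', hz', hr₀z', hrz'⟩ := S.exists_orth hr₀ hr₀0 hind'
    have e1 := congrArg (fun x => f x z) hes
    simp only [Symp.add_left S.symp, Symp.smul_left S.symp, hrz, mul_zero, add_zero] at e1
    have e2 := congrArg (fun x => f x z') hes
    simp only [Symp.add_left S.symp, Symp.smul_left S.symp, hr₀z', mul_zero, zero_add] at e2
    have he0 : e ≠ 0 := fun h0 => by
      rw [h0, zero_mul] at e1
      exact mul_ne_zero hc0 hr₀z e1
    have h1 : c / e = f s z / f r₀ z := by rw [div_eq_div_iff he0 hr₀z]; linear_combination e1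
    have h2 : d / e = f s z' / f r z' := by rw [div_eq_div_iff he0 hrz']; linear_combination e2
    have h3 : c⁻¹ * d ∈ F₀ := by
      have := F₀.div_mem (h2 ▸ F₀.div_mem (S.rat _ _ hs hz') (S.rat _ _ hr hz'))
        (h1 ▸ F₀.div_mem (S.rat _ _ hs hz) (S.rat _ _ hr₀ hz))
      rwa [div_div_div_cancel_right₀ he0, div_eq_inv_mul] at this
    rw [hei, smul_smul]
    exact hr.smul h3
  let W : Matrix ι ι F₀ := fun a i => ⟨_, hcol a i⟩
  have hW : W.map (F₀.subtype : F₀ →+* F) = c⁻¹ • (g : Matrix ι ι F) := rfl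
  have hdet : W.det ≠ 0 := by
    intro h0
    have h1 : (c⁻¹ • (g : Matrix ι ι F)).det = 0 := by
      rw [← hW, ← RingHom.mapMatrix_apply, ← RingHom.map_det, h0, map_zero]
    rw [det_smul] at h1
    exact mul_ne_zero (pow_ne_zero _ (inv_ne_zero hc0))
      ((Matrix.isUnit_iff_isUnit_det _).1 g.isUnit).ne_zero h1
  let z : GL ι F :=
    Units.map (Matrix.scalar ι : F →+* Matrix ι ι F).toMonoidHom (Units.mk0 c⁻¹ (inv_ne_zero hc0))
  have hz : z ∈ Cfsg.Geo.scalars ι F := ⟨_, rfl⟩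
  have hgz : g = Matrix.GeneralLinearGroup.map (F₀.subtype : F₀ →+* F)
      (Matrix.GeneralLinearGroup.mkOfDetNeZero W hdet) * z⁻¹ := by
    rw [eq_mul_inv_iff_mul_eq]
    apply Units.ext
    ext a i
    simp [z, W, Matrix.mul_diagonal, mul_comm]
    rfl
  rw [hgz]
  exact Subgroup.mul_mem_sup ⟨_, rfl⟩ ((Cfsg.Geo.scalars ι F).inv_mem hz)


variable {σ : F ≃+* F} {ζ : F} [Fintype F]

theorem maximal_sympSubfield_low (hf : Cfsg.Geo.IsUnitaryForm σ f) (h4 : 2 < Fintype.card ι)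
    (hfix : ∀ x : F, σ x = x ↔ x ∈ F₀) (hζ0 : ζ ≠ 0) (hζ : ζ + σ ζ = 0)
    (hrat : ∀ u v, Rv F₀ u → Rv F₀ v → ζ * f u v ∈ F₀) (halt : ∀ u, Rv F₀ u → f u u = 0)
    {K : Subgroup (GL ι F)} (hKi : K ≤ isoGroup f)
    (hTK : ∀ v, f v v = 0 → ∀ c, c + σ c = 0 → formTv f v c ∈ K)
    (hgen : ∀ M : Subgroup (GL ι F), (∀ v, f v v = 0 → ∀ c, c + σ c = 0 → formTv f v c ∈ M) → K ≤ M) :
    Cfsg.Geo.IsMaximalIn K (ratScalar F₀ ι ⊓ K) := by
  have hσ2 := hf.involutive
  obtain ⟨θ, hθ'⟩ := Unit.exists_moved hf.ne_refl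
  have hθ : θ ∉ F₀ := fun h => hθ' ((hfix θ).2 h)
  have hδ : θ - σ θ ≠ 0 := sub_ne_zero.2 (Ne.symm hθ')
  have hdecomp : ∀ x : ι → F, ∃ a b, Rv F₀ a ∧ Rv F₀ b ∧ x = a + θ • b := by
    intro x
    refine ⟨fun i => x i - θ * ((x i - σ (x i)) / (θ - σ θ)), fun i => (x i - σ (x i)) / (θ - σ θ),
      fun i => (hfix _).1 ?_, fun i => (hfix _).1 ?_, funext fun i => ?_⟩
    · simp only [map_sub, map_mul, map_div₀, hσ2]
      have h2 : σ θ - θ ≠ 0 := sub_ne_zero.2 hθ'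
      field_simp
      ring
    · simp only [map_sub, map_div₀, hσ2]
      rw [← neg_sub (x i), ← neg_sub θ, neg_div_neg_eq]
    · simp only [Pi.add_apply, Pi.smul_apply, smul_eq_mul, sub_add_cancel]
  have hskew : ∀ c : F, c + σ c = 0 → c / ζ ∈ F₀ := fun c hc => (hfix _).1 (by
    rw [map_div₀, eq_neg_of_add_eq_zero_right hc, eq_neg_of_add_eq_zero_right hζ, neg_div_neg_eq])
  -- the bilinear extension of the rational form
  let f₀ : (ι → F) → (ι → F) → F := fun x y => ζ * f x (fun i => σ (y i))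
  have hσrv : ∀ y : ι → F, Rv F₀ y → (fun i => σ (y i)) = y := fun y hy => funext fun i => (hfix _).2 (hy i)
  have hf₀f : ∀ x y : ι → F, Rv F₀ y → f₀ x y = ζ * f x y := fun x y hy => by simp only [f₀, hσrv y hy]
  have hbadd : ∀ x y v, f₀ (x + y) v = f₀ x v + f₀ y v := fun x y v => by
    simp only [f₀, Unit.add_left hf, mul_add]
  have hbsmul : ∀ c x v, f₀ (c • x) v = c * f₀ x v := fun c x v => by
    simp only [f₀, Unit.smul_left hf]; ring
  have hbaddr : ∀ v x y, f₀ v (x + y) = f₀ v x + f₀ v y := fun v x y => by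
    simp only [f₀, Pi.add_apply, map_add]
    rw [show (fun i => σ (x i) + σ (y i)) = (fun i => σ (x i)) + fun i => σ (y i) from rfl,
      Unit.add_right hf, mul_add]
  have hbsmulr : ∀ c v x, f₀ v (c • x) = c * f₀ v x := fun c v x => by
    simp only [f₀, Pi.smul_apply, smul_eq_mul, map_mul]
    rw [show (fun i => σ c * σ (x i)) = σ c • fun i => σ (x i) from rfl, Unit.smul_right hf, hσ2]
    ring
  have hskew0 : ∀ a b : ι → F, Rv F₀ a → Rv F₀ b → f₀ b a = - f₀ a b := by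
    intro a b ha hb
    have h := halt (a + b) (ha.add hb)
    rw [Unit.add_left hf, Unit.add_right hf, Unit.add_right hf, halt a ha, halt b hb] at h
    rw [hf₀f b a ha, hf₀f a b hb]
    linear_combination ζ * h
  have halt0 : ∀ v, f₀ v v = 0 := by
    intro v
    obtain ⟨a, b, ha, hb, rfl⟩ := hdecomp v
    rw [hbadd, hbaddr, hbaddr, hbsmul, hbsmul, hbsmulr, hbsmulr, hskew0 a b ha hb, hf₀f a a ha, hf₀f b b hb,
      halt a ha, halt b hb]
    ring
  have hf₀ : Cfsg.Geo.IsSymplecticForm f₀ :=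
    { bilinear :=
        { add_left := hbadd
          smul_left := hbsmul
          add_right := hbaddr
          smul_right := hbsmulr }
      skew := fun v w => by
        have h := halt0 (v + w)
        rw [hbadd, hbaddr, hbaddr, halt0, halt0] at h
        linear_combination h
      alternating := halt0
      nondegenerate := fun v hv => by
        have hv' : (fun i => σ (v i)) ≠ 0 := fun h0 => hv (funext fun i =>
          σ.injective (by simpa using congrFun h0 i))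
        obtain ⟨⟨y, hy⟩, -⟩ := hf.nondegenerate _ hv'
        obtain ⟨-, ⟨z, hz⟩⟩ := hf.nondegenerate v hv
        refine ⟨⟨y, mul_ne_zero hζ0 hy⟩, ⟨fun i => σ (z i), ?_⟩⟩
        simp only [f₀, hσ2]
        exact mul_ne_zero hζ0 hz }
  have hrat0 : ∀ u v : ι → F, Rv F₀ u → Rv F₀ v → f₀ u v ∈ F₀ := fun u v hu hv => by
    rw [hf₀f u v hv]; exact hrat u v hu hv
  have heq : ∀ a : ι → F, Rv F₀ a → ∀ k, formTv f a (ζ * k) = formTv f₀ a k := fun a ha k => gl_ext fun x => by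
    rw [Unit.formTv_mulVec hf (halt a ha), Symp.formTv_mulVec hf₀, hf₀f x a ha]
    congr 2
    ring
  have hskewk : ∀ k ∈ F₀, ζ * k + σ (ζ * k) = 0 := fun k hk => by
    rw [map_mul, (hfix k).2 hk, ← add_mul, hζ, zero_mul]
  have hmemK : ∀ a : ι → F, Rv F₀ a → ∀ k ∈ F₀, formTv f₀ a k ∈ K ⊓ isoGroup f₀ := fun a ha k hk =>
    ⟨heq a ha k ▸ hTK a (halt a ha) _ (hskewk k hk), Symp.formTv_isometry hf₀ a k⟩
  have SK : Low f₀ F₀ (K ⊓ isoGroup f₀) :=
    ⟨hf₀, h4, hrat0, fun g hg => hg.2, hmemK⟩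
  have hbase : ∀ a : ι → F, Rv F₀ a → ∀ k ∈ F₀, formTv f₀ a k ∈ ratScalar F₀ ι ⊓ K := fun a ha k hk =>
    ⟨Low.mem_ratScalar_of_lines SK _ fun x hx =>
      ⟨1, _, (SK.rat_formTv ha hk).2 x hx, (one_smul F _).symm⟩, (hmemK a ha k hk).1⟩
  have horth : ∀ a b : ι → F, Rv F₀ a → Rv F₀ b → f (a + θ • b) (a + θ • b) = 0 → f₀ a b = 0 := by
    intro a b ha hb h
    rw [Unit.add_left hf, Unit.add_right hf, Unit.add_right hf, Unit.smul_left hf, Unit.smul_left hf,
      Unit.smul_right hf, Unit.smul_right hf, halt a ha, halt b hb] at h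
    have h1 := hskew0 a b ha hb
    rw [hf₀f b a ha, hf₀f a b hb] at h1
    have h2 : (θ - σ θ) * (ζ * f a b) = 0 := by linear_combination (-ζ) * h + θ * h1
    rw [hf₀f a b hb]
    exact (mul_eq_zero.1 h2).resolve_left hδ
  have hsing : ∀ a b : ι → F, Rv F₀ a → Rv F₀ b → f₀ a b = 0 → f (a + θ • b) (a + θ • b) = 0 := by
    intro a b ha hb h
    have hab : f a b = 0 := by
      rw [hf₀f a b hb] at h
      exact (mul_eq_zero.1 h).resolve_left hζ0
    rw [Unit.add_left hf, Unit.add_right hf, Unit.add_right hf, Unit.smul_left hf, Unit.smul_left hf,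
      Unit.smul_right hf, Unit.smul_right hf, halt a ha, halt b hb, hab, Unit.eq_zero_comm hf hab]
    ring
  refine ⟨lt_of_le_of_ne inf_le_right fun he => ?_, fun M hle hMK => ?_⟩
  · obtain ⟨a, b, ha, hb, ha0, hab, hi⟩ := SK.exists_pair
    obtain ⟨p, q, hp, hq, hap, hbp, haq, hbq⟩ := SK.partners ha hb ha0 hab hi
    have hv := hTK _ (hsing a b ha hb hab) ζ hζ
    rw [← he] at hv
    obtain ⟨c, hc, hcr⟩ := ratScalar_rv hv.1
    have hval : (formTv f (a + θ • b) ζ : Matrix ι ι F) *ᵥ p = p + (-1 : F) • (a + θ • b) := by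
      rw [Unit.formTv_mulVec hf (hsing a b ha hb hab), Unit.add_right hf, Unit.smul_right hf, mul_add,
        mul_left_comm ζ, ← hf₀f p a ha, ← hf₀f p b hb, hf₀.skew p a, hf₀.skew p b, hap, hbp]
      simp
    have e1 := hrat0 _ _ (hcr p hp) hp
    have e2 := hrat0 _ _ (hcr p hp) hq
    simp only [hval, Symp.smul_left hf₀, Symp.add_left hf₀, hf₀.alternating, hap, hbp, haq, hbq] at e1 e2
    have hc' : c ∈ F₀ := by
      have := F₀.neg_mem e1
      convert this using 1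
      ring
    apply hθ
    have := F₀.sub_mem (hrat0 p q hp hq) (F₀.div_mem e2 hc')
    rw [mul_div_cancel_left₀ _ hc] at this
    convert this using 1
    ring
  by_cases hall : M ≤ ratScalar F₀ ι
  · exact Or.inl (le_antisymm (le_inf hall hMK) hle)
  right
  refine le_antisymm hMK ?_
  have SM : Low f₀ F₀ (M ⊓ isoGroup f₀) :=
    ⟨hf₀, h4, hrat0, fun g hg => hg.2, fun a ha k hk => ⟨hle (hbase a ha k hk), (hmemK a ha k hk).2⟩⟩
  obtain ⟨g, hgM, hg⟩ := SetLike.not_le_iff_exists.1 hall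
  obtain ⟨x, hx, hirr⟩ : ∃ x, Rv F₀ x ∧ ∀ c : F, ∀ y, Rv F₀ y → (g : Matrix ι ι F) *ᵥ x ≠ c • y := by
    by_contra hno
    push Not at hno
    exact hg (Low.mem_ratScalar_of_lines SK g hno)
  have hiso : ∀ {k : GL ι F}, k ∈ M → Symp.IsIsometry f k := fun hk => hKi (hMK hk)
  have hconj : ∀ {k : GL ι F}, k ∈ M → ∀ {v : ι → F}, f v v = 0 → ∀ {c : F}, formTv f v c ∈ M →
      formTv f ((k : Matrix ι ι F) *ᵥ v) c ∈ M := by
    intro k hk v hv c hc
    have e : formTv f ((k : Matrix ι ι F) *ᵥ v) c = k * formTv f v c * k⁻¹ := gl_ext fun y => by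
      obtain ⟨z, rfl⟩ : ∃ z, y = (k : Matrix ι ι F) *ᵥ z :=
        ⟨((k⁻¹ : GL ι F) : Matrix ι ι F) *ᵥ y, (gl_mulVec_inv_mulVec k y).symm⟩
      rw [gl_mul_mulVec, gl_mul_mulVec, gl_inv_mulVec_mulVec, Unit.formTv_mulVec hf (by rw [hiso hk, hv]),
        Unit.formTv_mulVec hf hv, mulVec_add, mulVec_smul, hiso hk]
    rw [e]
    exact M.mul_mem (M.mul_mem hk hc) (M.inv_mem hk)
  obtain ⟨a, b, ha, hb, hgx⟩ := hdecomp ((g : Matrix ι ι F) *ᵥ x)
  have hv0 : f (a + θ • b) (a + θ • b) = 0 := by rw [← hgx, hiso hgM, halt x hx]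
  have hab := horth a b ha hb hv0
  have ha0 : a ≠ 0 := fun h0 => hirr θ b hb (by rw [hgx, h0, zero_add])
  have hi : ∀ c : F, b ≠ c • a := fun c hc => hirr (1 + θ * c) a ha (by
    rw [hgx, hc, smul_smul, add_smul, one_smul])
  have hstart : formTv f (a + θ • b) (ζ * 1) ∈ M := by
    rw [← hgx]
    refine hconj hgM (halt x hx) ?_
    rw [heq x hx]
    exact (SM.mem x hx 1 F₀.one_mem).1
  rw [mul_one] at hstart
  have hall' : ∀ a' b' : ι → F, Rv F₀ a' → Rv F₀ b' → a' ≠ 0 → f₀ a' b' = 0 → (∀ c : F, b' ≠ c • a') →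
      formTv f (a' + θ • b') ζ ∈ M := by
    intro a' b' ha' hb' ha0' hab' hi'
    obtain ⟨k, hk, e1, e2⟩ := SM.move_pair ha hb ha0 hab hi ha' hb' ha0' hab' hi'
    have := hconj hk.1.1 hv0 hstart
    rwa [mulVec_add, mulVec_smul, e1, e2] at this
  refine hgen M fun v hv c hc => ?_
  by_cases hline : ∃ t : F, ∃ y, Rv F₀ y ∧ v = t • y
  · obtain ⟨t, y, hy, rfl⟩ := hline
    have hk : t * σ t * (c / ζ) ∈ F₀ := F₀.mul_mem ((hfix _).1 (by rw [map_mul, hσ2, mul_comm])) (hskew c hc)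
    rw [Unit.formTv_smul hf t (halt y hy) c, show t * σ t * c = ζ * (t * σ t * (c / ζ)) by field_simp,
      heq y hy]
    exact (SM.mem y hy _ hk).1
  push Not at hline
  by_cases hc0 : c = 0
  · rw [hc0, show formTv f v 0 = 1 from gl_ext fun y => by simp [Unit.formTv_mulVec hf hv]]
    exact M.one_mem
  obtain ⟨t, ht⟩ := Unit.exists_norm hf.ne_refl hσ2 ((hfix _).2 (hskew c hc))
  have ht0 : t ≠ 0 := by
    rintro rfl
    rw [zero_mul] at ht
    exact div_ne_zero hc0 hζ0 ht.symm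
  have hvt : formTv f v c = formTv f (t • v) ζ := by
    rw [Unit.formTv_smul hf t hv, ht, div_mul_cancel₀ _ hζ0]
  obtain ⟨a', b', ha', hb', hw⟩ := hdecomp (t • v)
  rw [hvt, hw]
  have htv : f (a' + θ • b') (a' + θ • b') = 0 := by
    rw [← hw, Unit.smul_left hf, Unit.smul_right hf, hv, mul_zero, mul_zero]
  have hline' : ∀ s : F, ∀ y, Rv F₀ y → a' + θ • b' ≠ s • y := fun s y hy he' =>
    hline (t⁻¹ * s) y hy (by rw [mul_smul, ← he', ← hw, smul_smul, inv_mul_cancel₀ ht0, one_smul])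
  refine hall' a' b' ha' hb' (fun h0 => hline' θ b' hb' (by rw [h0, zero_add])) (horth a' b' ha' hb' htv)
    fun s hs => hline' (1 + θ * s) a' ha' (by rw [hs, smul_smul, add_smul, one_smul])

end CfsgLib.GeomClasses.UnitFour
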