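import Cfsg.Agent.Lib.GeomClasses.UnitClauses
import Cfsg.Agent.Lib.GeomClasses.UnitFour.Orth
import Cfsg.Agent.Lib.GeomClasses.UnitFour.SubMax
import Cfsg.Agent.Lib.GeomClasses.UnitFour.Symp

/-!
Subfield clauses of the unitary maximality lists in dimension at least four.
-/

set_option autoImplicit false
set_option linter.unusedSectionVars false
set_option linter.style.haveILetI false
open Cfsg

namespace CfsgLib.GeomClasses.UnitFourClauses

open Matrix CfsgLib.GeomClasses

/-- Clause of the unitary maximality lists (subfields of odd prime index, low dimension). -/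
theorem subfield_maximal {F : Type*} [Field F] [Fintype F] (n q : ℕ) (hF : Fintype.card F = q ^ 2) (hn : 4 ≤ n) (F₀ : Subfield F) (r : ℕ) (hr : r.Prime) (hro : Odd r) (hcard : Fintype.card F = Nat.card F₀ ^ r) (P : Matrix.GeneralLinearGroup (Fin n) F) (hP : Cfsg.Geo.IsFormRationalStructure (Cfsg.hermForm n F q) F₀ 1 P) : Cfsg.Geo.IsMaximalIn (Cfsg.GU n F q ⊓ Cfsg.Geo.specialLinear (Fin n) F) (Cfsg.Geo.subfieldSubgroup F₀ P ⊓ (Cfsg.GU n F q ⊓ Cfsg.Geo.specialLinear (Fin n) F)) := by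
  classical
  have hh := UnitPow.isUnitaryForm_hermForm hF n
  let σ : F ≃+* F := UnitPow.conj hF
  have hσ2 : ∀ a, σ (σ a) = a := hh.involutive
  have hstable : ∀ x ∈ F₀, σ x ∈ F₀ := fun x hx => show x ^ q ∈ F₀ from pow_mem hx q
  let E : Subfield F := σ.toRingHom.eqLocusField (RingHom.id F)
  obtain ⟨ω, hω, hω'⟩ : ∃ ω ∈ F₀, σ ω ≠ ω := by
    by_contra hc
    push Not at hc
    obtain ⟨e, he⟩ := Unit.exists_moved hh.ne_refl
    have hle : F₀ ≤ E := fun x hx => hc x hx
    have hF₀E : F₀ = E := by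
      by_contra hne
      have htop := Rational.subfield_eq_top_of_lt hr hcard (lt_of_le_of_ne hle hne)
      exact he (show e ∈ E from htop ▸ Subfield.mem_top e)
    have hd : e - σ e ≠ 0 := sub_ne_zero.2 (Ne.symm he)
    have hb : ∀ x, σ ((x - σ x) / (e - σ e)) = (x - σ x) / (e - σ e) := fun x => by
      rw [map_div₀, map_sub, map_sub, hσ2, hσ2, ← neg_sub x, ← neg_sub e, neg_div_neg_eq]
    let φ : E × E → F := fun p => (p.1 : F) + e * p.2
    have hbij : Function.Bijective φ := by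
      constructor
      · rintro ⟨a, b⟩ ⟨a', b'⟩ h
        have h' : (a : F) + e * b = a' + e * b' := h
        have h1 := congrArg σ h'
        rw [map_add, map_add, map_mul, map_mul, show σ (a : F) = a from a.2, show σ (b : F) = b from b.2,
          show σ (a' : F) = a' from a'.2, show σ (b' : F) = b' from b'.2] at h1
        have h2 : (e - σ e) * ((b : F) - b') = 0 := by linear_combination h' - h1
        have hbb : (b : F) = b' := sub_eq_zero.1 ((mul_eq_zero.1 h2).resolve_left hd)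
        rw [hbb, add_left_inj] at h'
        exact Prod.ext (Subtype.ext h') (Subtype.ext hbb)
      · intro x
        refine ⟨(⟨x - e * ((x - σ x) / (e - σ e)), ?_⟩, ⟨(x - σ x) / (e - σ e), hb x⟩), by simp [φ]⟩
        show σ (x - e * ((x - σ x) / (e - σ e))) = x - e * ((x - σ x) / (e - σ e))
        rw [map_sub, map_mul, hb]
        field_simp
        ring
    have h1 : Nat.card F = Nat.card E ^ 2 := by
      rw [← Nat.card_congr (Equiv.ofBijective φ hbij), Nat.card_prod, pow_two]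
    rw [Nat.card_eq_fintype_card, hcard, hF₀E] at h1
    have h2 := Nat.pow_right_injective (Finite.one_lt_card (α := E)) h1
    rw [h2] at hro
    exact (Nat.not_odd_iff_even.2 even_two) hro
  set θ := ω - σ ω with hθdef
  have hθm : θ ∈ F₀ := F₀.sub_mem hω (hstable ω hω)
  have hθ0 : θ ≠ 0 := sub_ne_zero.2 (Ne.symm hω')
  have hθ : σ θ = - θ := by rw [hθdef, map_sub, hσ2]; ring
  let f : (Fin n → F) → (Fin n → F) → F := fun u v =>
    θ * Cfsg.hermForm n F q ((P : Matrix (Fin n) (Fin n) F) *ᵥ u) ((P : Matrix (Fin n) (Fin n) F) *ᵥ v)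
  have hsesq : IsSesq (σ : F →+* F) f :=
    { add_left := fun x y v => by simp only [f, mulVec_add, Unit.add_left hh, mul_add]
      smul_left := fun c x v => by simp only [f, mulVec_smul, Unit.smul_left hh]; ring
      add_right := fun v x y => by simp only [f, mulVec_add, Unit.add_right hh, mul_add]
      smul_right := fun c v x => by
        simp only [f, mulVec_smul, Unit.smul_right hh]
        change θ * (σ c * _) = σ c * (θ * _)
        ring }
  have hrat : ∀ u v, SympRoot.Rv F₀ u → SympRoot.Rv F₀ v → f u v ∈ F₀ := fun u v hu hv => by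
    have := F₀.mul_mem hθm (hP u v hu hv)
    simpa [f] using this
  have S : UnitFourSub.Setting σ f F₀ :=
    { sesq := hsesq
      involutive := hσ2
      skew := fun x y => by
        simp only [f, map_mul, hθ]
        rw [show σ (Cfsg.hermForm n F q _ _) = _ from Unit.conj_form hh ((P : Matrix (Fin n) (Fin n) F) *ᵥ x) _]
        ring
      nondegenerate := fun x hx => by
        obtain ⟨-, y, hy⟩ := hh.nondegenerate _ (gl_mulVec_ne_zero P hx)
        refine ⟨((P⁻¹ : GL (Fin n) F) : Matrix (Fin n) (Fin n) F) *ᵥ y, ?_⟩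
        simp only [f, gl_mulVec_inv_mulVec]
        exact mul_ne_zero hθ0 hy
      trace := Unit.exists_trace_ne_zero hh.ne_refl
      norms := fun c hc => by
        obtain ⟨a, ha⟩ := Unit.exists_norm hh.ne_refl hh.involutive (show σ c = c from hc)
        exact ⟨a, 0, by rw [zero_mul, sub_zero]; exact ha.symm⟩
      moved := ⟨ω, hω, hω'⟩
      stable := hstable
      rat := hrat
      four := hn }
  have H := S.toIsSkewHerm
  set K := (Cfsg.GU n F q ⊓ Cfsg.Geo.specialLinear (Fin n) F).comap (MulAut.conj P).toMonoidHom with hK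
  have hconj : ∀ v c, f v v = 0 → P * formTv f v c * P⁻¹ =
      formTv (Cfsg.hermForm n F q) ((P : Matrix (Fin n) (Fin n) F) *ᵥ v) (c * θ) := by
    intro v c hv
    have hv' : Cfsg.hermForm n F q ((P : Matrix (Fin n) (Fin n) F) *ᵥ v) ((P : Matrix (Fin n) (Fin n) F) *ᵥ v) = 0 :=
      (mul_eq_zero.1 hv).resolve_left hθ0
    refine gl_ext fun x => ?_
    rw [gl_mul_mulVec, gl_mul_mulVec, SkewPair.formTv_mulVec H hv, Unit.formTv_mulVec hh hv', mulVec_add,
      mulVec_smul]
    simp only [f, gl_mulVec_inv_mulVec, mul_assoc]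
  have hmem : ∀ g : GL (Fin n) F, Symp.IsIsometry f g → g ∈ Cfsg.Geo.specialLinear (Fin n) F → g ∈ K := by
    intro g hg hd
    show P * g * P⁻¹ ∈ Cfsg.GU n F q ⊓ Cfsg.Geo.specialLinear (Fin n) F
    refine ⟨UnitPow.mem_GU.2 fun x y => ?_,
      (MonoidHom.normal_ker _ : (Cfsg.Geo.specialLinear (Fin n) F).Normal).conj_mem g hd P⟩
    have := mul_left_cancel₀ hθ0 (hg (((P⁻¹ : GL (Fin n) F) : Matrix (Fin n) (Fin n) F) *ᵥ x)
      (((P⁻¹ : GL (Fin n) F) : Matrix (Fin n) (Fin n) F) *ᵥ y))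
    simpa only [gl_mul_mulVec, gl_mulVec_inv_mulVec] using this
  have hKi : ∀ g ∈ K, Symp.IsIsometry f g := by
    intro g hg u v
    have hg' : P * g * P⁻¹ ∈ Cfsg.GU n F q := hg.1
    have := UnitPow.mem_GU.1 hg' ((P : Matrix (Fin n) (Fin n) F) *ᵥ u) ((P : Matrix (Fin n) (Fin n) F) *ᵥ v)
    simp only [gl_mul_mulVec, gl_inv_mulVec_mulVec] at this
    exact congrArg (θ * ·) this
  have hroot : ∀ u w γ, f u u = 0 → f u w = 0 → σ γ = γ - f w w → SkewPair.root f u w γ ∈ K :=
    fun u w γ hu huw hγ => hmem _ (SkewPair.root_isometry H hu huw hγ)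
      (mul_mem (tv_mem_specialLinear _ _) (tv_mem_specialLinear _ _))
  have hgen : ∀ M : Subgroup (GL (Fin n) F),
      (∀ v, f v v = 0 → ∀ c, σ c = c → formTv f v c ∈ M) → K ≤ M := by
    intro M hM g hg
    have h1 := UnitGen.specialUnitary_le_of_formTv_mem hF (n := n) (by omega) (by omega)
      (M := M.map (MulAut.conj P).toMonoidHom) (fun w hw c hc => by
        obtain ⟨v, rfl⟩ : ∃ v, w = (P : Matrix (Fin n) (Fin n) F) *ᵥ v :=
          ⟨((P⁻¹ : GL (Fin n) F) : Matrix (Fin n) (Fin n) F) *ᵥ w, (gl_mulVec_inv_mulVec P w).symm⟩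
        have hv : f v v = 0 := by simp only [f, hw, mul_zero]
        have hfix : σ (c / θ) = c / θ := by
          rw [map_div₀, hθ, show σ c = -c from eq_neg_of_add_eq_zero_right hc, neg_div_neg_eq]
        exact ⟨formTv f v (c / θ), hM v hv _ hfix, (hconj v _ hv).trans (by rw [div_mul_cancel₀ _ hθ0])⟩)
      (show P * g * P⁻¹ ∈ Cfsg.GU n F q ⊓ Cfsg.Geo.specialLinear (Fin n) F from hg)
    obtain ⟨g', hg', he⟩ := h1
    rwa [(MulAut.conj P).injective he] at hg'
  have h := isMaximalIn_map (MulAut.conj P) (UnitFourSub.maximal_subfield S hr (fun h => absurd (h ▸ hro) (by decide)) hcard hKi hroot hgen)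
  rw [hK, Subgroup.map_inf _ _ _ (MulAut.conj P).injective,
    Subgroup.map_comap_eq_self_of_surjective (MulAut.conj P).surjective] at h
  exact h

/-- Clause of the unitary maximality lists (symplectic type, low dimension). -/
theorem symp_subfield_maximal {F : Type*} [Field F] [Fintype F] (n q : ℕ) (hF : Fintype.card F = q ^ 2) (hn : 4 ≤ n) (F₀ : Subfield F) (hcard : Fintype.card F = Nat.card F₀ ^ 2) (ζ : F) (hζ0 : ζ ≠ 0) (hζ : ζ + ζ ^ q = 0) (P : Matrix.GeneralLinearGroup (Fin n) F) (hP : Cfsg.Geo.IsFormRationalStructure (Cfsg.hermForm n F q) F₀ ζ P) (halt : ∀ u : Fin n → F, (∀ i, u i ∈ F₀) → Cfsg.hermForm n F q (Matrix.mulVec (P : Matrix (Fin n) (Fin n) F) u) (Matrix.mulVec (P : Matrix (Fin n) (Fin n) F) u) = 0) : Cfsg.Geo.IsMaximalIn (Cfsg.GU n F q ⊓ Cfsg.Geo.specialLinear (Fin n) F) (Cfsg.Geo.subfieldSubgroup F₀ P ⊓ (Cfsg.GU n F q ⊓ Cfsg.Geo.specialLinear (Fin n) F)) := by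
  classical
  have hh := UnitPow.isUnitaryForm_hermForm hF n
  have h2 := UnitPow.two_le hF
  have hq : Nat.card F₀ = q := by
    rw [hF] at hcard
    exact (Nat.pow_left_injective two_ne_zero hcard).symm
  let K₁ : Subfield F := (UnitPow.conj hF).toRingHom.eqLocusField (RingHom.id F)
  have hfix : ∀ x : F, UnitPow.conj hF x = x ↔ x ∈ F₀ := by
    have hle : F₀ ≤ K₁ := fun x hx => by
      show x ^ q = x
      have := congrArg Subtype.val (FiniteField.pow_card (⟨x, hx⟩ : F₀))
      rw [← Nat.card_eq_fintype_card, hq] at this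
      exact this
    have he : F₀ = K₁ := by
      by_contra hne
      have htop := Rational.subfield_eq_top_of_lt Nat.prime_two hcard (lt_of_le_of_ne hle hne)
      refine UnitPow.conj_ne_refl hF (RingEquiv.ext fun x => ?_)
      have : x ∈ K₁ := htop ▸ Subfield.mem_top x
      exact this
    exact fun x => ⟨fun h => he ▸ (h : x ∈ K₁), fun h => (he ▸ h : x ∈ K₁)⟩
  let f : (Fin n → F) → (Fin n → F) → F := fun u v =>
    Cfsg.hermForm n F q ((P : Matrix (Fin n) (Fin n) F) *ᵥ u) ((P : Matrix (Fin n) (Fin n) F) *ᵥ v)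
  have hf : Cfsg.Geo.IsUnitaryForm (UnitPow.conj hF) f :=
    { ne_refl := hh.ne_refl
      involutive := hh.involutive
      add_left := fun x y v => by simp only [f, mulVec_add, Unit.add_left hh]
      smul_left := fun c x v => by simp only [f, mulVec_smul, Unit.smul_left hh]
      herm := fun v w => hh.herm _ _
      nondegenerate := fun v hv => by
        have hv' : (P : Matrix (Fin n) (Fin n) F) *ᵥ v ≠ 0 := fun h => hv
          (gl_mulVec_injective P (show (P : Matrix (Fin n) (Fin n) F) *ᵥ v = (P : Matrix (Fin n) (Fin n) F) *ᵥ 0 by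
            rw [h, mulVec_zero]))
        obtain ⟨⟨x, hx⟩, ⟨y, hy⟩⟩ := hh.nondegenerate _ hv'
        refine ⟨⟨((P⁻¹ : GL (Fin n) F) : Matrix (Fin n) (Fin n) F) *ᵥ x, ?_⟩,
          ⟨((P⁻¹ : GL (Fin n) F) : Matrix (Fin n) (Fin n) F) *ᵥ y, ?_⟩⟩
        · simp only [f, gl_mulVec_inv_mulVec]; exact hx
        · simp only [f, gl_mulVec_inv_mulVec]; exact hy }
  set K := (Cfsg.GU n F q ⊓ Cfsg.Geo.specialLinear (Fin n) F).comap (MulAut.conj P).toMonoidHom with hK
  have hconj : ∀ v c, f v v = 0 → P * formTv f v c * P⁻¹ =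
      formTv (Cfsg.hermForm n F q) ((P : Matrix (Fin n) (Fin n) F) *ᵥ v) c := by
    intro v c hv
    refine gl_ext fun x => ?_
    rw [gl_mul_mulVec, gl_mul_mulVec, Unit.formTv_mulVec hf hv, Unit.formTv_mulVec hh hv, mulVec_add,
      mulVec_smul]
    simp only [f, gl_mulVec_inv_mulVec]
  have hKi : K ≤ UnitSymp.isoGroup f := by
    intro g hg u v
    have hg' : P * g * P⁻¹ ∈ Cfsg.GU n F q := hg.1
    have := UnitPow.mem_GU.1 hg' ((P : Matrix (Fin n) (Fin n) F) *ᵥ u) ((P : Matrix (Fin n) (Fin n) F) *ᵥ v)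
    simpa only [gl_mul_mulVec, gl_inv_mulVec_mulVec] using this
  have hTK : ∀ v, f v v = 0 → ∀ c, c + UnitPow.conj hF c = 0 → formTv f v c ∈ K := by
    intro v hv c hc
    show P * formTv f v c * P⁻¹ ∈ Cfsg.GU n F q ⊓ Cfsg.Geo.specialLinear (Fin n) F
    rw [hconj v c hv]
    exact ⟨UnitPow.mem_GU.2 fun x y => Unit.formTv_isometry hh hv hc x y, formTv_mem_specialLinear _ _ _⟩
  have hgen : ∀ M : Subgroup (GL (Fin n) F),
      (∀ v, f v v = 0 → ∀ c, c + UnitPow.conj hF c = 0 → formTv f v c ∈ M) → K ≤ M := by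
    intro M hM g hg
    have h1 := UnitGen.specialUnitary_le_of_formTv_mem hF (n := n) (by omega) (by omega)
      (M := M.map (MulAut.conj P).toMonoidHom) (fun w hw c hc => by
        obtain ⟨v, rfl⟩ : ∃ v, w = (P : Matrix (Fin n) (Fin n) F) *ᵥ v :=
          ⟨((P⁻¹ : GL (Fin n) F) : Matrix (Fin n) (Fin n) F) *ᵥ w, (gl_mulVec_inv_mulVec P w).symm⟩
        exact ⟨formTv f v c, hM v hw c hc, hconj v c hw⟩) (show P * g * P⁻¹ ∈ Cfsg.GU n F q ⊓ Cfsg.Geo.specialLinear (Fin n) F from hg)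
    obtain ⟨g', hg', he⟩ := h1
    rwa [(MulAut.conj P).injective he] at hg'
  have h := isMaximalIn_map (MulAut.conj P)
    (UnitFour.maximal_sympSubfield_low hf (by simp; omega) hfix hζ0 hζ hP
      (fun u hu => halt u hu) hKi hTK hgen)
  rw [hK, Subgroup.map_inf _ _ _ (MulAut.conj P).injective,
    Subgroup.map_comap_eq_self_of_surjective (MulAut.conj P).surjective] at h
  exact h

/-- Clause of the unitary maximality lists (orthogonal type, dimension four). -/
theorem orth_subfield_maximal {F : Type*} [Field F] [Fintype F] (n q : ℕ) (hF : Fintype.card F = q ^ 2) (hn : n = 4) (hq5 : 5 ≤ q) (hodd : Odd q) (F₀ : Subfield F) (hcard : Fintype.card F = Nat.card F₀ ^ 2) (P : Matrix.GeneralLinearGroup (Fin n) F) (hP : Cfsg.Geo.IsFormRationalStructure (Cfsg.hermForm n F q) F₀ 1 P) : Cfsg.Geo.IsMaximalIn (Cfsg.GU n F q ⊓ Cfsg.Geo.specialLinear (Fin n) F) (Cfsg.Geo.subfieldSubgroup F₀ P ⊓ (Cfsg.GU n F q ⊓ Cfsg.Geo.specialLinear (Fin n) F)) := by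
  classical
  have hh := UnitPow.isUnitaryForm_hermForm hF n
  have h2 := UnitPow.two_le hF
  have hq : Nat.card F₀ = q := by
    rw [hF] at hcard
    exact (Nat.pow_left_injective two_ne_zero hcard).symm
  let K₁ : Subfield F := (UnitPow.conj hF).toRingHom.eqLocusField (RingHom.id F)
  have hfix : ∀ x : F, UnitPow.conj hF x = x ↔ x ∈ F₀ := by
    have hle : F₀ ≤ K₁ := fun x hx => by
      show x ^ q = x
      have := congrArg Subtype.val (FiniteField.pow_card (⟨x, hx⟩ : F₀))
      rw [← Nat.card_eq_fintype_card, hq] at this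
      exact this
    have he : F₀ = K₁ := by
      by_contra hne
      have htop := Rational.subfield_eq_top_of_lt Nat.prime_two hcard (lt_of_le_of_ne hle hne)
      refine UnitPow.conj_ne_refl hF (RingEquiv.ext fun x => ?_)
      have : x ∈ K₁ := htop ▸ Subfield.mem_top x
      exact this
    exact fun x => ⟨fun h => he ▸ (h : x ∈ K₁), fun h => (he ▸ h : x ∈ K₁)⟩
  let f : (Fin n → F) → (Fin n → F) → F := fun u v =>
    Cfsg.hermForm n F q ((P : Matrix (Fin n) (Fin n) F) *ᵥ u) ((P : Matrix (Fin n) (Fin n) F) *ᵥ v)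
  have hf : Cfsg.Geo.IsUnitaryForm (UnitPow.conj hF) f :=
    { ne_refl := hh.ne_refl
      involutive := hh.involutive
      add_left := fun x y v => by simp only [f, mulVec_add, Unit.add_left hh]
      smul_left := fun c x v => by simp only [f, mulVec_smul, Unit.smul_left hh]
      herm := fun v w => hh.herm _ _
      nondegenerate := fun v hv => by
        have hv' : (P : Matrix (Fin n) (Fin n) F) *ᵥ v ≠ 0 := fun h => hv
          (gl_mulVec_injective P (show (P : Matrix (Fin n) (Fin n) F) *ᵥ v = (P : Matrix (Fin n) (Fin n) F) *ᵥ 0 by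
            rw [h, mulVec_zero]))
        obtain ⟨⟨x, hx⟩, ⟨y, hy⟩⟩ := hh.nondegenerate _ hv'
        refine ⟨⟨((P⁻¹ : GL (Fin n) F) : Matrix (Fin n) (Fin n) F) *ᵥ x, ?_⟩,
          ⟨((P⁻¹ : GL (Fin n) F) : Matrix (Fin n) (Fin n) F) *ᵥ y, ?_⟩⟩
        · simp only [f, gl_mulVec_inv_mulVec]; exact hx
        · simp only [f, gl_mulVec_inv_mulVec]; exact hy }
  set K := (Cfsg.GU n F q ⊓ Cfsg.Geo.specialLinear (Fin n) F).comap (MulAut.conj P).toMonoidHom with hK
  have hconj : ∀ v c, f v v = 0 → P * formTv f v c * P⁻¹ =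
      formTv (Cfsg.hermForm n F q) ((P : Matrix (Fin n) (Fin n) F) *ᵥ v) c := by
    intro v c hv
    refine gl_ext fun x => ?_
    rw [gl_mul_mulVec, gl_mul_mulVec, Unit.formTv_mulVec hf hv, Unit.formTv_mulVec hh hv, mulVec_add,
      mulVec_smul]
    simp only [f, gl_mulVec_inv_mulVec]
  have h2F : (2 : F) ≠ 0 := by
    intro h2
    have hp : ringChar F = 2 := by
      haveI : CharP F 2 := CharTwo.of_one_ne_zero_of_two_eq_zero one_ne_zero h2
      exact ringChar.eq F 2
    obtain ⟨k, -, hk⟩ := FiniteField.card F (ringChar F)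
    rw [hp, hF] at hk
    have hev : Even (q ^ 2) := by
      rw [hk]
      exact Nat.even_pow.2 ⟨even_two, k.pos.ne'⟩
    exact (Nat.not_even_iff_odd.2 hodd) (Nat.even_pow.1 hev).1
  have hrat : ∀ u v, SympRoot.Rv F₀ u → SympRoot.Rv F₀ v → f u v ∈ F₀ := fun u v hu hv => by
    simpa using hP u v hu hv
  have hfive : ∃ t ∈ F₀, t ≠ 0 ∧ t * t ≠ 1 := by
    haveI := Fintype.ofFinite F₀
    have hlt : ({0, 1, -1} : Finset F₀).card < (Finset.univ : Finset F₀).card := by
      have h3 : ({0, 1, -1} : Finset F₀).card ≤ 3 := Finset.card_le_three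
      rw [Finset.card_univ, ← Nat.card_eq_fintype_card, hq]
      omega
    obtain ⟨t, -, ht⟩ := Finset.exists_mem_notMem_of_card_lt_card hlt
    simp only [Finset.mem_insert, Finset.mem_singleton, not_or] at ht
    obtain ⟨t0, t1, t2⟩ := ht
    refine ⟨t, t.2, fun h => t0 (Subtype.ext h), fun h => ?_⟩
    rcases mul_self_eq_one_iff.1 h with h' | h'
    · exact t1 (Subtype.ext h')
    · exact t2 (Subtype.ext h')
  have S : UnitFourOrth.Setting (UnitPow.conj hF) f F₀ := ⟨hf, hfix, hrat, h2F, hn, hfive⟩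
  obtain ⟨θ, hθ0, hθ⟩ := Unit.exists_skew hh.ne_refl hh.involutive
  have hmem : ∀ g : GL (Fin n) F, Symp.IsIsometry f g → g ∈ Cfsg.Geo.specialLinear (Fin n) F → g ∈ K := by
    intro g hg hd
    show P * g * P⁻¹ ∈ Cfsg.GU n F q ⊓ Cfsg.Geo.specialLinear (Fin n) F
    refine ⟨UnitPow.mem_GU.2 fun x y => ?_,
      (MonoidHom.normal_ker _ : (Cfsg.Geo.specialLinear (Fin n) F).Normal).conj_mem g hd P⟩
    have := hg (((P⁻¹ : GL (Fin n) F) : Matrix (Fin n) (Fin n) F) *ᵥ x)
      (((P⁻¹ : GL (Fin n) F) : Matrix (Fin n) (Fin n) F) *ᵥ y)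
    simpa only [f, gl_mul_mulVec, gl_mulVec_inv_mulVec] using this
  have hKi : ∀ g ∈ K, Symp.IsIsometry f g := by
    intro g hg u v
    have hg' : P * g * P⁻¹ ∈ Cfsg.GU n F q := hg.1
    have := UnitPow.mem_GU.1 hg' ((P : Matrix (Fin n) (Fin n) F) *ᵥ u) ((P : Matrix (Fin n) (Fin n) F) *ᵥ v)
    simpa only [gl_mul_mulVec, gl_inv_mulVec_mulVec] using this
  have hroot : ∀ u w γ, f u u = 0 → f u w = 0 → γ + UnitPow.conj hF γ = - f w w →
      UnitOrth.root f u w γ ∈ K := fun u w γ hu huw hγ =>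
    hmem _ (UnitOrth.root_isometry hf hu huw hγ)
      (mul_mem (tv_mem_specialLinear _ _) (tv_mem_specialLinear _ _))
  have hgen : ∀ M : Subgroup (GL (Fin n) F),
      (∀ v, f v v = 0 → ∀ c, c + UnitPow.conj hF c = 0 → formTv f v c ∈ M) → K ≤ M := by
    intro M hM g hg
    have h1 := UnitGen.specialUnitary_le_of_formTv_mem hF (n := n) (by omega) (by omega)
      (M := M.map (MulAut.conj P).toMonoidHom) (fun w hw c hc => by
        obtain ⟨v, rfl⟩ : ∃ v, w = (P : Matrix (Fin n) (Fin n) F) *ᵥ v :=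
          ⟨((P⁻¹ : GL (Fin n) F) : Matrix (Fin n) (Fin n) F) *ᵥ w, (gl_mulVec_inv_mulVec P w).symm⟩
        exact ⟨formTv f v c, hM v hw c hc, hconj v c hw⟩) (show P * g * P⁻¹ ∈ Cfsg.GU n F q ⊓ Cfsg.Geo.specialLinear (Fin n) F from hg)
    obtain ⟨g', hg', he⟩ := h1
    rwa [(MulAut.conj P).injective he] at hg'
  have h := isMaximalIn_map (MulAut.conj P)
    (UnitFourOrth.maximal_orthSubfield S hθ0 (eq_neg_of_add_eq_zero_right hθ) hKi hroot hmem hgen)
  rw [hK, Subgroup.map_inf _ _ _ (MulAut.conj P).injective,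
    Subgroup.map_comap_eq_self_of_surjective (MulAut.conj P).surjective] at h
  exact h

end CfsgLib.GeomClasses.UnitFourClauses
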