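import Cfsg.Agent.Lib.GeomClasses.UnitFrameCen

/-!
Orthonormal frames of a four-dimensional unitary space: monomial elements, the orbit of the frame vectors under
an overgroup, and the class of vectors whose quasi-reflection is congruent to those of the frame.
-/

set_option autoImplicit false
set_option linter.unusedSectionVars false
set_option linter.unusedSimpArgs false

namespace CfsgLib.GeomClasses.UnitFour

open Matrix CfsgLib.GeomClasses.UnitQr CfsgLib.GeomClasses.UnitSymp CfsgLib.GeomClasses.UnitDecomp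
  CfsgLib.GeomClasses.UnitCircle CfsgLib.GeomClasses.UnitFrame

variable {F : Type*} [Field F] [Fintype F] {σ : F ≃+* F} {f : (Fin 4 → F) → (Fin 4 → F) → F}
  {D : Fin 4 → Submodule F (Fin 4 → F)} {e : Fin 4 → Fin 4 → F}

/-- Four orthonormal vectors, one in each line. -/
structure Quad (σ : F ≃+* F) (f : (Fin 4 → F) → (Fin 4 → F) → F) (D : Fin 4 → Submodule F (Fin 4 → F))
    (e : Fin 4 → Fin 4 → F) : Prop where
  unit : Cfsg.Geo.IsUnitaryForm σ f
  nd : Cfsg.Geo.IsNondegenerateMDecomposition f 1 D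
  mem : ∀ a, e a ∈ D a
  norm : ∀ a, f (e a) (e a) = 1

theorem exists_quad (hf : Cfsg.Geo.IsUnitaryForm σ f) (hD : Cfsg.Geo.IsNondegenerateMDecomposition f 1 D) :
    ∃ e : Fin 4 → Fin 4 → F, Quad σ f D e := by
  have key : ∀ a, ∃ v ∈ D a, f v v = 1 := fun a => by
    obtain ⟨v, hv, hv0⟩ := Decomp.exists_ne_zero hD.decomp a
    exact exists_value hf (hD.nondegenerate a) hv hv0 (map_one σ)
  choose e he hee using key
  exact ⟨e, hf, hD, he, hee⟩

/-- The members of the four-element type, in any order. -/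
theorem sum_four {M : Type*} [AddCommMonoid M] (φ : Fin 4 → M) {a b k l : Fin 4} (hab : a ≠ b) (hak : a ≠ k)
    (hal : a ≠ l) (hbk : b ≠ k) (hbl : b ≠ l) (hkl : k ≠ l) : ∑ i, φ i = φ a + φ b + φ k + φ l := by
  classical
  have hu : ({a, b, k, l} : Finset (Fin 4)) = Finset.univ :=
    Finset.eq_univ_of_card _ (by simp [hab, hak, hal, hbk, hbl, hkl])
  rw [← hu, Finset.sum_insert (by simp [hab, hak, hal]), Finset.sum_insert (by simp [hbk, hbl]),
    Finset.sum_insert (by simp [hkl]), Finset.sum_singleton]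
  abel

theorem prod_four {M : Type*} [CommMonoid M] (φ : Fin 4 → M) {a b k l : Fin 4} (hab : a ≠ b) (hak : a ≠ k)
    (hal : a ≠ l) (hbk : b ≠ k) (hbl : b ≠ l) (hkl : k ≠ l) : ∏ i, φ i = φ a * φ b * φ k * φ l := by
  classical
  have hu : ({a, b, k, l} : Finset (Fin 4)) = Finset.univ :=
    Finset.eq_univ_of_card _ (by simp [hab, hak, hal, hbk, hbl, hkl])
  rw [← hu, Finset.prod_insert (by simp [hab, hak, hal]), Finset.prod_insert (by simp [hbk, hbl]),
    Finset.prod_insert (by simp [hkl]), Finset.prod_singleton]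
  simp only [mul_assoc]

theorem exists_others (a b : Fin 4) : ∃ k l : Fin 4, a ≠ k ∧ a ≠ l ∧ b ≠ k ∧ b ≠ l ∧ k ≠ l := by
  revert a b; decide

theorem exists_three (a : Fin 4) : ∃ b k l : Fin 4, a ≠ b ∧ a ≠ k ∧ a ≠ l ∧ b ≠ k ∧ b ≠ l ∧ k ≠ l := by
  revert a; decide

variable (P : Quad σ f D e)
include P

theorem Quad.orth {a b : Fin 4} (h : a ≠ b) : f (e a) (e b) = 0 := P.nd.orthogonal a b h _ (P.mem a) _ (P.mem b)

theorem Quad.form_e (a b : Fin 4) : f (e a) (e b) = if a = b then 1 else 0 := by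
  split_ifs with h
  · subst h; exact P.norm a
  · exact P.orth h

theorem Quad.e_ne (a : Fin 4) : e a ≠ 0 := fun h => by
  have := P.norm a
  rw [h, Unit.zero_left P.unit] at this
  exact zero_ne_one this

theorem Quad.line (a : Fin 4) : D a = Submodule.span F {e a} :=
  (Submodule.eq_of_le_of_finrank_eq ((Submodule.span_singleton_le_iff_mem _ _).2 (P.mem a))
    (by rw [finrank_span_singleton (P.e_ne a), P.nd.decomp.finrank_eq a])).symm

theorem Quad.expand (x : Fin 4 → F) : ∑ a, f x (e a) • e a = x := by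
  conv_rhs => rw [← Decomp.sum_comp P.nd.decomp x]
  refine Finset.sum_congr rfl fun a _ => ?_
  obtain ⟨r, hr⟩ := Submodule.mem_span_singleton.1 (P.line a ▸ Decomp.comp_mem P.nd.decomp a x)
  have h : f x (e a) = r := by
    rw [Decomp.form_comp_left P.nd.decomp (Unit.sesq P.unit) P.nd.orthogonal x (P.mem a), ← hr, Unit.smul_left P.unit, P.norm, mul_one]
  rw [h, hr]

theorem Quad.ext {x y : Fin 4 → F} (h : ∀ a, f x (e a) = f y (e a)) : x = y := by
  rw [← P.expand x, ← P.expand y]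
  exact Finset.sum_congr rfl fun a _ => by rw [h a]

theorem Quad.form_coord (x y : Fin 4 → F) : f x y = ∑ a, f x (e a) * σ (f y (e a)) := by
  conv_lhs => rw [← P.expand x, (Unit.sesq P.unit).sum_left]
  refine Finset.sum_congr rfl fun a _ => ?_
  rw [Unit.smul_left P.unit, Unit.conj_form P.unit]

theorem Quad.coord_sum (S : Finset (Fin 4)) (c : Fin 4 → F) (b : Fin 4) :
    f (∑ a ∈ S, c a • e a) (e b) = if b ∈ S then c b else 0 := by
  classical
  rw [(Unit.sesq P.unit).sum_left]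
  simp only [Unit.smul_left P.unit, P.form_e, mul_ite, mul_one, mul_zero, Finset.sum_ite_eq']

theorem Quad.nrm_sum {x : Fin 4 → F} (hx : f x x = 1) : ∑ a, f x (e a) * σ (f x (e a)) = 1 := by
  rw [← P.form_coord]; exact hx

theorem Quad.norm_fixed (x : Fin 4 → F) (a : Fin 4) :
    σ (f x (e a) * σ (f x (e a))) = f x (e a) * σ (f x (e a)) := by
  rw [map_mul, P.unit.involutive, mul_comm]

theorem Quad.stab_of {g : GL (Fin 4) F}
    (h : ∀ a, ∃ (b : Fin 4) (c : F), (g : Matrix (Fin 4) (Fin 4) F) *ᵥ e a = c • e b) :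
    g ∈ Cfsg.Geo.decompositionStabilizer D := by
  refine Decomp.mem_stabilizer_of_image P.nd.decomp fun a => ?_
  obtain ⟨b, c, hbc⟩ := h a
  refine ⟨b, fun v hv => ?_⟩
  rw [P.line a] at hv
  obtain ⟨r, rfl⟩ := Submodule.mem_span_singleton.1 hv
  rw [mulVec_smul, hbc]
  exact (D b).smul_mem _ ((D b).smul_mem _ (P.mem b))

theorem Quad.mono_coord {g : GL (Fin 4) F} (hgi : g ∈ isoGroup f) {a b : Fin 4} {c : F}
    (hc : (g : Matrix (Fin 4) (Fin 4) F) *ᵥ e a = c • e b) (hN : c * σ c = 1) (x : Fin 4 → F) :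
    f ((g : Matrix (Fin 4) (Fin 4) F) *ᵥ x) (e b) = c * f x (e a) := by
  have h := hgi x (e a)
  rw [hc, Unit.smul_right P.unit] at h
  rw [← h, ← mul_assoc, hN, one_mul]

theorem Quad.rho_stab (a : Fin 4) {ε : F} (hε : ε * σ ε = 1) :
    rho f (e a) ε ∈ Cfsg.Geo.decompositionStabilizer D :=
  P.stab_of fun b => by
    by_cases h : b = a
    · subst h; exact ⟨b, ε, rho_self P.unit (P.norm b) hε⟩
    · exact ⟨b, 1, by rw [rho_fix P.unit (P.norm a) hε (P.orth h), one_smul]⟩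

/-- The diagonal element with prescribed entries of norm one. -/
theorem Quad.exists_diag (η : Fin 4 → F) (hη : ∀ a, η a * σ (η a) = 1) :
    ∃ g ∈ isoGroup f, g ∈ Cfsg.Geo.decompositionStabilizer D ∧
      (g : Matrix (Fin 4) (Fin 4) F).det = ∏ a, η a ∧
      ∀ a, (g : Matrix (Fin 4) (Fin 4) F) *ᵥ e a = η a • e a := by
  classical
  have key : ∀ S : Finset (Fin 4), ∃ g ∈ isoGroup f, g ∈ Cfsg.Geo.decompositionStabilizer D ∧
      (g : Matrix (Fin 4) (Fin 4) F).det = ∏ a ∈ S, η a ∧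
      ∀ a, (g : Matrix (Fin 4) (Fin 4) F) *ᵥ e a = (if a ∈ S then η a else 1) • e a := by
    intro S
    induction S using Finset.induction_on with
    | empty => exact ⟨1, (isoGroup f).one_mem, (Cfsg.Geo.decompositionStabilizer D).one_mem, by simp, by simp⟩
    | insert b S hb ih =>
      obtain ⟨g, hg, hgs, hgd, hgm⟩ := ih
      refine ⟨rho f (e b) (η b) * g, (isoGroup f).mul_mem (rho_iso P.unit (P.norm b) (hη b)) hg,
        (Cfsg.Geo.decompositionStabilizer D).mul_mem (P.rho_stab b (hη b)) hgs, ?_, fun a => ?_⟩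
      · rw [Units.val_mul, det_mul, rho_det P.unit (P.norm b) (hη b), hgd, Finset.prod_insert hb]
      rw [gl_mul_mulVec, hgm, mulVec_smul]
      by_cases hab : a = b
      · subst hab
        rw [rho_self P.unit (P.norm a) (hη a), if_neg hb, one_smul, if_pos (Finset.mem_insert_self a S)]
      · rw [rho_fix P.unit (P.norm b) (hη b) (P.orth hab)]
        simp only [Finset.mem_insert, hab, false_or]
  obtain ⟨g, hg, hgs, hgd, hgm⟩ := key Finset.univ
  exact ⟨g, hg, hgs, hgd, fun a => by rw [hgm, if_pos (Finset.mem_univ a)]⟩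

/-- A diagonal element with determinant a fourth power, normalised by a scalar. -/
theorem Quad.exists_diag_one (η : Fin 4 → F) (hη : ∀ a, η a * σ (η a) = 1) {μ : F} (hμ : μ * σ μ = 1)
    (hdet : (∏ a, η a) * μ ^ 4 = 1) :
    ∃ g ∈ hGrp f D, g ∈ isoGroup f ∧ ∀ v : Fin 4 → F, ∀ a,
      f ((g : Matrix (Fin 4) (Fin 4) F) *ᵥ v) (e a) = μ * η a * f v (e a) := by
  have hμη : ∀ a, μ * η a * σ (μ * η a) = 1 := fun a => by
    rw [map_mul]; linear_combination (η a * σ (η a)) * hμ + hη a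
  obtain ⟨g, hg, hgs, hgd, hgm⟩ := P.exists_diag (fun a => μ * η a) hμη
  refine ⟨g, ⟨hgs, kGrp_of P.unit hg ?_⟩, hg, fun v a => P.mono_coord hg (hgm a) (hμη a) v⟩
  rw [hgd, Finset.prod_mul_distrib, Finset.prod_const, Finset.card_univ, Fintype.card_fin, mul_comm, hdet]

/-- The element exchanging two frame vectors. -/
theorem Quad.swap_vec {a b : Fin 4} (h : a ≠ b) :
    ∃ g ∈ isoGroup f, g ∈ Cfsg.Geo.decompositionStabilizer D ∧
      (g : Matrix (Fin 4) (Fin 4) F) *ᵥ e a = e b ∧ (g : Matrix (Fin 4) (Fin 4) F) *ᵥ e b = e a ∧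
      (∀ l, l ≠ a → l ≠ b → (g : Matrix (Fin 4) (Fin 4) F) *ᵥ e l = e l) ∧
      (g : Matrix (Fin 4) (Fin 4) F).det = -1 := by
  have hf := P.unit
  have hdd : f (e a - e b) (e a - e b) = 2 := by
    simp only [Unit.sub_left hf, Unit.sub_right hf, P.norm, P.orth h, P.orth (Ne.symm h)]
    ring
  have hq : QCond σ f (-1) (e a - e b) := by simp [QCond, hdd]; ring
  have ha : (qr f (-1) (e a - e b) : Matrix (Fin 4) (Fin 4) F) *ᵥ e a = e b := by
    rw [qr_mulVec hf hq, Unit.sub_right hf, P.norm, P.orth h, sub_zero, mul_one, neg_one_smul]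
    abel
  have hb : (qr f (-1) (e a - e b) : Matrix (Fin 4) (Fin 4) F) *ᵥ e b = e a := by
    rw [qr_mulVec hf hq, Unit.sub_right hf, P.norm, P.orth (Ne.symm h), zero_sub, neg_mul_neg, one_mul, one_smul]
    abel
  have ho : ∀ l, l ≠ a → l ≠ b → (qr f (-1) (e a - e b) : Matrix (Fin 4) (Fin 4) F) *ᵥ e l = e l :=
    fun l hla hlb => qr_fix hf hq (by rw [Unit.sub_right hf, P.orth hla, P.orth hlb, sub_zero])
  refine ⟨_, qr_iso hf hq, P.stab_of fun l => ?_, ha, hb, ho, by rw [qr_det hf hq, hdd]; ring⟩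
  by_cases hla : l = a
  · subst hla; exact ⟨b, 1, by rw [ha, one_smul]⟩
  by_cases hlb : l = b
  · subst hlb; exact ⟨a, 1, by rw [hb, one_smul]⟩
  exact ⟨l, 1, by rw [ho l hla hlb, one_smul]⟩

/-- The element permuting the frame vectors. -/
theorem Quad.exists_perm (π : Equiv.Perm (Fin 4)) :
    ∃ g ∈ isoGroup f, g ∈ Cfsg.Geo.decompositionStabilizer D ∧
      (g : Matrix (Fin 4) (Fin 4) F).det * σ (g : Matrix (Fin 4) (Fin 4) F).det = 1 ∧
      ∀ a, (g : Matrix (Fin 4) (Fin 4) F) *ᵥ e a = e (π a) := by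
  induction π using Equiv.Perm.swap_induction_on with
  | one => exact ⟨1, (isoGroup f).one_mem, (Cfsg.Geo.decompositionStabilizer D).one_mem, by simp, by simp⟩
  | swap_mul π x y hxy ih =>
    obtain ⟨g, hg, hgs, hgd, hgm⟩ := ih
    obtain ⟨s, hs, hss, hx, hy, ho, hsd⟩ := P.swap_vec hxy
    refine ⟨s * g, (isoGroup f).mul_mem hs hg, (Cfsg.Geo.decompositionStabilizer D).mul_mem hss hgs,
      by rw [Units.val_mul, det_mul, hsd, map_mul, map_neg, map_one]; linear_combination hgd, fun a => ?_⟩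
    rw [gl_mul_mulVec, hgm, Equiv.Perm.mul_apply]
    by_cases h1 : π a = x
    · rw [h1, hx, Equiv.swap_apply_left]
    by_cases h2 : π a = y
    · rw [h2, hy, Equiv.swap_apply_right]
    rw [ho _ h1 h2, Equiv.swap_apply_of_ne_of_ne h1 h2]

/-- A monomial isometry can be corrected on a line. -/
theorem Quad.det_fix {g : GL (Fin 4) F} (hg : g ∈ isoGroup f) (hgs : g ∈ Cfsg.Geo.decompositionStabilizer D)
    (hN : (g : Matrix (Fin 4) (Fin 4) F).det * σ (g : Matrix (Fin 4) (Fin 4) F).det = 1) (d : Fin 4) :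
    ∃ r ∈ isoGroup f, r * g ∈ hGrp f D ∧ ∀ v, f v (e d) = 0 → (r : Matrix (Fin 4) (Fin 4) F) *ᵥ v = v := by
  set δ := (g : Matrix (Fin 4) (Fin 4) F).det with hδ
  have hn : σ δ * σ (σ δ) = 1 := norm_conj P.unit hN
  refine ⟨rho f (e d) (σ δ), rho_iso P.unit (P.norm d) hn,
    ⟨(Cfsg.Geo.decompositionStabilizer D).mul_mem (P.rho_stab d hn) hgs,
      kGrp_of P.unit ((isoGroup f).mul_mem (rho_iso P.unit (P.norm d) hn) hg) ?_⟩,
    fun v hv => rho_fix P.unit (P.norm d) hn hv⟩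
  rw [Units.val_mul, det_mul, rho_det P.unit (P.norm d) hn, ← hδ, mul_comm, hN]

/-- The orbit of the frame vectors, described by their rescaled quasi-reflections. -/
def Orb (σ : F ≃+* F) (f : (Fin 4 → F) → (Fin 4 → F) → F) (M : Subgroup (GL (Fin 4) F)) : Set (Fin 4 → F) :=
  {x | f x x = 1 ∧ ∀ l : F, l * σ l = 1 → ∃ g ∈ M, g ∈ isoGroup f ∧
    ∀ v, (g : Matrix (Fin 4) (Fin 4) F) *ᵥ v = l • ((rho f x (σ l ^ 4) : Matrix (Fin 4) (Fin 4) F) *ᵥ v)}

omit P

theorem pow_norm {l : F} (h : l * σ l = 1) (k : ℕ) : l ^ k * σ (l ^ k) = 1 := by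
  rw [map_pow, ← mul_pow, h, one_pow]

theorem orb_zeta (hf : Cfsg.Geo.IsUnitaryForm σ f) {l : F} (h : l * σ l = 1) :
    σ l ^ 4 * σ (σ l ^ 4) = 1 :=
  pow_norm (norm_conj hf h) 4

include P

variable {M : Subgroup (GL (Fin 4) F)} (hle : hGrp f D ≤ M)
include hle

theorem Quad.orb_frame (a : Fin 4) : e a ∈ Orb σ f M := by
  classical
  have hf := P.unit
  refine ⟨P.norm a, fun l hl => ?_⟩
  have hz := orb_zeta hf hl
  obtain ⟨g, hg, hgi, hgm⟩ := P.exists_diag_one (fun i => if i = a then σ l ^ 4 else 1)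
    (fun i => by split_ifs; exacts [hz, by simp]) hl
    (by rw [Finset.prod_ite_eq' Finset.univ a (fun _ => σ l ^ 4), if_pos (Finset.mem_univ a), ← mul_pow,
      mul_comm, hl, one_pow])
  refine ⟨g, hle hg, hgi, fun v => P.ext fun i => ?_⟩
  rw [hgm, Unit.smul_left hf, rho_mulVec hf (P.norm a) hz, Unit.add_left hf, Unit.smul_left hf, P.form_e]
  by_cases hia : i = a
  · subst hia; simp only [if_pos]; ring
  · rw [if_neg hia, if_neg (Ne.symm hia)]; ring

theorem Quad.orb_map {g : GL (Fin 4) F} (hg : g ∈ M) (hgi : g ∈ isoGroup f) {x : Fin 4 → F}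
    (hx : x ∈ Orb σ f M) : (g : Matrix (Fin 4) (Fin 4) F) *ᵥ x ∈ Orb σ f M := by
  have hf := P.unit
  refine ⟨by rw [hgi]; exact hx.1, fun l hl => ?_⟩
  obtain ⟨h, hh, hhi, hhv⟩ := hx.2 l hl
  refine ⟨g * h * g⁻¹, M.mul_mem (M.mul_mem hg hh) (M.inv_mem hg),
    (isoGroup f).mul_mem ((isoGroup f).mul_mem hgi hhi) ((isoGroup f).inv_mem hgi), fun v => ?_⟩
  rw [gl_mul_mulVec, gl_mul_mulVec, hhv, mulVec_smul, ← rho_conj hf hgi hx.1 (orb_zeta hf hl), gl_mul_mulVec,
    gl_mul_mulVec]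

/-- The images of the frame vectors are in the orbit, also after a rescaled quasi-reflection. -/
theorem Quad.orb_rho {x y : Fin 4 → F} (hx : x ∈ Orb σ f M) (hy : y ∈ Orb σ f M) {l : F} (hl : l * σ l = 1) :
    (rho f x (σ l ^ 4) : Matrix (Fin 4) (Fin 4) F) *ᵥ y ∈ Orb σ f M := by
  have hf := P.unit
  obtain ⟨g, hg, hgi, hgv⟩ := hx.2 l hl
  have h := P.orb_map hle hg hgi hy
  rw [hgv] at h
  set z := (rho f x (σ l ^ 4) : Matrix (Fin 4) (Fin 4) F) *ᵥ y with hz
  have hz1 : f z z = 1 := by rw [hz, rho_iso hf hx.1 (orb_zeta hf hl)]; exact hy.1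
  refine ⟨hz1, fun m hm => ?_⟩
  obtain ⟨k, hk, hki, hkv⟩ := h.2 m hm
  refine ⟨k, hk, hki, fun v => ?_⟩
  rw [hkv, rho_smul hf hl hz1 (orb_zeta hf hm)]

/-- The class of the frame, with a vanishing coordinate. -/
theorem Quad.cls_frame (a : Fin 4) : e a ∈ cls σ f e M := by
  refine ⟨P.norm a, fun b ε hε => hle ⟨(Cfsg.Geo.decompositionStabilizer D).mul_mem (P.rho_stab a hε)
    (P.rho_stab b (norm_conj P.unit hε)), UnitFrame.duo_mem P.unit (P.norm a) (P.norm b) hε⟩, ?_⟩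
  obtain ⟨b, -, -, hb, -⟩ := exists_three a
  exact ⟨b, P.orth hb⟩

theorem Quad.cls_duo {x y : Fin 4 → F} (hx : x ∈ cls σ f e M) (hy : y ∈ cls σ f e M) {ε : F} (hε : ε * σ ε = 1) :
    duo σ f x y ε ∈ M := by
  rw [← duo_trans P.unit hx.1 hy.1 (P.norm 0) hε]
  exact M.mul_mem (hx.2.1 0 ε hε) (M.inv_mem (hy.2.1 0 ε hε))

theorem Quad.cls_map {g : GL (Fin 4) F} (hg : g ∈ M) (hgi : Symp.IsIsometry f g) {x₀ : Fin 4 → F}
    (hx₀ : x₀ ∈ cls σ f e M) {b' : Fin 4} {c' : F} (hc' : c' * σ c' = 1)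
    (hgx₀ : (g : Matrix (Fin 4) (Fin 4) F) *ᵥ x₀ = c' • e b') {x : Fin 4 → F} (hx : x ∈ cls σ f e M)
    (hz : ∃ b, f ((g : Matrix (Fin 4) (Fin 4) F) *ᵥ x) (e b) = 0) :
    (g : Matrix (Fin 4) (Fin 4) F) *ᵥ x ∈ cls σ f e M := by
  have hf := P.unit
  have hgxx : f ((g : Matrix (Fin 4) (Fin 4) F) *ᵥ x) ((g : Matrix (Fin 4) (Fin 4) F) *ᵥ x) = 1 := by
    rw [hgi]; exact hx.1
  have hH : ∀ a b ε, ε * σ ε = 1 → duo σ f (e a) (e b) ε ∈ M := fun a b ε hε => (P.cls_frame hle a).2.1 b ε hε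
  refine ⟨hgxx, fun a ε hε => ?_, hz⟩
  have h1 := M.mul_mem (M.mul_mem hg (P.cls_duo hle hx hx₀ hε)) (M.inv_mem hg)
  rw [duo_conj hf hgi hx.1 hx₀.1 hε, hgx₀] at h1
  have hc1 : f (c' • e b') (c' • e b') = 1 := by
    rw [Unit.smul_left hf, Unit.smul_right hf, P.norm, mul_one, hc']
  rw [← duo_trans hf hgxx (P.norm a) hc1 hε]
  refine M.mul_mem h1 (M.inv_mem ?_)
  rw [duo, rho_smul hf hc' (P.norm b') (norm_conj hf hε), ← duo]
  exact hH a b' ε hε

/-- Monomial isometries preserve the class. -/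
theorem Quad.cls_mono {g : GL (Fin 4) F} (hgi : g ∈ isoGroup f) (hgs : g ∈ Cfsg.Geo.decompositionStabilizer D)
    (hgd : (g : Matrix (Fin 4) (Fin 4) F).det * σ (g : Matrix (Fin 4) (Fin 4) F).det = 1)
    (π : Fin 4 → Fin 4) (c : Fin 4 → F) (hc : ∀ a, c a * σ (c a) = 1)
    (hgm : ∀ a, (g : Matrix (Fin 4) (Fin 4) F) *ᵥ e a = c a • e (π a))
    {x : Fin 4 → F} (hx : x ∈ cls σ f e M) : (g : Matrix (Fin 4) (Fin 4) F) *ᵥ x ∈ cls σ f e M := by
  classical
  have hf := P.unit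
  obtain ⟨z, hz⟩ := hx.2.2
  obtain ⟨o, -, -, ho, -⟩ := exists_three z
  have hπ : π o ≠ π z := fun h => by
    have h1 := hgi (e z) (e o)
    rw [hgm, hgm, P.orth ho, Unit.smul_left hf, Unit.smul_right hf, h, P.norm, mul_one] at h1
    exact mul_ne_zero (left_ne_zero_of_mul_eq_one (hc z))
      ((RingEquiv.map_ne_zero_iff σ).2 (left_ne_zero_of_mul_eq_one (hc o))) h1
  obtain ⟨r, hr, hrg, hfix⟩ := P.det_fix hgi hgs hgd (π z)
  have hzero : f ((g : Matrix (Fin 4) (Fin 4) F) *ᵥ x) (e (π z)) = 0 := by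
    rw [P.mono_coord hgi (hgm z) (hc z), hz, mul_zero]
  have hgx : ((r * g : GL (Fin 4) F) : Matrix (Fin 4) (Fin 4) F) *ᵥ x = (g : Matrix (Fin 4) (Fin 4) F) *ᵥ x := by
    rw [gl_mul_mulVec, hfix _ hzero]
  have hgo : ((r * g : GL (Fin 4) F) : Matrix (Fin 4) (Fin 4) F) *ᵥ e o = c o • e (π o) := by
    rw [gl_mul_mulVec, hgm, mulVec_smul, hfix _ (P.orth hπ)]
  rw [← hgx]
  exact P.cls_map hle (hle hrg) ((isoGroup f).mul_mem hr hgi) (P.cls_frame hle o) (hc o) hgo hx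
    ⟨π z, by rw [hgx]; exact hzero⟩

/-- A quasi-reflection of a member preserves the class. -/
theorem Quad.cls_rho {x y : Fin 4 → F} (hx : x ∈ cls σ f e M) (hy : y ∈ cls σ f e M) {b : Fin 4}
    (hxb : f x (e b) = 0) (hyb : f y (e b) = 0) {ε : F} (hε : ε * σ ε = 1) :
    (rho f y ε : Matrix (Fin 4) (Fin 4) F) *ᵥ x ∈ cls σ f e M := by
  have hf := P.unit
  have he : (duo σ f y (e b) ε : Matrix (Fin 4) (Fin 4) F) *ᵥ x = (rho f y ε : Matrix (Fin 4) (Fin 4) F) *ᵥ x := by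
    rw [duo, gl_mul_mulVec, rho_fix hf (P.norm b) (norm_conj hf hε) hxb]
  have hb : (duo σ f y (e b) ε : Matrix (Fin 4) (Fin 4) F) *ᵥ e b = σ ε • e b := by
    rw [duo, gl_mul_mulVec, rho_self hf (P.norm b) (norm_conj hf hε), mulVec_smul,
      rho_fix hf hy.1 hε (Unit.eq_zero_comm hf hyb)]
  rw [← he]
  refine P.cls_map hle (hy.2.1 b ε hε) (UnitFrame.duo_mem hf hy.1 (P.norm b) hε).1 (P.cls_frame hle b)
    (norm_conj hf hε) hb hx ⟨b, ?_⟩
  rw [he, rho_mulVec hf hy.1 hε, Unit.add_left hf, Unit.smul_left hf, hxb, hyb, mul_zero, add_zero]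

/-- From a member of the orbit with a vanishing coordinate, a member of the class with two coordinates. -/
theorem Quad.cls_of_orb {y : Fin 4 → F} (hy : y ∈ Orb σ f M) {d : Fin 4} (hyd : f y (e d) = 0) {a b : Fin 4}
    (hab : a ≠ b) (ha : f y (e a) ≠ 0) (hb : f y (e b) ≠ 0) {l : F} (hl : l * σ l = 1) (hl4 : l ^ 4 ≠ 1)
    (hbad : 1 + (σ l ^ 4 - 1) * (f y (e a) * σ (f y (e a))) ≠ 0) :
    ∃ x ∈ cls σ f e M, f x (e a) ≠ 0 ∧ f x (e b) ≠ 0 := by
  have hf := P.unit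
  have hζ := orb_zeta hf hl
  have hζ1 : σ l ^ 4 - 1 ≠ 0 := sub_ne_zero.2 fun h => hl4 (by
    rw [← map_pow] at h; exact σ.injective (h.trans (map_one σ).symm))
  obtain ⟨g, hg, hgi, hgv⟩ := hy.2 l hl
  have hda : d ≠ a := fun h => ha (h ▸ hyd)
  have hgd : (g : Matrix (Fin 4) (Fin 4) F) *ᵥ e d = l • e d := by
    rw [hgv, rho_fix hf hy.1 hζ (Unit.eq_zero_comm hf hyd)]
  have hco : ∀ i, f ((g : Matrix (Fin 4) (Fin 4) F) *ᵥ e a) (e i) =
      l * ((if a = i then 1 else 0) + (σ l ^ 4 - 1) * σ (f y (e a)) * f y (e i)) := fun i => by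
    rw [hgv, Unit.smul_left hf, rho_mulVec hf hy.1 hζ, Unit.add_left hf, Unit.smul_left hf, P.form_e,
      ← Unit.conj_form hf y (e a)]
  have hl0 := left_ne_zero_of_mul_eq_one hl
  refine ⟨(g : Matrix (Fin 4) (Fin 4) F) *ᵥ e a,
    P.cls_map hle hg hgi (P.cls_frame hle d) hl hgd (P.cls_frame hle a) ⟨d, ?_⟩, ?_, ?_⟩
  · rw [hco, if_neg (Ne.symm hda), hyd]; ring
  · rw [hco, if_pos rfl]
    refine mul_ne_zero hl0 fun h => hbad ?_
    linear_combination h
  · rw [hco, if_neg hab, zero_add]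
    exact mul_ne_zero hl0 (mul_ne_zero (mul_ne_zero hζ1 ((RingEquiv.map_ne_zero_iff σ).2 ha)) hb)

/-- Adjusting the phases. -/
theorem Quad.cls_phase {z w : Fin 4 → F} (hz : z ∈ cls σ f e M)
    (h : ∀ a, f w (e a) * σ (f w (e a)) = f z (e a) * σ (f z (e a))) : w ∈ cls σ f e M := by
  classical
  have hz0 : ∀ a, f z (e a) = 0 → f w (e a) = 0 := fun a ha => by
    have := h a
    rw [ha, zero_mul] at this
    exact (mul_eq_zero.1 this).elim id fun h' => (RingEquiv.map_eq_zero_iff σ).1 h'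
  set η : Fin 4 → F := fun a => if f z (e a) = 0 then 1 else f w (e a) / f z (e a) with hηdef
  have hη : ∀ a, η a * σ (η a) = 1 := fun a => by
    simp only [hηdef]
    split_ifs with ha
    · simp
    · rw [map_div₀, div_mul_div_comm, h a, div_self (mul_ne_zero ha ((RingEquiv.map_ne_zero_iff σ).2 ha))]
  obtain ⟨g, hgi, hgs, hgd, hgm⟩ := P.exists_diag η hη
  have hgN : (g : Matrix (Fin 4) (Fin 4) F).det * σ (g : Matrix (Fin 4) (Fin 4) F).det = 1 := by
    rw [hgd, map_prod, ← Finset.prod_mul_distrib, Finset.prod_congr rfl fun a _ => hη a, Finset.prod_const_one]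
  have : w = (g : Matrix (Fin 4) (Fin 4) F) *ᵥ z := P.ext fun a => by
    rw [P.mono_coord hgi (hgm a) (hη a)]
    simp only [hηdef]
    split_ifs with ha
    · rw [hz0 a ha, ha, mul_zero]
    · rw [div_mul_cancel₀ _ ha]
  rw [this]
  exact P.cls_mono hle hgi hgs hgN id η hη hgm hz

/-- Permuting the coordinates. -/
theorem Quad.cls_perm {z : Fin 4 → F} (hz : z ∈ cls σ f e M) (π : Equiv.Perm (Fin 4)) :
    ∃ w ∈ cls σ f e M, ∀ a, f w (e (π a)) = f z (e a) := by
  obtain ⟨g, hgi, hgs, hgd, hgm⟩ := P.exists_perm π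
  have hgm' : ∀ a, (g : Matrix (Fin 4) (Fin 4) F) *ᵥ e a = (1 : F) • e (π a) := fun a => by rw [one_smul, hgm]
  refine ⟨_, P.cls_mono hle hgi hgs hgd π (fun _ => 1) (fun _ => by simp) hgm' hz, fun a => ?_⟩
  rw [P.mono_coord hgi (hgm' a) (by simp), one_mul]

/-- The basic move: rescaled coordinate differences of a member are members. -/
theorem Quad.cls_diff {x : Fin 4 → F} (hx : x ∈ cls σ f e M) (η : Fin 4 → F) (hη : ∀ a, η a * σ (η a) = 1)
    (hsum : ∑ a, nv σ (η a) * (f x (e a) * σ (f x (e a))) = 1) :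
    ∃ z ∈ cls σ f e M, ∀ a, f z (e a) = (η a - 1) * f x (e a) := by
  have hf := P.unit
  obtain ⟨g, hgi, hgs, hgd, hgm⟩ := P.exists_diag η hη
  have hgN : (g : Matrix (Fin 4) (Fin 4) F).det * σ (g : Matrix (Fin 4) (Fin 4) F).det = 1 := by
    rw [hgd, map_prod, ← Finset.prod_mul_distrib, Finset.prod_congr rfl fun a _ => hη a, Finset.prod_const_one]
  obtain ⟨b, hb⟩ := hx.2.2
  have hco : ∀ a, f ((g : Matrix (Fin 4) (Fin 4) F) *ᵥ x) (e a) = η a * f x (e a) := fun a =>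
    P.mono_coord hgi (hgm a) (hη a) x
  have hy := P.cls_mono hle hgi hgs hgN id η hη hgm hx
  set y := (g : Matrix (Fin 4) (Fin 4) F) *ᵥ x with hydef
  set Q := f y x with hQ
  have hQe : Q = ∑ a, η a * (f x (e a) * σ (f x (e a))) := by
    rw [hQ, P.form_coord]
    exact Finset.sum_congr rfl fun a _ => by rw [hco]; ring
  have hTr : Q + σ Q = 1 := by
    have e1 : ∀ a, nv σ (η a) * (f x (e a) * σ (f x (e a))) =
        2 * (f x (e a) * σ (f x (e a))) - (η a * (f x (e a) * σ (f x (e a))) + σ (η a * (f x (e a) * σ (f x (e a))))) := by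
      intro a
      rw [nv_eq (hη a), map_mul σ (η a), map_mul σ (f x (e a)), hf.involutive]
      ring
    rw [Finset.sum_congr rfl fun a _ => e1 a, Finset.sum_sub_distrib, Finset.sum_add_distrib, ← Finset.mul_sum,
      P.nrm_sum hx.1, ← map_sum, ← hQe] at hsum
    linear_combination -hsum
  have hQ0 : Q ≠ 0 := fun h => by rw [h, map_zero, add_zero] at hTr; exact zero_ne_one hTr
  have hσQ : σ Q ≠ 0 := (RingEquiv.map_ne_zero_iff σ).2 hQ0
  set ε := 1 - 1 / Q with hεdef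
  have hε : ε * σ ε = 1 := by
    rw [hεdef, map_sub, map_one, map_div₀, map_one]
    field_simp
    linear_combination -hTr
  refine ⟨_, P.cls_rho hle hy hx (by rw [hco, hb, mul_zero]) hb hε, fun a => ?_⟩
  rw [rho_mulVec hf hx.1 hε, Unit.add_left hf, Unit.smul_left hf, hco, ← hQ,
    show (ε - 1) * Q = -1 by rw [hεdef]; field_simp; ring]
  ring

/-- The basic move on three coordinates, the fourth one killed. -/
theorem Quad.cls_step {x : Fin 4 → F} (hx : x ∈ cls σ f e M) {a b k l : Fin 4} (hab : a ≠ b) (hak : a ≠ k)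
    (hal : a ≠ l) (hbk : b ≠ k) (hbl : b ≠ l) (hkl : k ≠ l) {η θ κ : F} (hη : η * σ η = 1) (hθ : θ * σ θ = 1)
    (hκ : κ * σ κ = 1)
    (hsum : nv σ η * (f x (e a) * σ (f x (e a))) + nv σ θ * (f x (e b) * σ (f x (e b))) +
      nv σ κ * (f x (e k) * σ (f x (e k))) = 1) :
    ∃ z ∈ cls σ f e M, f z (e a) * σ (f z (e a)) = nv σ η * (f x (e a) * σ (f x (e a))) ∧
      f z (e b) * σ (f z (e b)) = nv σ θ * (f x (e b) * σ (f x (e b))) ∧
      f z (e k) * σ (f z (e k)) = nv σ κ * (f x (e k) * σ (f x (e k))) ∧ f z (e l) = 0 := by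
  classical
  set E : Fin 4 → F := fun i => if i = a then η else if i = b then θ else if i = k then κ else 1 with hE
  have hEn : ∀ i, E i * σ (E i) = 1 := fun i => by
    simp only [hE]; split_ifs; exacts [hη, hθ, hκ, by simp]
  have ea : E a = η := by simp [hE]
  have eb : E b = θ := by simp [hE, Ne.symm hab]
  have ek : E k = κ := by simp [hE, Ne.symm hak, Ne.symm hbk]
  have el : E l = 1 := by simp [hE, Ne.symm hal, Ne.symm hbl, Ne.symm hkl]
  obtain ⟨z, hz, hzc⟩ := P.cls_diff hle hx E hEn (by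
    rw [sum_four _ hab hak hal hbk hbl hkl, ea, eb, ek, el, nv_one, zero_mul, add_zero, hsum])
  have key : ∀ i, f z (e i) * σ (f z (e i)) = nv σ (E i) * (f x (e i) * σ (f x (e i))) := fun i => by
    rw [hzc, map_mul, nv, map_sub, map_sub, map_one]; ring
  exact ⟨z, hz, by rw [key, ea], by rw [key, eb], by rw [key, ek], by rw [hzc, el, sub_self, zero_mul]⟩

end CfsgLib.GeomClasses.UnitFour
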