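import Cfsg.Agent.Lib.GeomClasses.UnitFour.FrameBase

/-!
An orbit vector without vanishing coordinates gives one with a vanishing coordinate, by an element of the
conjugate diagonal group.
-/

set_option autoImplicit false
set_option linter.unusedSectionVars false
set_option linter.unusedSimpArgs false

namespace CfsgLib.GeomClasses.UnitFour

open Matrix CfsgLib.GeomClasses.UnitQr CfsgLib.GeomClasses.UnitSymp CfsgLib.GeomClasses.UnitDecomp
  CfsgLib.GeomClasses.UnitCircle CfsgLib.GeomClasses.UnitFrame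

variable {F : Type*} [Field F] [Fintype F] {σ : F ≃+* F} {f : (Fin 4 → F) → (Fin 4 → F) → F}
  {D : Fin 4 → Submodule F (Fin 4 → F)} {e : Fin 4 → Fin 4 → F}

/-- The quotient of the conjugate by the element. -/
def phi (σ : F ≃+* F) (z : F) : F := σ z / z

/-- Squares of elements of norm one. -/
def SqC (σ : F ≃+* F) (x : F) : Prop := ∃ c, c * σ c = 1 ∧ c * c = x

/-- Fourth powers of elements of norm one. -/
def QuC (σ : F ≃+* F) (x : F) : Prop := ∃ c, c * σ c = 1 ∧ c ^ 4 = x

theorem phi_mul (x y : F) : phi σ (x * y) = phi σ x * phi σ y := by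
  rw [phi, phi, phi, map_mul, mul_div_mul_comm]

theorem phi_real {x : F} (h : σ x = x) (h0 : x ≠ 0) : phi σ x = 1 := by rw [phi, h, div_self h0]

section circle

variable (h2 : ∀ a, σ (σ a) = a)
include h2

theorem phi_norm {z : F} (hz : z ≠ 0) : phi σ z * σ (phi σ z) = 1 := by
  have := (RingEquiv.map_ne_zero_iff σ).2 hz
  rw [phi, map_div₀, h2]
  field_simp

theorem phi_conj (z : F) : phi σ (σ z) = (phi σ z)⁻¹ := by rw [phi, phi, h2, inv_div]

theorem sqC_mul {x y : F} (hx : SqC σ x) (hy : SqC σ y) : SqC σ (x * y) := by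
  obtain ⟨c, hc, rfl⟩ := hx
  obtain ⟨d, hd, rfl⟩ := hy
  exact ⟨c * d, by rw [map_mul]; linear_combination (d * σ d) * hc + hd, by ring⟩

theorem sqC_inv {x : F} (hx : SqC σ x) : SqC σ x⁻¹ := by
  obtain ⟨c, hc, rfl⟩ := hx
  exact ⟨c⁻¹, by rw [map_inv₀, ← mul_inv, hc, inv_one], by rw [mul_inv]⟩

theorem quC_mul {x y : F} (hx : QuC σ x) (hy : QuC σ y) : QuC σ (x * y) := by
  obtain ⟨c, hc, rfl⟩ := hx
  obtain ⟨d, hd, rfl⟩ := hy
  exact ⟨c * d, by rw [map_mul]; linear_combination (d * σ d) * hc + hd, by ring⟩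

theorem quC_inv {x : F} (hx : QuC σ x) : QuC σ x⁻¹ := by
  obtain ⟨c, hc, rfl⟩ := hx
  exact ⟨c⁻¹, by rw [map_inv₀, ← mul_inv, hc, inv_one], by rw [inv_pow]⟩

theorem quC_sq {x : F} (hx : SqC σ x) : QuC σ (x * x) := by
  obtain ⟨c, hc, rfl⟩ := hx
  exact ⟨c, hc, by ring⟩

theorem quC_sqC {x : F} (hx : QuC σ x) : SqC σ x := by
  obtain ⟨c, hc, rfl⟩ := hx
  exact ⟨c * c, by rw [map_mul]; linear_combination (c * σ c + 1) * hc, by ring⟩

variable (hne : σ ≠ RingEquiv.refl F)
include hne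

/-- Two non-squares of norm one have a square product. -/
theorem sqC_of_two {x y : F} (hx : x * σ x = 1) (hy : y * σ y = 1) (nx : ¬ SqC σ x) (ny : ¬ SqC σ y) :
    SqC σ (x * y) := by
  have hy' : σ y * σ (σ y) = 1 := by rw [h2, mul_comm, hy]
  obtain ⟨i, j, hij, c, hc, he⟩ := exists_square_ratio hne h2 (u := ![1, x, σ y])
    (fun i => by fin_cases i <;> simp [hx, hy'])
  have hc' : σ c * σ (σ c) = 1 := by rw [h2, mul_comm, hc]
  fin_cases i <;> fin_cases j <;> simp at hij he <;> try simp at hij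
  · exact absurd ⟨σ c, hc', by linear_combination -(σ c * σ c) * he + x * (c * σ c + 1) * hc⟩ nx
  · exact absurd ⟨c, hc, by linear_combination y * he - (c * c) * hy⟩ ny
  · exact absurd ⟨c, hc, by linear_combination he⟩ nx
  · exact ⟨c, hc, by linear_combination y * he - (c * c) * hy⟩
  · exact absurd ⟨σ c, hc', by
      have h := congrArg σ he
      rw [h2] at h
      simp only [map_mul] at h
      linear_combination h⟩ ny
  · exact ⟨σ c, hc', by linear_combination -(σ c * σ c * y) * he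
      + x * y * (c * σ c + 1) * hc - σ c * σ c * hy⟩

/-- Two squares which are no fourth powers have a fourth power as product. -/
theorem quC_of_two {x y : F} (hx : SqC σ x) (hy : SqC σ y) (nx : ¬ QuC σ x) (ny : ¬ QuC σ y) :
    QuC σ (x * y) := by
  obtain ⟨c, hc, rfl⟩ := hx
  obtain ⟨d, hd, rfl⟩ := hy
  have nc : ¬ SqC σ c := fun h => nx (quC_sq h2 h)
  have nd : ¬ SqC σ d := fun h => ny (quC_sq h2 h)
  have := quC_sq h2 (sqC_of_two h2 hne hc hd nc nd)
  rwa [mul_mul_mul_comm] at this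

/-- The minus one is a square once some square is no fourth power. -/
theorem sqC_neg_one {x : F} (hx : SqC σ x) (nx : ¬ QuC σ x) : SqC σ (-1) := by
  obtain ⟨c, hc, rfl⟩ := hx
  have nc : ¬ SqC σ c := fun h => nx (quC_sq h2 h)
  have nc' : ¬ SqC σ (-c) := fun h => nx (by have := quC_sq h2 h; rwa [neg_mul_neg] at this)
  have h := sqC_of_two h2 hne hc (by rw [map_neg, neg_mul_neg, hc]) nc nc'
  have h' := sqC_mul h2 h (sqC_inv h2 ⟨c, hc, rfl⟩)
  have hc0 := left_ne_zero_of_mul_eq_one hc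
  rwa [show c * -c * (c * c)⁻¹ = -1 by field_simp] at h'

/-- Among four elements of norm one two differ by a fourth power, or two are squares differing otherwise. -/
theorem class_pair (U : Fin 4 → F) (hU : ∀ i, U i * σ (U i) = 1) :
    (∃ a b, a ≠ b ∧ QuC σ (U a / U b)) ∨
      ∃ b m, b ≠ m ∧ SqC σ (U b) ∧ SqC σ (U m) ∧ ¬ QuC σ (U b / U m) := by
  classical
  by_cases h : ∃ a b, a ≠ b ∧ QuC σ (U a / U b)
  · exact Or.inl h
  right
  push Not at h
  by_contra hcon
  push Not at hcon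
  have hsub : ∀ b m, b ≠ m → ¬ SqC σ (U b) ∨ ¬ SqC σ (U m) := fun b m hbm => by
    by_contra hh
    push Not at hh
    exact h b m hbm (hcon b m hbm hh.1 hh.2)
  have hno : ∀ i j k, i ≠ j → j ≠ k → i ≠ k → ¬ SqC σ (U i) → ¬ SqC σ (U j) → ¬ SqC σ (U k) → False := by
    intro i j k hij hjk hik ni nj nk
    have inv_sq : ∀ a, ¬ SqC σ (U a) → ¬ SqC σ (U a)⁻¹ := fun a na h => na (by
      have := sqC_inv h2 h; rwa [inv_inv] at this)
    have inv_norm : ∀ a, (U a)⁻¹ * σ (U a)⁻¹ = 1 := fun a => by rw [map_inv₀, ← mul_inv, hU, inv_one]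
    have h1 := sqC_of_two h2 hne (hU i) (inv_norm j) ni (inv_sq j nj)
    have h3 := sqC_of_two h2 hne (hU j) (inv_norm k) nj (inv_sq k nk)
    rw [← div_eq_mul_inv] at h1 h3
    have h4 := quC_of_two h2 hne h1 h3 (h i j hij) (h j k hjk)
    rw [div_mul_div_cancel₀ (left_ne_zero_of_mul_eq_one (hU j))] at h4
    exact h i k hik h4
  by_cases hs : ∃ i, SqC σ (U i)
  · obtain ⟨i, hi⟩ := hs
    obtain ⟨b, k, l, hb, hk, hl, hbk, hbl, hkl⟩ := exists_three i
    exact hno b k l hbk hkl hbl ((hsub i b hb).resolve_left (not_not.2 hi))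
      ((hsub i k hk).resolve_left (not_not.2 hi)) ((hsub i l hl).resolve_left (not_not.2 hi))
  · push Not at hs
    exact hno 0 1 2 (by decide) (by decide) (by decide) (hs 0) (hs 1) (hs 2)

end circle

/-- A coefficient of the zero condition. -/
def coef (σ : F ≃+* F) (f : (Fin 4 → F) → (Fin 4 → F) → F) (e : Fin 4 → Fin 4 → F) (x : Fin 4 → F) (s : F)
    (a b i : Fin 4) : F :=
  ((if i = a then 1 else 0) + s * σ (f x (e a)) * f x (e i)) *
    σ ((if i = b then 1 else 0) + s * σ (f x (e b)) * f x (e i))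

theorem exists_fourth (a b p : Fin 4) : ∃ k : Fin 4, k ≠ a ∧ k ≠ b ∧ k ≠ p := by
  revert a b p; decide

variable (P : Quad σ f D e) {M : Subgroup (GL (Fin 4) F)} (hle : hGrp f D ≤ M)
include P hle

/-- An element of the conjugate diagonal group killing a coordinate. -/
theorem Quad.orb_core {x : Fin 4 → F} (hx : x ∈ Orb σ f M) (hx4 : ∀ i, f x (e i) ≠ 0) {l : F}
    (hl : l * σ l = 1) (hl4 : l ^ 4 ≠ 1) {a b : Fin 4} (hab : a ≠ b) (η : Fin 4 → F)
    (hη : ∀ i, η i * σ (η i) = 1) (hsum : ∑ i, η i * coef σ f e x (l ^ 4 - 1) a b i = 0)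
    (hdet : QuC σ (∏ i, η i)) (hne : ∀ i, i ≠ a → i ≠ b → η b ≠ η i) :
    ∃ y ∈ Orb σ f M, ∃ d p r, p ≠ r ∧ f y (e d) = 0 ∧ f y (e p) ≠ 0 ∧ f y (e r) ≠ 0 := by
  classical
  have hf := P.unit
  obtain ⟨c, hc, hcp⟩ := hdet
  obtain ⟨g, hg, hgi, hgv⟩ := hx.2 l hl
  obtain ⟨h, hh, hhi, hhv⟩ := P.exists_diag_one η hη (norm_conj hf hc)
    (by rw [← hcp, ← mul_pow, hc, one_pow])
  have hζ := orb_zeta hf hl
  have hzs : σ (σ l ^ 4 - 1) = l ^ 4 - 1 := by rw [map_sub, map_one, map_pow, hf.involutive]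
  have hl0 : l ≠ 0 := left_ne_zero_of_mul_eq_one hl
  have hσl0 : σ l ≠ 0 := (RingEquiv.map_ne_zero_iff σ).2 hl0
  -- coordinates of the preimages of the frame vectors
  have hpre : ∀ j i, f (((g⁻¹ : GL (Fin 4) F) : Matrix (Fin 4) (Fin 4) F) *ᵥ e j) (e i) =
      σ l * ((if i = j then 1 else 0) + (l ^ 4 - 1) * σ (f x (e j)) * f x (e i)) := fun j i => by
    have h1 := hgi (((g⁻¹ : GL (Fin 4) F) : Matrix (Fin 4) (Fin 4) F) *ᵥ e j) (e i)
    rw [gl_mulVec_inv_mulVec] at h1
    rw [← h1, hgv, rho_mulVec hf hx.1 hζ, smul_add, Unit.add_right hf, Unit.smul_right hf, Unit.smul_right hf,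
      Unit.smul_right hf, map_mul, hzs, Unit.conj_form hf, P.form_e, ← Unit.conj_form hf x (e j)]
    by_cases hij : i = j
    · subst hij; simp only [if_pos]; ring
    · rw [if_neg hij, if_neg (Ne.symm hij)]; ring
  set k := g * h * g⁻¹ with hk
  have hkM : k ∈ M := M.mul_mem (M.mul_mem hg (hle hh)) (M.inv_mem hg)
  have hki : k ∈ isoGroup f := (isoGroup f).mul_mem ((isoGroup f).mul_mem hgi hhi) ((isoGroup f).inv_mem hgi)
  set y := (k : Matrix (Fin 4) (Fin 4) F) *ᵥ e a with hy
  set v := ((g⁻¹ : GL (Fin 4) F) : Matrix (Fin 4) (Fin 4) F) *ᵥ e a with hv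
  have hco : ∀ j, f y (e j) = f ((h : Matrix (Fin 4) (Fin 4) F) *ᵥ v)
      (((g⁻¹ : GL (Fin 4) F) : Matrix (Fin 4) (Fin 4) F) *ᵥ e j) := fun j => by
    rw [← hgi _ (((g⁻¹ : GL (Fin 4) F) : Matrix (Fin 4) (Fin 4) F) *ᵥ e j), gl_mulVec_inv_mulVec, hy, hk,
      gl_mul_mulVec, gl_mul_mulVec]
  have hyb : f y (e b) = 0 := by
    rw [hco, P.form_coord]
    have hterm : ∀ i, f ((h : Matrix (Fin 4) (Fin 4) F) *ᵥ v) (e i) *
        σ (f (((g⁻¹ : GL (Fin 4) F) : Matrix (Fin 4) (Fin 4) F) *ᵥ e b) (e i)) =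
        σ c * (η i * coef σ f e x (l ^ 4 - 1) a b i) := fun i => by
      rw [hhv, hv, hpre, hpre, map_mul σ (σ l), hf.involutive, coef]
      linear_combination (σ c * η i * (((if i = a then 1 else 0) + (l ^ 4 - 1) * σ (f x (e a)) * f x (e i)) *
        σ ((if i = b then 1 else 0) + (l ^ 4 - 1) * σ (f x (e b)) * f x (e i)))) * hl
    rw [Finset.sum_congr rfl fun i _ => hterm i, ← Finset.mul_sum, hsum, mul_zero]
  have hyO : y ∈ Orb σ f M := P.orb_map hle hkM hki (P.orb_frame hle a)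
  obtain ⟨p, hp⟩ : ∃ p, f y (e p) ≠ 0 := by
    by_contra! h0
    have hy0 : y = 0 := P.ext fun i => by rw [h0, Unit.zero_left hf]
    have := hyO.1
    rw [hy0, Unit.zero_left hf] at this
    exact zero_ne_one this
  refine ⟨y, hyO, b, p, ?_⟩
  by_contra! hcon
  have hpb : p ≠ b := fun h => hp (h ▸ hyb)
  have hline : y = f y (e p) • e p := P.ext fun i => by
    rw [Unit.smul_left hf, P.form_e]
    split_ifs with hpi
    · subst hpi; rw [mul_one]
    · rw [mul_zero]; exact hcon i hpi hyb hp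
  have hhv' : (h : Matrix (Fin 4) (Fin 4) F) *ᵥ v =
      f y (e p) • (((g⁻¹ : GL (Fin 4) F) : Matrix (Fin 4) (Fin 4) F) *ᵥ e p) := by
    rw [← mulVec_smul, ← hline, hy, hk, gl_mul_mulVec, gl_mul_mulVec, gl_inv_mulVec_mulVec]
  obtain ⟨k', hk'a, hk'b, hk'p⟩ := exists_fourth a b p
  have heq : ∀ i, i ≠ a → i ≠ p → σ c * η i * σ (f x (e a)) = f y (e p) * σ (f x (e p)) := fun i hia hip => by
    have h1 := congrArg (fun w => f w (e i)) hhv'
    simp only [hhv, Unit.smul_left hf] at h1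
    rw [hv, hpre, hpre, if_neg hia, if_neg hip, zero_add, zero_add] at h1
    refine mul_right_cancel₀ (mul_ne_zero (mul_ne_zero hσl0 (sub_ne_zero.2 hl4)) (hx4 i)) ?_
    linear_combination h1
  have e1 := heq b (Ne.symm hab) (Ne.symm hpb)
  have e2 := heq k' hk'a hk'p
  refine hne k' hk'a hk'b ?_
  have hca : σ c * σ (f x (e a)) ≠ 0 :=
    mul_ne_zero ((RingEquiv.map_ne_zero_iff σ).2 (left_ne_zero_of_mul_eq_one hc))
      ((RingEquiv.map_ne_zero_iff σ).2 (hx4 a))
  refine mul_right_cancel₀ hca ?_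
  linear_combination e1 - e2

/-- An orbit vector without vanishing coordinates gives one with a vanishing coordinate. -/
theorem Quad.orb_small {x : Fin 4 → F} (hx : x ∈ Orb σ f M) (hx4 : ∀ i, f x (e i) ≠ 0) {l : F}
    (hl : l * σ l = 1) (hl8 : (l ^ 4) ^ 2 ≠ 1) :
    ∃ y ∈ Orb σ f M, ∃ d p r, p ≠ r ∧ f y (e d) = 0 ∧ f y (e p) ≠ 0 ∧ f y (e r) ≠ 0 := by
  classical
  have hf := P.unit
  have h2 := hf.involutive
  have hne := hf.ne_refl
  have hl4 : l ^ 4 ≠ 1 := fun h => hl8 (by rw [h, one_pow])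
  set s := l ^ 4 - 1 with hs
  have hln : l ^ 4 * σ (l ^ 4) = 1 := pow_norm hl 4
  have hsnr : σ s ≠ s := fun h => hl8 (by
    rw [hs, map_sub, map_one, sub_left_inj] at h
    rw [h] at hln
    rwa [pow_two])
  have hs0 : s ≠ 0 := sub_ne_zero.2 hl4
  have hσs0 : σ s ≠ 0 := (RingEquiv.map_ne_zero_iff σ).2 hs0
  set m : Fin 4 → F := fun i => f x (e i) * σ (f x (e i)) with hm
  have hmf : ∀ i, σ (m i) = m i := fun i => P.norm_fixed x i
  have hm0 : ∀ i, m i ≠ 0 := fun i => mul_ne_zero (hx4 i) ((RingEquiv.map_ne_zero_iff σ).2 (hx4 i))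
  have hlin : ∀ A : F, σ A = A → 1 + s * A ≠ 0 := fun A hA h => by
    have hA0 : A ≠ 0 := fun h0 => by rw [h0, mul_zero, add_zero] at h; exact one_ne_zero h
    apply hsnr
    have hsA : s = -1 / A := by field_simp; linear_combination h
    rw [hsA, map_div₀, map_neg, map_one, hA]
  set U : Fin 4 → F := fun i => phi σ (1 + s * m i) with hU
  have hUn : ∀ i, U i * σ (U i) = 1 := fun i => phi_norm h2 (hlin _ (hmf i))
  have hUs : ∀ i, U i ≠ phi σ s := fun i h => by
    simp only [hU, phi] at h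
    rw [div_eq_div_iff (hlin _ (hmf i)) hs0, map_add, map_one, map_mul, hmf] at h
    exact hsnr (by linear_combination -h)
  have hUσ : ∀ i, phi σ (1 + σ s * m i) = (U i)⁻¹ := fun i => by
    simp only [hU]
    rw [← phi_conj h2, map_add, map_one, map_mul, hmf]
  -- the coefficients
  have ca : ∀ a b, a ≠ b → coef σ f e x s a b a = (1 + s * m a) * (σ s * (σ (f x (e a)) * f x (e b))) :=
    fun a b h => by
      rw [coef, if_pos rfl, if_neg h, zero_add, map_mul, map_mul, h2, hm]
      ring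
  have cb : ∀ a b, a ≠ b → coef σ f e x s a b b = s * (1 + σ s * m b) * (σ (f x (e a)) * f x (e b)) :=
    fun a b h => by
      rw [coef, if_pos rfl, if_neg (Ne.symm h), zero_add, map_add, map_one, map_mul, map_mul, h2, hm]
      ring
  have ci : ∀ a b i, i ≠ a → i ≠ b → coef σ f e x s a b i = s * σ s * m i * (σ (f x (e a)) * f x (e b)) :=
    fun a b i h1 h3 => by
      rw [coef, if_neg h1, if_neg h3, zero_add, zero_add, map_mul, map_mul, h2, hm]
      ring
  have hcsum : ∀ a b, a ≠ b → ∑ i, coef σ f e x s a b i = 0 := fun a b h => by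
    obtain ⟨k, j, hak, haj, hbk, hbj, hkj⟩ := exists_others a b
    rw [sum_four _ h hak haj hbk hbj hkj, ca a b h, cb a b h, ci a b k (Ne.symm hak) (Ne.symm hbk),
      ci a b j (Ne.symm haj) (Ne.symm hbj)]
    have h4 := P.nrm_sum hx.1
    rw [sum_four _ h hak haj hbk hbj hkj] at h4
    have hss : s + σ s + s * σ s = 0 := by
      rw [hs, map_sub, map_one]
      linear_combination hln
    simp only [hm]
    linear_combination (s * σ s * (σ (f x (e a)) * f x (e b))) * h4 + (σ (f x (e a)) * f x (e b)) * hss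
  have hP0 : ∀ a b, σ (f x (e a)) * f x (e b) ≠ 0 := fun a b =>
    mul_ne_zero ((RingEquiv.map_ne_zero_iff σ).2 (hx4 a)) (hx4 b)
  have hφP : ∀ a b, phi σ (σ (f x (e a)) * f x (e b)) ≠ 0 := fun a b =>
    left_ne_zero_of_mul_eq_one (phi_norm h2 (hP0 a b))
  have hphs := phi_norm (σ := σ) h2 hs0
  have hphs0 := left_ne_zero_of_mul_eq_one hphs
  have hφm : ∀ i, phi σ (m i) = 1 := fun i => phi_real (hmf i) (hm0 i)
  -- flipping a pair
  have flip : ∀ (a b p r : Fin 4), a ≠ b → p ≠ r → ∀ (C : F), C ≠ 0 →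
      coef σ f e x s a b p + coef σ f e x s a b r = -C →
      coef σ f e x s a b p ≠ 0 → coef σ f e x s a b r ≠ 0 →
      ∀ η : Fin 4 → F, η p = phi σ (coef σ f e x s a b p) / phi σ C →
      η r = phi σ (coef σ f e x s a b r) / phi σ C → (∀ i, i ≠ p → i ≠ r → η i = 1) →
      (∀ i, η i * σ (η i) = 1) ∧ ∑ i, η i * coef σ f e x s a b i = 0 ∧ ∏ i, η i = η p * η r := by
    intro a b p r hab hpr C hC hpc hp0 hr0 η ep er eo
    obtain ⟨k, j, hpk, hpj, hrk, hrj, hkj⟩ := exists_others p r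
    have hn : ∀ {z : F}, z ≠ 0 → phi σ z / phi σ C * σ (phi σ z / phi σ C) = 1 := fun hz => by
      rw [map_div₀, div_mul_div_comm, phi_norm h2 hz, phi_norm h2 hC, div_one]
    refine ⟨fun i => ?_, ?_, ?_⟩
    · by_cases hip : i = p
      · subst hip; rw [ep]; exact hn hp0
      by_cases hir : i = r
      · subst hir; rw [er]; exact hn hr0
      rw [eo i hip hir]; simp
    · have hs4 := hcsum a b hab
      rw [sum_four _ hpr hpk hpj hrk hrj hkj] at hs4 ⊢
      rw [eo k (Ne.symm hpk) (Ne.symm hrk), eo j (Ne.symm hpj) (Ne.symm hrj), ep, er]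
      have hσC : σ C ≠ 0 := (RingEquiv.map_ne_zero_iff σ).2 hC
      have hσ : σ (coef σ f e x s a b p) + σ (coef σ f e x s a b r) = -σ C := by
        rw [← map_add, hpc, map_neg]
      simp only [phi]
      field_simp
      linear_combination C * hσ + σ C * (hs4 - hpc)
    · rw [prod_four _ hpr hpk hpj hrk hrj hkj, eo k (Ne.symm hpk) (Ne.symm hrk), eo j (Ne.symm hpj) (Ne.symm hrj),
        mul_one, mul_one]
  -- two opposite norms
  by_cases hzero : ∃ a b k j, a ≠ b ∧ a ≠ k ∧ a ≠ j ∧ b ≠ k ∧ b ≠ j ∧ k ≠ j ∧ m k + m j = 0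
  · obtain ⟨a, b, k, j, hab, hak, haj, hbk, hbj, hkj, h0⟩ := hzero
    have hll : l ^ 2 * σ (l ^ 2) = 1 := pow_norm hl 2
    refine P.orb_core hle hx hx4 hl hl4 hab (fun i => if i = a ∨ i = b then 1 else l ^ 2)
      (fun i => by split_ifs; exacts [by simp, hll]) ?_ ?_ fun i hia hib => ?_
    · have hs4 := hcsum a b hab
      rw [sum_four _ hab hak haj hbk hbj hkj] at hs4 ⊢
      simp only [true_or, or_true, if_true, Ne.symm hak, Ne.symm haj, Ne.symm hbk, Ne.symm hbj, or_self, if_false,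
        one_mul]
      rw [ci a b k (Ne.symm hak) (Ne.symm hbk), ci a b j (Ne.symm haj) (Ne.symm hbj)] at hs4 ⊢
      linear_combination hs4 + ((l ^ 2 - 1) * (s * σ s * (σ (f x (e a)) * f x (e b)))) * h0
    · refine ⟨l, hl, ?_⟩
      rw [prod_four _ hab hak haj hbk hbj hkj]
      simp only [true_or, or_true, if_true, Ne.symm hak, Ne.symm haj, Ne.symm hbk, Ne.symm hbj, or_self, if_false]
      ring
    · simp only [or_true, if_true, hia, hib, or_self, if_false]
      intro h
      exact hl4 (by linear_combination -(l ^ 2 + 1) * h)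
  rcases class_pair h2 hne U hUn with ⟨a, b, hab, hq⟩ | ⟨b, r, hbr, hb, hr, nbr⟩
  · -- two congruent classes
    obtain ⟨k, j, hak, haj, hbk, hbj, hkj⟩ := exists_others a b
    set P' := σ (f x (e a)) * f x (e b) with hP'
    set C := s * σ s * (m k + m j) * P' with hC
    have hkj0 : m k + m j ≠ 0 := fun h => hzero ⟨a, b, k, j, hab, hak, haj, hbk, hbj, hkj, h⟩
    have hC0 : C ≠ 0 := mul_ne_zero (mul_ne_zero (mul_ne_zero hs0 hσs0) hkj0) (hP0 a b)
    have hpc : coef σ f e x s a b a + coef σ f e x s a b b = -C := by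
      have hs4 := hcsum a b hab
      rw [sum_four _ hab hak haj hbk hbj hkj, ci a b k (Ne.symm hak) (Ne.symm hbk),
        ci a b j (Ne.symm haj) (Ne.symm hbj)] at hs4
      linear_combination hs4
    have hφC : phi σ C = phi σ P' := by
      rw [hC, phi_mul, phi_mul, phi_mul, phi_conj h2, mul_inv_cancel₀ hphs0,
        phi_real (by rw [map_add, hmf, hmf]) hkj0, one_mul, one_mul]
    have ea : phi σ (coef σ f e x s a b a) / phi σ C = U a / phi σ s := by
      rw [ca a b hab, hφC, phi_mul, phi_mul, phi_conj h2, hP']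
      have := hφP a b
      field_simp
      rfl
    have eb : phi σ (coef σ f e x s a b b) / phi σ C = phi σ s / U b := by
      rw [cb a b hab, hφC, phi_mul, phi_mul, hUσ, hP']
      have := hφP a b
      field_simp
    set η : Fin 4 → F := fun i => if i = a then U a / phi σ s else if i = b then phi σ s / U b else 1 with hη
    have hca0 : coef σ f e x s a b a ≠ 0 := by
      rw [ca a b hab]
      exact mul_ne_zero (hlin _ (hmf a)) (mul_ne_zero hσs0 (hP0 a b))
    have hcb0 : coef σ f e x s a b b ≠ 0 := by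
      rw [cb a b hab]
      refine mul_ne_zero (mul_ne_zero hs0 fun h => hlin _ (hmf b) ?_) (hP0 a b)
      have := congrArg σ h
      rwa [map_add, map_one, map_mul, h2, hmf, map_zero] at this
    obtain ⟨hn, hsum, hprod⟩ := flip a b a b hab hab C hC0 hpc hca0 hcb0 η (by simp [hη, ea])
      (by simp [hη, eb, Ne.symm hab]) fun i hi hi' => by simp [hη, hi, hi']
    refine P.orb_core hle hx hx4 hl hl4 hab η hn hsum ?_ fun i hia hib => ?_
    · rw [hprod]
      have hb0 : U b ≠ 0 := left_ne_zero_of_mul_eq_one (hUn b)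
      convert hq using 1
      simp only [hη, if_pos, if_neg (Ne.symm hab)]
      field_simp
    · simp only [hη, if_neg hia, if_neg hib, if_neg (Ne.symm hab), if_pos]
      intro h
      rw [div_eq_one_iff_eq (left_ne_zero_of_mul_eq_one (hUn b))] at h
      exact hUs b h.symm
  -- two squares
  obtain ⟨a, k, hba, hbk, hra, hrk, hak⟩ := exists_others b r
  have hneg : SqC σ (-1) := sqC_neg_one h2 hne (sqC_mul h2 hb (sqC_inv h2 hr)) (by rwa [← div_eq_mul_inv])
  set A := m a + m k with hA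
  set V := phi σ (1 + s * A) with hV
  have hAf : σ A = A := by rw [hA, map_add, hmf, hmf]
  have hVn : V * σ V = 1 := phi_norm h2 (hlin _ hAf)
  have hphs_eq : phi σ s = -1 * σ (l ^ 4) := by
    rw [phi, hs, map_sub, map_one, div_eq_iff (sub_ne_zero.2 hl4)]
    linear_combination hln
  have hphsQ : QuC σ (σ (l ^ 4)) := ⟨σ l, norm_conj hf hl, by rw [map_pow]⟩
  have hE : ∀ i, SqC σ (U i) → SqC σ (phi σ s * phi σ s * phi σ s / (U i * (V * V))) := fun i hi => by
    rw [div_eq_mul_inv]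
    have h1 : SqC σ (phi σ s) := hphs_eq ▸ sqC_mul h2 hneg (quC_sqC h2 hphsQ)
    exact sqC_mul h2 (sqC_mul h2 (sqC_mul h2 h1 h1) h1) (sqC_inv h2 (sqC_mul h2 hi ⟨V, hVn, rfl⟩))
  have role : ∀ p o, p ≠ o → a ≠ p → a ≠ o → k ≠ p → k ≠ o →
      QuC σ (phi σ s * phi σ s * phi σ s / (U p * (V * V))) →
      ∃ y ∈ Orb σ f M, ∃ d p r, p ≠ r ∧ f y (e d) = 0 ∧ f y (e p) ≠ 0 ∧ f y (e r) ≠ 0 := by
    intro p o hpo hap hao hkp hko hQ
    set P' := σ (f x (e a)) * f x (e p) with hP'
    set C := σ s * (1 + s * A) * P' with hC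
    have hC0 : C ≠ 0 := mul_ne_zero (mul_ne_zero hσs0 (hlin _ hAf)) (hP0 a p)
    have hpc : coef σ f e x s a p p + coef σ f e x s a p o = -C := by
      have hs4 := hcsum a p hap
      rw [sum_four _ hap hak hao (Ne.symm hkp) hpo hko, ca a p hap,
        ci a p k (Ne.symm hak) hkp] at hs4
      simp only [hC, hA, hP']
      linear_combination hs4
    have hφC : phi σ C = V / phi σ s * phi σ P' := by
      rw [hC, phi_mul, phi_mul, phi_conj h2]
      ring
    have hV0 := left_ne_zero_of_mul_eq_one hVn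
    have hp0' : U p ≠ 0 := left_ne_zero_of_mul_eq_one (hUn p)
    have ep : phi σ (coef σ f e x s a p p) / phi σ C = phi σ s * phi σ s / (U p * V) := by
      rw [cb a p hap, hφC, phi_mul, phi_mul, hUσ, hP']
      have := hφP a p
      field_simp
    have eo : phi σ (coef σ f e x s a p o) / phi σ C = phi σ s / V := by
      rw [ci a p o (Ne.symm hao) (Ne.symm hpo), hφC, phi_mul, phi_mul, phi_mul, phi_conj h2, hφm,
        mul_inv_cancel₀ hphs0, one_mul, one_mul, hP']
      have := hφP a p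
      field_simp
    set η : Fin 4 → F :=
      fun i => if i = p then phi σ s * phi σ s / (U p * V) else if i = o then phi σ s / V else 1 with hη
    have hcp0 : coef σ f e x s a p p ≠ 0 := by
      rw [cb a p hap]
      refine mul_ne_zero (mul_ne_zero hs0 fun h => hlin _ (hmf p) ?_) (hP0 a p)
      have := congrArg σ h
      rwa [map_add, map_one, map_mul, h2, hmf, map_zero] at this
    have hco0 : coef σ f e x s a p o ≠ 0 := by
      rw [ci a p o (Ne.symm hao) (Ne.symm hpo)]
      exact mul_ne_zero (mul_ne_zero (mul_ne_zero hs0 hσs0) (hm0 o)) (hP0 a p)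
    obtain ⟨hn, hsum, hprod⟩ := flip a p p o hap hpo C hC0 hpc hcp0 hco0 η (by simp [hη, ep])
      (by simp [hη, eo, Ne.symm hpo]) fun i hi hi' => by simp [hη, hi, hi']
    refine P.orb_core hle hx hx4 hl hl4 hap η hn hsum ?_ fun i hia hip => ?_
    · rw [hprod]
      convert hQ using 1
      simp only [hη, if_pos, if_neg (Ne.symm hpo)]
      field_simp
    by_cases hio : i = o
    · subst hio
      simp only [hη, if_pos, if_neg hip]
      intro h
      refine hUs p ?_
      field_simp at h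
      first | linear_combination h | linear_combination -h
    · simp only [hη, if_pos, if_neg hip, if_neg hio]
      intro h
      -- the two flipped coefficients would be real multiples of each other
      have hC' : phi σ (coef σ f e x s a p p) = phi σ C := by
        rw [h, div_eq_one_iff_eq (left_ne_zero_of_mul_eq_one (phi_norm h2 hC0))] at ep
        exact ep
      have ho' : phi σ (coef σ f e x s a p o) = phi σ C := by
        have hσ : σ (coef σ f e x s a p p) + σ (coef σ f e x s a p o) = -σ C := by rw [← map_add, hpc, map_neg]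
        simp only [phi] at hC' ⊢
        rw [div_eq_div_iff hcp0 hC0] at hC'
        rw [div_eq_div_iff hco0 hC0]
        linear_combination C * hσ - σ C * hpc - hC'
      rw [← ho', div_self (left_ne_zero_of_mul_eq_one (phi_norm h2 hco0))] at eo
      refine hUs p ?_
      have h' := h.trans eo
      field_simp at h'
      first | linear_combination h' | linear_combination -h'
  by_cases hQb : QuC σ (phi σ s * phi σ s * phi σ s / (U b * (V * V)))
  · exact role b r hbr (Ne.symm hba) (Ne.symm hra) (Ne.symm hbk) (Ne.symm hrk) hQb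
  refine role r b (Ne.symm hbr) (Ne.symm hra) (Ne.symm hba) (Ne.symm hrk) (Ne.symm hbk) (by_contra fun hQr => ?_)
  have h1 := quC_of_two h2 hne (hE b hb) (hE r hr) hQb hQr
  have h3 := quC_mul h2 h1 (quC_inv h2 (quC_sq h2 (hE r hr)))
  refine nbr ?_
  have hV0 := left_ne_zero_of_mul_eq_one hVn
  have := left_ne_zero_of_mul_eq_one (hUn b)
  have := left_ne_zero_of_mul_eq_one (hUn r)
  have h4 := quC_inv h2 h3
  convert h4 using 1
  field_simp

end CfsgLib.GeomClasses.UnitFour
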