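import Cfsg.Agent.Lib.GeomClasses.UnitQr
import Cfsg.Agent.Lib.GeomClasses.Decomp
import Cfsg.Agent.Lib.GeomClasses.UnitCircle

/-!
Two orthogonal non-degenerate planes in a unitary space of dimension four.  All centres with two non-isotropic
components form one orbit up to scalars, and every other isotropic vector is a sum of two of these.
-/

set_option autoImplicit false
set_option linter.unusedSectionVars false

namespace CfsgLib.GeomClasses.UnitFour

open Matrix CfsgLib.GeomClasses.UnitQr CfsgLib.GeomClasses.UnitSymp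

variable {n : ℕ} {F : Type*} [Field F] [Fintype F] {σ : F ≃+* F} {f : (Fin n → F) → (Fin n → F) → F}

/-- Two complementary orthogonal non-degenerate planes. -/
structure Planes (σ : F ≃+* F) (f : (Fin n → F) → (Fin n → F) → F) (X Y : Submodule F (Fin n → F)) : Prop where
  unit : Cfsg.Geo.IsUnitaryForm σ f
  orth : ∀ x ∈ X, ∀ y ∈ Y, f x y = 0
  ndX : Cfsg.Geo.IsNondegenerateOn f X
  ndY : Cfsg.Geo.IsNondegenerateOn f Y
  rankX : Module.finrank F X = 2
  rankY : Module.finrank F Y = 2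
  span : ∀ v, ∃ x ∈ X, ∃ y ∈ Y, x + y = v

variable {X Y : Submodule F (Fin n → F)}

theorem Planes.swap (P : Planes σ f X Y) : Planes σ f Y X where
  unit := P.unit
  orth := fun y hy x hx => Unit.eq_zero_comm P.unit (P.orth x hx y hy)
  ndX := P.ndY
  ndY := P.ndX
  rankX := P.rankY
  rankY := P.rankX
  span := fun v => by
    obtain ⟨x, hx, y, hy, h⟩ := P.span v
    exact ⟨y, hy, x, hx, by rw [add_comm, h]⟩

variable (hf : Cfsg.Geo.IsUnitaryForm σ f)
include hf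

/-- The quasi-reflection along a difference. -/
theorem qr_move {p p' : Fin n → F} (h : f p p = f p' p') (hd : f p p' ≠ f p p) :
    QCond σ f (f p (p' - p))⁻¹ (p' - p) ∧
      (qr f (f p (p' - p))⁻¹ (p' - p) : Matrix (Fin n) (Fin n) F) *ᵥ p = p' := by
  have hx : f p (p' - p) ≠ 0 := by rw [Unit.sub_right hf]; exact sub_ne_zero.2 hd
  have hq : QCond σ f (f p (p' - p))⁻¹ (p' - p) := by
    have hxσ : σ (f p (p' - p)) ≠ 0 := (RingEquiv.map_ne_zero_iff σ).2 hx
    have he : f (p' - p) (p' - p) = -(f p (p' - p) + σ (f p (p' - p))) := by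
      rw [Unit.conj_form hf]
      simp only [Unit.sub_left hf, Unit.sub_right hf, ← h]
      ring
    unfold QCond
    rw [he, map_inv₀]
    field_simp
    ring
  refine ⟨hq, ?_⟩
  rw [qr_mulVec hf hq, inv_mul_cancel₀ hx, one_smul, add_sub_cancel]

theorem qr_norm {s : F} {d : Fin n → F} (h : QCond σ f s d) :
    (1 + s * f d d) * σ (1 + s * f d d) = 1 := by
  unfold QCond at h
  rw [map_add, map_one, map_mul, Unit.self_fixed hf]
  linear_combination f d d * h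

omit hf

/-- The isometries preserving both planes, whose determinant has norm one. -/
def Keeps (σ : F ≃+* F) (f : (Fin n → F) → (Fin n → F) → F) (X Y : Submodule F (Fin n → F)) (g : GL (Fin n) F) :
    Prop :=
  g ∈ isoGroup f ∧ (∀ x ∈ X, (g : Matrix (Fin n) (Fin n) F) *ᵥ x ∈ X) ∧
    (∀ y ∈ Y, (g : Matrix (Fin n) (Fin n) F) *ᵥ y ∈ Y) ∧
    (g : Matrix (Fin n) (Fin n) F).det * σ (g : Matrix (Fin n) (Fin n) F).det = 1

theorem Keeps.mul {g h : GL (Fin n) F} (hg : Keeps σ f X Y g) (hh : Keeps σ f X Y h) : Keeps σ f X Y (g * h) := by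
  refine ⟨(isoGroup f).mul_mem hg.1 hh.1, fun x hx => ?_, fun y hy => ?_, ?_⟩
  · rw [gl_mul_mulVec]; exact hg.2.1 _ (hh.2.1 x hx)
  · rw [gl_mul_mulVec]; exact hg.2.2.1 _ (hh.2.2.1 y hy)
  · rw [Units.val_mul, det_mul, map_mul]
    linear_combination (h : Matrix (Fin n) (Fin n) F).det * σ (h : Matrix (Fin n) (Fin n) F).det * hg.2.2.2 + hh.2.2.2

theorem Keeps.swap {g : GL (Fin n) F} (hg : Keeps σ f X Y g) : Keeps σ f Y X g :=
  ⟨hg.1, hg.2.2.1, hg.2.1, hg.2.2.2⟩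

variable (P : Planes σ f X Y)
include P

theorem Planes.qr_keeps {s : F} {d : Fin n → F} (h : QCond σ f s d) (hd : d ∈ X) :
    Keeps σ f X Y (qr f s d) ∧ ∀ y ∈ Y, (qr f s d : Matrix (Fin n) (Fin n) F) *ᵥ y = y := by
  have hy : ∀ y ∈ Y, (qr f s d : Matrix (Fin n) (Fin n) F) *ᵥ y = y := fun y hy =>
    qr_fix P.unit h (Unit.eq_zero_comm P.unit (P.orth d hd y hy))
  refine ⟨⟨qr_iso P.unit h, fun x hx => ?_, fun y hy' => by rwa [hy y hy'], ?_⟩, hy⟩
  · rw [qr_mulVec P.unit h]; exact X.add_mem hx (X.smul_mem _ hd)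
  · rw [qr_det P.unit h]; exact qr_norm P.unit h

/-- Vectors of a plane with the same non-zero value correspond. -/
theorem Planes.move {p p' : Fin n → F} (hp : p ∈ X) (hp' : p' ∈ X) (h : f p p = f p' p') (h0 : f p p ≠ 0) :
    ∃ g, Keeps σ f X Y g ∧ (g : Matrix (Fin n) (Fin n) F) *ᵥ p = p' ∧
      ∀ y ∈ Y, (g : Matrix (Fin n) (Fin n) F) *ᵥ y = y := by
  have hf := P.unit
  have step : ∀ {p p' : Fin n → F}, p ∈ X → p' ∈ X → f p p = f p' p' → f p p' ≠ f p p →
      ∃ g, Keeps σ f X Y g ∧ (g : Matrix (Fin n) (Fin n) F) *ᵥ p = p' ∧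
        ∀ y ∈ Y, (g : Matrix (Fin n) (Fin n) F) *ᵥ y = y := fun hp hp' h hd => by
    obtain ⟨hq, he⟩ := qr_move hf h hd
    obtain ⟨hk, hy⟩ := P.qr_keeps hq (X.sub_mem hp' hp)
    exact ⟨_, hk, he, hy⟩
  by_cases hd : f p p' = f p p
  · obtain ⟨ε, hε, hεr⟩ := UnitCircle.exists_nonreal hf.ne_refl hf.involutive
    have hε1 : ε ≠ 1 := fun h => hεr (by rw [h, map_one])
    have hn : f (ε • p) (ε • p) = f p p := by
      rw [Unit.smul_left hf, Unit.smul_right hf, ← mul_assoc, hε, one_mul]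
    obtain ⟨g₁, hg₁, e₁, f₁⟩ := step hp (X.smul_mem ε hp) hn.symm (by
      rw [Unit.smul_right hf]
      intro he
      exact hεr (by rw [mul_left_eq_self₀.1 he |>.resolve_right h0, eq_comm]; exact (by
        have := mul_left_eq_self₀.1 he |>.resolve_right h0
        have h1 := congrArg σ this
        rwa [hf.involutive, map_one] at h1)))
    obtain ⟨g₂, hg₂, e₂, f₂⟩ := step (X.smul_mem ε hp) hp' (hn.trans h) (by
      rw [Unit.smul_left hf, hd, hn]
      intro he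
      exact hε1 ((mul_left_eq_self₀.1 he).resolve_right h0))
    exact ⟨g₂ * g₁, hg₂.mul hg₁, by rw [gl_mul_mulVec, e₁, e₂], fun y hy => by rw [gl_mul_mulVec, f₁ y hy, f₂ y hy]⟩
  · exact step hp hp' h hd

/-- Correcting the determinant. -/
theorem Planes.det_fix {g : GL (Fin n) F} (hg : Keeps σ f X Y g) {p : Fin n → F} (hp : p ∈ X) (hpp : f p p ≠ 0) :
    ∃ r, Keeps σ f X Y r ∧ r * g ∈ kGrp f ∧ (r : Matrix (Fin n) (Fin n) F) *ᵥ p = p ∧
      ∀ y ∈ Y, (r : Matrix (Fin n) (Fin n) F) *ᵥ y = y := by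
  have hf := P.unit
  obtain ⟨hZ, y₀, hy₀, hy₀0⟩ := line_compl hf P.ndX hp hpp (by rw [P.rankX])
  obtain ⟨e, he, hee⟩ := UnitPow.exists_nonisotropic hf hZ hy₀ hy₀0
  set δ := (g : Matrix (Fin n) (Fin n) F).det with hδ
  have hN : δ * σ δ = 1 := hg.2.2.2
  have hδ0 : δ ≠ 0 := left_ne_zero_of_mul_eq_one hN
  set s := (δ⁻¹ - 1) / f e e with hs
  have hse : s * f e e = δ⁻¹ - 1 := div_mul_cancel₀ _ hee
  have hq : QCond σ f s e := by
    refine mul_right_cancel₀ hee ?_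
    have h1 : σ s * f e e = σ δ⁻¹ - 1 := by
      rw [← Unit.self_fixed hf e, ← map_mul, hse, map_sub, map_one]
    have h2 : δ⁻¹ * σ δ⁻¹ = 1 := by rw [map_inv₀, ← mul_inv, hN, inv_one]
    rw [zero_mul]
    linear_combination (1 + σ s * f e e) * hse + δ⁻¹ * h1 + h2
  obtain ⟨hk, hy⟩ := P.qr_keeps hq he.1
  refine ⟨qr f s e, hk, kGrp_of hf ((isoGroup f).mul_mem hk.1 hg.1) ?_, qr_fix hf hq ?_, hy⟩
  · rw [Units.val_mul, det_mul, qr_det hf hq, hse, ← hδ, add_sub_cancel, inv_mul_cancel₀ hδ0]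
  · exact Unit.eq_zero_comm hf ((Unit.mem_perp hf).1 he.2 p (Submodule.mem_span_singleton_self p))

variable {M : Subgroup (GL (Fin n) F)}
  (hle : ∀ g ∈ kGrp f, (∀ x ∈ X, (g : Matrix (Fin n) (Fin n) F) *ᵥ x ∈ X) →
    (∀ y ∈ Y, (g : Matrix (Fin n) (Fin n) F) *ᵥ y ∈ Y) → g ∈ M)
include hle

theorem Planes.cen_block {v : Fin n → F} (hv : v ∈ X) (hvv : f v v = 0) : v ∈ Cen σ f M := by
  have hf := P.unit
  refine ⟨hvv, fun c hc => hle _ (formTv_iso hf hvv hc) (fun x hx => ?_) fun y hy => ?_⟩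
  · rw [Unit.formTv_mulVec hf hvv]; exact X.add_mem hx (X.smul_mem _ hv)
  · rw [Unit.formTv_mulVec hf hvv, Unit.eq_zero_comm hf (P.orth v hv y hy), mul_zero, zero_smul, add_zero]
    exact hy

/-- All centres with two non-isotropic components, from one of them. -/
theorem Planes.aniso_all {p r p' r' : Fin n → F} (hp : p ∈ X) (hr : r ∈ Y) (hp' : p' ∈ X) (hr' : r' ∈ Y)
    (hpp : f p p ≠ 0) (hpp' : f p' p' ≠ 0) (hsum : f p p + f r r = 0) (hsum' : f p' p' + f r' r' = 0)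
    (h : p + r ∈ Cen σ f M) : p' + r' ∈ Cen σ f M := by
  have hf := P.unit
  obtain ⟨t, ht⟩ := Unit.exists_norm hf.ne_refl hf.involutive
    (show σ (f p' p' / f p p) = f p' p' / f p p by rw [map_div₀, Unit.self_fixed hf, Unit.self_fixed hf])
  have hn : ∀ x, f (t • x) (t • x) = f p' p' / f p p * f x x := fun x => by
    rw [Unit.smul_left hf, Unit.smul_right hf, ← mul_assoc, ht]
  have h1 : f (t • p) (t • p) = f p' p' := by rw [hn, div_mul_cancel₀ _ hpp]
  have h2 : f (t • r) (t • r) = f r' r' := by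
    rw [hn, eq_neg_of_add_eq_zero_right hsum, eq_neg_of_add_eq_zero_right hsum', mul_neg, div_mul_cancel₀ _ hpp]
  obtain ⟨A, hA, eA, fA⟩ := P.move (X.smul_mem t hp) hp' h1 (h1 ▸ hpp')
  obtain ⟨B, hB, eB, fB⟩ := P.swap.move (Y.smul_mem t hr) hr' h2 (by
    rw [h2, eq_neg_of_add_eq_zero_right hsum']; exact neg_ne_zero.2 hpp')
  obtain ⟨R, hR, hRk, eR, fR⟩ := P.det_fix (hB.swap.mul hA) hp' hpp'
  have hK := hR.mul (hB.swap.mul hA)
  have hc := cen_map hf (hle _ hRk hK.2.1 hK.2.2.1) hK.1 (cen_smul hf h t)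
  rwa [smul_add, mulVec_add, gl_mul_mulVec, gl_mul_mulVec, gl_mul_mulVec, gl_mul_mulVec, eA,
    fB p' hp', eR, fA _ (Y.smul_mem t hr), eB, fR r' hr'] at hc

/-- A centre with isotropic components gives one with non-isotropic components. -/
theorem Planes.aniso_of_iso {a b : Fin n → F} (ha : a ∈ X) (hb : b ∈ Y) (ha0 : a ≠ 0) (hb0 : b ≠ 0)
    (haa : f a a = 0) (hbb : f b b = 0) (h : a + b ∈ Cen σ f M) :
    ∃ p ∈ X, ∃ r ∈ Y, f p p ≠ 0 ∧ p + r ∈ Cen σ f M := by
  have hf := P.unit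
  obtain ⟨μ, hμr, hμs⟩ : ∃ μ : F, σ μ ≠ μ ∧ μ + σ μ ≠ 0 := by
    obtain ⟨ε, hε, hεr⟩ := UnitCircle.exists_nonreal hf.ne_refl hf.involutive
    by_cases hs : ε + σ ε = 0
    · refine ⟨1 + ε, fun h => hεr ?_, fun h => ?_⟩
      · rw [map_add, map_one, add_right_inj] at h; exact h
      · rw [map_add, map_one] at h
        have h2 : (2 : F) = 0 := by linear_combination h - hs
        exact hεr (by linear_combination hs - ε * h2)
    · exact ⟨ε, hεr, hs⟩
  have hμ0 : μ ≠ 0 := fun h => hμr (by rw [h, map_zero])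
  obtain ⟨y, hy, hay⟩ := (P.ndX a ha ha0).2
  obtain ⟨z₀, hz₀, hzz₀, haz₀⟩ := UnitCentres.exists_iso_nonorth hf P.ndX (by rw [P.rankX]) hy hay
  obtain ⟨y', hy', hby'⟩ := (P.ndY b hb hb0).2
  obtain ⟨w₀, hw₀, hww₀, hbw₀⟩ := UnitCentres.exists_iso_nonorth hf P.ndY (by rw [P.rankY]) hy' hby'
  -- the images of the components
  set z := σ (σ μ / f a z₀) • z₀ with hz
  set w := σ (-μ / f b w₀) • w₀ with hw
  have haz : f a z = σ μ := by rw [hz, Unit.smul_right hf, hf.involutive, div_mul_cancel₀ _ haz₀]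
  have hbw : f b w = -μ := by rw [hw, Unit.smul_right hf, hf.involutive, div_mul_cancel₀ _ hbw₀]
  have hzz : f z z = 0 := by rw [hz, Unit.smul_left hf, Unit.smul_right hf, hzz₀, mul_zero, mul_zero]
  have hww : f w w = 0 := by rw [hw, Unit.smul_left hf, Unit.smul_right hf, hww₀, mul_zero, mul_zero]
  have hσμ0 : σ μ ≠ 0 := (RingEquiv.map_ne_zero_iff σ).2 hμ0
  obtain ⟨hq, eA⟩ := qr_move hf (haa.trans hzz.symm) (by rw [haz, haa]; exact hσμ0)
  obtain ⟨hq', eB⟩ := qr_move hf (hbb.trans hww.symm) (by rw [hbw, hbb]; exact neg_ne_zero.2 hμ0)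
  obtain ⟨hA, fA⟩ := P.qr_keeps hq (X.sub_mem (X.smul_mem _ hz₀) ha)
  obtain ⟨hB, fB⟩ := P.swap.qr_keeps hq' (Y.sub_mem (Y.smul_mem _ hw₀) hb)
  have hK := hB.swap.mul hA
  have hdet : ((qr f (f b (w - b))⁻¹ (w - b) * qr f (f a (z - a))⁻¹ (z - a) : GL (Fin n) F) :
      Matrix (Fin n) (Fin n) F).det = 1 := by
    rw [Units.val_mul, det_mul, qr_det hf hq', qr_det hf hq]
    simp only [Unit.sub_left hf, Unit.sub_right hf, haa, hbb, hzz, hww, haz, hbw,
      ← Unit.conj_form hf a z, ← Unit.conj_form hf b w, map_neg, hf.involutive, sub_zero, zero_sub, sub_neg_eq_add,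
      neg_neg]
    field_simp
    ring
  have hg := hle _ (kGrp_of hf hK.1 hdet) hK.2.1 hK.2.2.1
  have h1 := cen_map hf hg hK.1 h
  rw [mulVec_add, gl_mul_mulVec, gl_mul_mulVec, eA, fB _ (X.smul_mem _ hz₀), fA b hb, eB] at h1
  have e : f (a + b) (z + w) = σ μ - μ := by
    rw [Unit.add_left hf, Unit.add_right hf, Unit.add_right hf, haz, hbw, P.orth a ha w (Y.smul_mem _ hw₀),
      Unit.eq_zero_comm hf (P.orth z (X.smul_mem _ hz₀) b hb)]
    ring
  have h2 := cen_add hf h h1 (by rw [e]; exact sub_ne_zero.2 hμr) (by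
    rw [e, map_sub, hf.involutive]; ring)
  refine ⟨a + z, X.add_mem ha (X.smul_mem _ hz₀), b + w, Y.add_mem hb (Y.smul_mem _ hw₀), ?_, ?_⟩
  · rw [Unit.add_left hf, Unit.add_right hf, Unit.add_right hf, haa, hzz, haz, ← Unit.conj_form hf a z, haz,
      hf.involutive, zero_add, add_zero, add_comm]
    exact hμs
  · rwa [add_add_add_comm]

/-- All isotropic vectors are centres once some centre has two components. -/
theorem Planes.cen_all (hB : Big σ) {p₀ r₀ : Fin n → F} (hp₀ : p₀ ∈ X) (hr₀ : r₀ ∈ Y) (hp0 : p₀ ≠ 0)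
    (hr0 : r₀ ≠ 0) (h : p₀ + r₀ ∈ Cen σ f M) : ∀ v, f v v = 0 → v ∈ Cen σ f M := by
  have hf := P.unit
  have hsplit : ∀ {x y : Fin n → F}, x ∈ X → y ∈ Y → f (x + y) (x + y) = 0 → f x x + f y y = 0 := by
    intro x y hx hy h
    rw [Unit.add_left hf, Unit.add_right hf, Unit.add_right hf, P.orth x hx y hy,
      Unit.eq_zero_comm hf (P.orth x hx y hy)] at h
    linear_combination h
  obtain ⟨p, hp, r, hr, hpp, hpr⟩ : ∃ p ∈ X, ∃ r ∈ Y, f p p ≠ 0 ∧ p + r ∈ Cen σ f M := by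
    by_cases h0 : f p₀ p₀ = 0
    · have := hsplit hp₀ hr₀ h.1
      rw [h0, zero_add] at this
      exact P.aniso_of_iso hle hp₀ hr₀ hp0 hr0 h0 this h
    · exact ⟨p₀, hp₀, r₀, hr₀, h0, h⟩
  have hall : ∀ {x y : Fin n → F}, x ∈ X → y ∈ Y → f x x ≠ 0 → f x x + f y y = 0 → x + y ∈ Cen σ f M :=
    fun hx hy hxx hxy => P.aniso_all hle hp hr hx hy hpp hxx (hsplit hp hr hpr.1) hxy hpr
  intro v hv
  obtain ⟨a, ha, b, hb, rfl⟩ := P.span v
  have hab := hsplit ha hb hv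
  by_cases haa : f a a = 0
  swap
  · exact hall ha hb haa hab
  have hbb : f b b = 0 := by rw [haa, zero_add] at hab; exact hab
  by_cases ha0 : a = 0
  · rw [ha0, zero_add]
    exact P.swap.cen_block (fun g hg h1 h2 => hle g hg h2 h1) hb hbb
  by_cases hb0 : b = 0
  · rw [hb0, add_zero]; exact P.cen_block hle ha haa
  -- a sum of two centres with non-isotropic components
  obtain ⟨s, hs0, hs, hs1⟩ := exists_skew_ne hf hB 1
  obtain ⟨N, hN, hN0, hN2⟩ : ∃ N, σ N = N ∧ N ≠ 0 ∧ N ≠ 2 := by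
    obtain ⟨c, hc, hc0, hc1⟩ := hB
    by_cases h : (1 : F) = 2
    · exact ⟨c, hc, hc0, h ▸ hc1⟩
    · exact ⟨1, map_one σ, one_ne_zero, h⟩
  obtain ⟨y, hy, hay⟩ := (P.ndX a ha ha0).2
  obtain ⟨z₀, hz₀, hzz₀, haz₀⟩ := UnitCentres.exists_iso_nonorth hf P.ndX (by rw [P.rankX]) hy hay
  obtain ⟨y', hy', hby'⟩ := (P.ndY b hb hb0).2
  obtain ⟨w₀, hw₀, hww₀, hbw₀⟩ := UnitCentres.exists_iso_nonorth hf P.ndY (by rw [P.rankY]) hy' hby'
  have hp' : ∀ (u u₀ : Fin n → F) (W : Submodule F (Fin n → F)), u ∈ W → u₀ ∈ W → f u u = 0 → f u₀ u₀ = 0 →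
      f u u₀ ≠ 0 → ∀ x N : F, x ≠ 0 → σ N = N → ∃ p ∈ W, f p u = x ∧ f p p = N := by
    intro u u₀ W hu hu₀ huu huu₀ huu' x N hx hN
    obtain ⟨T, hT⟩ := Unit.exists_trace hf.ne_refl hf.involutive hN
    have h' := Unit.ne_zero_comm hf huu'
    refine ⟨(x / f u₀ u) • u₀ + (T / (σ (x / f u₀ u) * f u u₀)) • u,
      W.add_mem (W.smul_mem _ hu₀) (W.smul_mem _ hu), ?_, ?_⟩
    · rw [Unit.add_left hf, Unit.smul_left hf, Unit.smul_left hf, huu, mul_zero, add_zero, div_mul_cancel₀ _ h']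
    · have hden : σ (x / f u₀ u) * f u u₀ ≠ 0 :=
        mul_ne_zero ((RingEquiv.map_ne_zero_iff σ).2 (div_ne_zero hx h')) huu'
      set α := x / f u₀ u
      set β := T / (σ α * f u u₀) with hβ
      have e1 : β * (σ α * f u u₀) = T := div_mul_cancel₀ _ hden
      have e2 := congrArg σ e1
      rw [map_mul, map_mul, hf.involutive, Unit.conj_form hf] at e2
      simp only [Unit.add_left hf, Unit.add_right hf, Unit.smul_left hf, Unit.smul_right hf, huu, huu₀]
      linear_combination e1 + e2 + hT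
  obtain ⟨p', hp'X, hp'a, hp'p⟩ := hp' a z₀ X ha hz₀ haa hzz₀ haz₀ 1 N one_ne_zero hN
  obtain ⟨r', hr'Y, hr'b, hr'r⟩ := hp' b w₀ Y hb hw₀ hbb hww₀ hbw₀ (s - 1) (-N) (sub_ne_zero.2 hs1)
    (by rw [map_neg, hN])
  have hu := hall hp'X hr'Y (by rw [hp'p]; exact hN0) (by rw [hp'p, hr'r]; ring)
  have hap' : f a p' = 1 := by rw [← Unit.conj_form hf p' a, hp'a, map_one]
  have hbr' : f b r' = σ (s - 1) := by rw [← Unit.conj_form hf r' b, hr'b]
  have hv' : (a - p') + (b - r') ∈ Cen σ f M := by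
    refine hall (X.sub_mem ha hp'X) (Y.sub_mem hb hr'Y) ?_ ?_
    · simp only [Unit.sub_left hf, Unit.sub_right hf, haa, hp'a, hap', hp'p]
      intro h0
      exact hN2 (by linear_combination h0)
    · simp only [Unit.sub_left hf, Unit.sub_right hf, haa, hbb, hp'a, hap', hr'b, hbr', hp'p, hr'r, map_sub,
        map_one]
      linear_combination -hs
  have e : f (p' + r') ((a - p') + (b - r')) = s := by
    simp only [Unit.add_left hf, Unit.add_right hf, Unit.sub_right hf, hp'a, hr'b, hp'p, hr'r,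
      P.orth p' hp'X b hb, P.orth p' hp'X r' hr'Y, Unit.eq_zero_comm hf (P.orth a ha r' hr'Y),
      Unit.eq_zero_comm hf (P.orth p' hp'X r' hr'Y)]
    ring
  have h1 := cen_add hf hu hv' (by rwa [e]) (by rw [e]; exact hs)
  rwa [show p' + r' + (a - p' + (b - r')) = a + b by abel] at h1

omit hle

/-- An overgroup moving the planes makes every isotropic vector a centre. -/
theorem Planes.cen_all_of_moved (hB : Big σ)
    (hle : ∀ g ∈ kGrp f, (∀ x ∈ X, (g : Matrix (Fin n) (Fin n) F) *ᵥ x ∈ X) →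
      (∀ y ∈ Y, (g : Matrix (Fin n) (Fin n) F) *ᵥ y ∈ Y) → g ∈ M)
    {g : GL (Fin n) F} (hg : g ∈ M) (hgi : g ∈ isoGroup f)
    (hmove : ¬ ((∀ x ∈ X, (g : Matrix (Fin n) (Fin n) F) *ᵥ x ∈ X) ∨
      (∀ x ∈ X, (g : Matrix (Fin n) (Fin n) F) *ᵥ x ∈ Y))) :
    ∀ v, f v v = 0 → v ∈ Cen σ f M := by
  have hf := P.unit
  have hgi' : Symp.IsIsometry f g := hgi
  obtain ⟨v, hv, hvv, hvX, hvY⟩ : ∃ v ∈ X, f v v = 0 ∧ (g : Matrix (Fin n) (Fin n) F) *ᵥ v ∉ X ∧
      (g : Matrix (Fin n) (Fin n) F) *ᵥ v ∉ Y := by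
    by_contra hcon
    push Not at hcon
    apply hmove
    have hone : ∀ v ∈ X, f v v = 0 → (g : Matrix (Fin n) (Fin n) F) *ᵥ v ∈ X ∨
        (g : Matrix (Fin n) (Fin n) F) *ᵥ v ∈ Y := fun v hv hvv => or_iff_not_imp_left.2 (hcon v hv hvv)
    obtain ⟨u, hu, hu0, huu⟩ := UnitCentres.exists_iso hf P.ndX (by rw [P.rankX])
    have key : ∀ (Z Z' : Submodule F (Fin n → F)), (∀ z ∈ Z, ∀ z' ∈ Z', f z z' = 0) →
        (∀ w ∈ X, f w w = 0 → (g : Matrix (Fin n) (Fin n) F) *ᵥ w ∈ Z ∨ (g : Matrix (Fin n) (Fin n) F) *ᵥ w ∈ Z') →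
        (g : Matrix (Fin n) (Fin n) F) *ᵥ u ∈ Z → ∀ x ∈ X, (g : Matrix (Fin n) (Fin n) F) *ᵥ x ∈ Z := by
      intro Z Z' hZ hside huZ x hx
      have hle' := UnitCentres.le_of_iso hf P.ndX (by rw [P.rankX])
        (Y := Z.comap (Matrix.toLin' (g : Matrix (Fin n) (Fin n) F))) (fun w hw hww => ?_) hx
      · simpa using hle'
      · rw [Submodule.mem_comap, Matrix.toLin'_apply]
        have hsame : ∀ w ∈ X, ∀ z ∈ X, f w w = 0 → f z z = 0 → f w z ≠ 0 →
            (g : Matrix (Fin n) (Fin n) F) *ᵥ w ∈ Z → (g : Matrix (Fin n) (Fin n) F) *ᵥ z ∈ Z := by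
          intro w hw z hz hww hzz hwz hwZ
          exact (hside z hz hzz).resolve_right fun h => hwz (by rw [← hgi', hZ _ hwZ _ h])
        by_cases hw0 : w = 0
        · simp [hw0]
        obtain ⟨z, hz, hzz, huz, hwz⟩ := UnitCentres.exists_iso_both hf P.ndX (by rw [P.rankX])
          (P.ndX u hu hu0).2 (P.ndX w hw hw0).2
        exact hsame z hz w hw hzz hww (Unit.ne_zero_comm hf hwz) (hsame u hu z hz huu hzz huz huZ)
    rcases hone u hu huu with h | h
    · exact Or.inl (key X Y P.orth hone h)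
    · exact Or.inr (key Y X P.swap.orth (fun w hw hww => (hone w hw hww).symm) h)
  obtain ⟨p, hp, r, hr, hpr⟩ := P.span ((g : Matrix (Fin n) (Fin n) F) *ᵥ v)
  have hc := cen_map hf hg hgi' (P.cen_block hle hv hvv)
  rw [← hpr] at hc hvX hvY
  exact P.cen_all hle hB hp hr (fun h => hvY (by rw [h, zero_add]; exact hr))
    (fun h => hvX (by rw [h, add_zero]; exact hp)) hc

omit P

/-- The stabiliser of two orthogonal non-degenerate planes is maximal. -/
theorem maximal_planes {q : ℕ} (hF : Fintype.card F = q ^ 2) (hn : n = 4) (hq : 3 ≤ q)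
    {D : Fin 2 → Submodule F (Fin n → F)}
    (hD : Cfsg.Geo.IsNondegenerateMDecomposition (Cfsg.hermForm n F q) 2 D) :
    Cfsg.Geo.IsMaximalIn (Cfsg.GU n F q ⊓ Cfsg.Geo.specialLinear (Fin n) F)
      (Cfsg.Geo.decompositionStabilizer D ⊓ (Cfsg.GU n F q ⊓ Cfsg.Geo.specialLinear (Fin n) F)) := by
  classical
  have hf := UnitPow.isUnitaryForm_hermForm hF n
  have hspan : ∀ v, ∃ x ∈ D 0, ∃ y ∈ D 1, x + y = v := fun v => by
    have h := Decomp.sum_comp hD.decomp v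
    rw [Fin.sum_univ_two] at h
    exact ⟨_, Decomp.comp_mem hD.decomp 0 v, _, Decomp.comp_mem hD.decomp 1 v, h⟩
  have P : Planes (UnitPow.conj hF) (Cfsg.hermForm n F q) (D 0) (D 1) :=
    ⟨hf, hD.orthogonal 0 1 (by decide), hD.nondegenerate 0, hD.nondegenerate 1, hD.decomp.finrank_eq 0,
      hD.decomp.finrank_eq 1, hspan⟩
  have hB : Big (UnitPow.conj hF) := by
    by_contra hB
    have hsub : UnitCircle.fixSet (UnitPow.conj hF) ⊆ ({0, 1} : Finset F) := by
      intro x hx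
      simp only [Finset.mem_insert, Finset.mem_singleton]
      by_contra h
      push Not at h
      exact hB ⟨x, UnitCircle.mem_fixSet.1 hx, h.1, h.2⟩
    have h2 := (Finset.card_le_card hsub).trans Finset.card_le_two
    have h3 := UnitCircle.card_field (σ := UnitPow.conj hF) hf.ne_refl hf.involutive
    have : 3 * 3 ≤ q * q := Nat.mul_le_mul hq hq
    rw [hF, pow_two] at h3
    have : (UnitCircle.fixSet (UnitPow.conj hF)).card * (UnitCircle.fixSet (UnitPow.conj hF)).card ≤ 2 * 2 :=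
      Nat.mul_le_mul h2 h2
    omega
  have hK : ∀ {g}, g ∈ Cfsg.GU n F q ⊓ Cfsg.Geo.specialLinear (Fin n) F ↔ g ∈ kGrp (Cfsg.hermForm n F q) :=
    fun {g} => ⟨fun h => ⟨UnitPow.mem_GU.1 h.1, h.2⟩, fun h => ⟨UnitPow.mem_GU.2 h.1, h.2⟩⟩
  have hle0 : ∀ {M : Subgroup (GL (Fin n) F)},
      Cfsg.Geo.decompositionStabilizer D ⊓ (Cfsg.GU n F q ⊓ Cfsg.Geo.specialLinear (Fin n) F) ≤ M →
      ∀ g ∈ kGrp (Cfsg.hermForm n F q), (∀ x ∈ D 0, (g : Matrix (Fin n) (Fin n) F) *ᵥ x ∈ D 0) →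
        (∀ y ∈ D 1, (g : Matrix (Fin n) (Fin n) F) *ᵥ y ∈ D 1) → g ∈ M := fun hle g hg h0 h1 =>
    hle ⟨Decomp.mem_stabilizer_of_image hD.decomp (fun i => ⟨i, by fin_cases i <;> assumption⟩), hK.2 hg⟩
  refine ⟨lt_of_le_of_ne inf_le_right fun heq => ?_, fun M hle hMK => ?_⟩
  · obtain ⟨a, ha, ha0, haa⟩ := UnitCentres.exists_iso hf P.ndX (by rw [P.rankX])
    obtain ⟨b, hb, hb0, hbb⟩ := UnitCentres.exists_iso hf P.ndY (by rw [P.rankY])
    obtain ⟨y, hy, hay⟩ := (P.ndX a ha ha0).1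
    obtain ⟨c, hc0, hc⟩ := Unit.exists_skew hf.ne_refl hf.involutive
    have hvv : Cfsg.hermForm n F q (a + b) (a + b) = 0 := by
      rw [Unit.add_left hf, Unit.add_right hf, Unit.add_right hf, haa, hbb, P.orth a ha b hb,
        P.swap.orth b hb a ha]
      ring
    obtain ⟨π, hπ⟩ := (heq.ge (hK.2 (formTv_iso hf hvv hc))).1
    have h := Submodule.mem_map_of_mem (f := Matrix.toLin' (formTv (Cfsg.hermForm n F q) (a + b) c :
      Matrix (Fin n) (Fin n) F)) hy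
    rw [hπ, Matrix.toLin'_apply, Unit.formTv_mulVec hf hvv, Unit.add_right hf, P.orth y hy b hb, add_zero] at h
    have hpar : ∀ {u w : Fin n → F}, u ∈ D 0 → w ∈ D 1 → u + w ∈ D (π 0) → w ≠ 0 → u = 0 := by
      intro u w hu hw huw hw0
      rcases (show π 0 = 0 ∨ π 0 = 1 by omega) with h0 | h0
      · exfalso
        rw [h0] at huw
        have hw' : w ∈ D 0 := by have := (D 0).sub_mem huw hu; rwa [add_sub_cancel_left] at this
        obtain ⟨x, hx, hxw⟩ := (P.ndY w hw hw0).1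
        exact hxw (P.swap.orth x hx w hw')
      · rw [h0] at huw
        have hu' : u ∈ D 1 := by have := (D 1).sub_mem huw hw; rwa [add_sub_cancel_right] at this
        by_contra hu0
        obtain ⟨x, hx, hxu⟩ := (P.ndX u hu hu0).1
        exact hxu (P.orth x hx u hu')
    set k := c * Cfsg.hermForm n F q y a with hk
    have hk0 : k ≠ 0 := mul_ne_zero hc0 hay
    rw [smul_add, ← add_assoc] at h
    have h0 := hpar ((D 0).add_mem hy ((D 0).smul_mem _ ha)) ((D 1).smul_mem _ hb) h (smul_ne_zero hk0 hb0)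
    apply hay
    rw [show y = -(k • a) from eq_neg_of_add_eq_zero_left h0, ← neg_smul, Unit.smul_left hf, haa, mul_zero]
  by_cases hall : M ≤ Cfsg.Geo.decompositionStabilizer D
  · exact Or.inl (le_antisymm (le_inf hall hMK) hle)
  right
  obtain ⟨g, hg, hgs⟩ := SetLike.not_le_iff_exists.1 hall
  have hgi : g ∈ isoGroup (Cfsg.hermForm n F q) := (hK.1 (hMK hg)).1
  refine le_antisymm hMK (UnitGen.specialUnitary_le_of_formTv_mem hF (by omega) (by omega) fun v hv c hc => ?_)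
  refine (P.cen_all_of_moved hB (hle0 hle) hg hgi (fun h => hgs ?_) v hv).2 c hc
  -- the image of the second plane follows that of the first
  have hperp : ∀ (X' : Submodule F (Fin n → F)) (Y' : Submodule F (Fin n → F)),
      Planes (UnitPow.conj hF) (Cfsg.hermForm n F q) X' Y' →
      (∀ x ∈ D 0, (g : Matrix (Fin n) (Fin n) F) *ᵥ x ∈ X') →
      ∀ y ∈ D 1, (g : Matrix (Fin n) (Fin n) F) *ᵥ y ∈ Y' := by
    intro X' Y' P' hX' y hy
    have hmap : (D 0).map (Matrix.toLin' (g : Matrix (Fin n) (Fin n) F)) = X' := by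
      refine Submodule.eq_of_le_of_finrank_eq ?_ ?_
      · rintro _ ⟨x, hx, rfl⟩
        rw [Matrix.toLin'_apply]; exact hX' x hx
      · exact ((Submodule.equivMapOfInjective _ (by
          simpa [Function.Injective] using gl_mulVec_injective g) _).finrank_eq.symm.trans P.rankX).trans P'.rankX.symm
    obtain ⟨x', hx', y', hy', he⟩ := P'.span ((g : Matrix (Fin n) (Fin n) F) *ᵥ y)
    have hx'0 : x' = 0 := by
      by_contra h0
      obtain ⟨z, hz, hzx⟩ := (P'.ndX x' hx' h0).1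
      rw [← hmap] at hz
      obtain ⟨w, hw, rfl⟩ := hz
      rw [Matrix.toLin'_apply] at hzx
      have hzy : Cfsg.hermForm n F q ((g : Matrix (Fin n) (Fin n) F) *ᵥ w) y' = 0 := P'.orth _ (hX' w hw) _ hy'
      have : Cfsg.hermForm n F q ((g : Matrix (Fin n) (Fin n) F) *ᵥ w) (x' + y') = 0 := by
        rw [he, hgi w y, P.orth w hw y hy]
      rw [Unit.add_right hf, hzy, add_zero] at this
      exact hzx this
    rw [← he, hx'0, zero_add]
    exact hy'
  refine Decomp.mem_stabilizer_of_image hD.decomp fun i => ?_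
  rcases h with h | h
  · fin_cases i
    exacts [⟨0, h⟩, ⟨1, hperp _ _ P h⟩]
  · fin_cases i
    exacts [⟨1, h⟩, ⟨0, hperp _ _ P.swap h⟩]

end CfsgLib.GeomClasses.UnitFour
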