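import Cfsg.Agent.Lib.GeomClasses.UnitFour.FrameStart
import Cfsg.Agent.Lib.GeomClasses.UnitFour.Planes

/-!
The stabiliser of an orthonormal frame of a unitary space of dimension four is maximal, unless the fixed field
has three elements.
-/

set_option autoImplicit false
set_option linter.unusedSectionVars false
set_option linter.unusedSimpArgs false

namespace CfsgLib.GeomClasses.UnitFour

open Matrix CfsgLib.GeomClasses.UnitQr CfsgLib.GeomClasses.UnitSymp CfsgLib.GeomClasses.UnitDecomp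
  CfsgLib.GeomClasses.UnitCircle CfsgLib.GeomClasses.UnitFrame

variable {F : Type*} [Field F] [Fintype F] {σ : F ≃+* F} {f : (Fin 4 → F) → (Fin 4 → F) → F}
  {D : Fin 4 → Submodule F (Fin 4 → F)} {e : Fin 4 → Fin 4 → F}

/-- Two scaled values cancel. -/
theorem exists_nv_cancel (hne : σ ≠ RingEquiv.refl F) (h2 : ∀ a, σ (σ a) = a) {a b : F} (ha : a ≠ 0) (hb : b ≠ 0)
    (hσa : σ a = a) (hσb : σ b = b) :
    ∃ η θ : F, η * σ η = 1 ∧ θ * σ θ = 1 ∧ η ≠ 1 ∧ θ ≠ 1 ∧ nv σ η * a + nv σ θ * b = 0 := by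
  classical
  set S := ((circle σ).erase 1).image (nv σ) with hS
  have hS0 : ∀ x ∈ S, x ≠ 0 ∧ σ x = x := by
    intro x hx
    obtain ⟨η, hη, rfl⟩ := Finset.mem_image.1 hx
    exact ⟨nv_ne_zero (Finset.mem_erase.1 hη).1, nv_fixed h2 η⟩
  set S' := S.image fun x => -(x * b) / a with hS'
  have hcard : S'.card = S.card := Finset.card_image_of_injOn fun x _ y _ h => by
    field_simp at h
    first | exact neg_injective h | exact h | exact mul_right_cancel₀ hb (neg_injective h)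
  have hsub : S ∪ S' ⊆ (fixSet σ).erase 0 := by
    intro x hx
    rw [Finset.mem_erase, mem_fixSet]
    rcases Finset.mem_union.1 hx with hx | hx
    · exact hS0 x hx
    · obtain ⟨y, hy, rfl⟩ := Finset.mem_image.1 hx
      exact ⟨div_ne_zero (neg_ne_zero.2 (mul_ne_zero (hS0 y hy).1 hb)) ha,
        by rw [map_div₀, map_neg, map_mul, (hS0 y hy).2, hσa, hσb]⟩
  obtain ⟨x, hx⟩ : (S ∩ S').Nonempty := by
    rw [← Finset.card_pos]
    have h1 := Finset.card_union_add_card_inter S S'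
    have h3 := Finset.card_le_card hsub
    have h4 := card_nv_image hne h2
    have h5 : 0 < (fixSet σ).card := Finset.card_pos.2 ⟨0, mem_fixSet.2 (map_zero σ)⟩
    rw [Finset.card_erase_of_mem (mem_fixSet.2 (map_zero σ))] at h3
    rw [← hS] at h4
    omega
  obtain ⟨hxS, hxT⟩ := Finset.mem_inter.1 hx
  obtain ⟨y, hy, hy'⟩ := Finset.mem_image.1 hxT
  obtain ⟨η, hη, rfl⟩ := Finset.mem_image.1 hxS
  obtain ⟨θ, hθ, rfl⟩ := Finset.mem_image.1 hy
  obtain ⟨hη1, hη⟩ := Finset.mem_erase.1 hη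
  obtain ⟨hθ1, hθ⟩ := Finset.mem_erase.1 hθ
  refine ⟨η, θ, mem_circle.1 hη, mem_circle.1 hθ, hη1, hθ1, ?_⟩
  field_simp at hy'
  linear_combination -hy'

variable (P : Quad σ f D e) {M : Subgroup (GL (Fin 4) F)} (hle : hGrp f D ≤ M)
include P hle

/-- A member with three coordinates one of which has an admissible value gives one of the standard shape. -/
theorem Quad.cls_key {x : Fin 4 → F} (hx : x ∈ cls σ f e M) {a b k l : Fin 4} (hab : a ≠ b) (hak : a ≠ k)
    (hal : a ≠ l) (hbk : b ≠ k) (hbl : b ≠ l) (hkl : k ≠ l) (hl : f x (e l) = 0) (ha : f x (e a) ≠ 0)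
    (hb : f x (e b) ≠ 0) {η : F} (hη : η * σ η = 1) (hk : nv σ η * (f x (e k) * σ (f x (e k))) = 1) :
    ∃ z ∈ cls σ f e M, f z (e l) = 0 ∧ f z (e k) * σ (f z (e k)) = 1 ∧ f z (e a) ≠ 0 ∧
      f z (e a) * σ (f z (e a)) + f z (e b) * σ (f z (e b)) = 0 := by
  have hf := P.unit
  have hma := mul_ne_zero ha ((RingEquiv.map_ne_zero_iff σ).2 ha)
  obtain ⟨θ, κ, hθ, hκ, hθ1, -, he⟩ := exists_nv_cancel hf.ne_refl hf.involutive hma
    (mul_ne_zero hb ((RingEquiv.map_ne_zero_iff σ).2 hb)) (P.norm_fixed x a) (P.norm_fixed x b)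
  obtain ⟨z, hz, za, zb, zk, zl⟩ := P.cls_step hle hx hab hak hal hbk hbl hkl hθ hκ hη
    (by rw [hk, he, zero_add])
  refine ⟨z, hz, zl, zk.trans hk, fun h => ?_, by rw [za, zb, he]⟩
  rw [h, zero_mul] at za
  exact mul_ne_zero (nv_ne_zero hθ1) hma za.symm

/-- From a member with two coordinates, one of the standard shape. -/
theorem Quad.cls_grow {x : Fin 4 → F} (hx : x ∈ cls σ f e M) {a b k l : Fin 4} (hab : a ≠ b) (hak : a ≠ k)
    (hal : a ≠ l) (hbk : b ≠ k) (hbl : b ≠ l) (hkl : k ≠ l) (ha : f x (e a) ≠ 0) (hb : f x (e b) ≠ 0)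
    (hk : f x (e k) = 0) (hl : f x (e l) = 0) :
    ∃ z ∈ cls σ f e M, f z (e l) = 0 ∧ f z (e k) * σ (f z (e k)) = 1 ∧ f z (e a) ≠ 0 ∧
      f z (e a) * σ (f z (e a)) + f z (e b) * σ (f z (e b)) = 0 := by
  classical
  have hf := P.unit
  obtain ⟨y, hy, hyc⟩ := P.cls_perm hle hx (Equiv.swap a b * Equiv.swap b k)
  have hyb : f y (e b) = f x (e a) := by
    have := hyc a
    rwa [Equiv.Perm.mul_apply, Equiv.swap_apply_of_ne_of_ne hab hak, Equiv.swap_apply_left] at this
  have hyk : f y (e k) = f x (e b) := by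
    have := hyc b
    rwa [Equiv.Perm.mul_apply, Equiv.swap_apply_left, Equiv.swap_apply_of_ne_of_ne hak.symm hbk.symm] at this
  have hya : f y (e a) = 0 := by
    have := hyc k
    rwa [Equiv.Perm.mul_apply, Equiv.swap_apply_right, Equiv.swap_apply_right, hk] at this
  have hyl : f y (e l) = 0 := by
    have := hyc l
    rwa [Equiv.Perm.mul_apply, Equiv.swap_apply_of_ne_of_ne hbl.symm hkl.symm,
      Equiv.swap_apply_of_ne_of_ne hal.symm hbl.symm, hl] at this
  set r := f x (e a) * σ (f x (e a)) with hr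
  set r' := f x (e b) * σ (f x (e b)) with hr'
  have hrr : r + r' = 1 := by
    have h4 := P.nrm_sum hx.1
    rw [sum_four _ hab hak hal hbk hbl hkl, hk, hl, zero_mul, add_zero, add_zero] at h4
    exact h4
  have hr0 : r ≠ 0 := mul_ne_zero ha ((RingEquiv.map_ne_zero_iff σ).2 ha)
  have hr'0 : r' ≠ 0 := mul_ne_zero hb ((RingEquiv.map_ne_zero_iff σ).2 hb)
  have hrf : σ r = r := P.norm_fixed x a
  have hKf : σ (1 / (r * r' * r')) = 1 / (r * r' * r') := by
    rw [map_div₀, map_one, map_mul, map_mul, hrf, P.norm_fixed x b]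
  obtain ⟨η, θ, hη, hθ, hη1, hθ1, hprod⟩ := exists_nv_mul hf.ne_refl hf.involutive hKf
    (div_ne_zero one_ne_zero (mul_ne_zero (mul_ne_zero hr0 hr'0) hr'0))
  have fin : ∀ {ε κ : F}, ε * σ ε = 1 → ε ≠ 1 → κ * σ κ = 1 → nv σ ε * nv σ κ = 1 / (r * r' * r') →
      1 + (ε - 1) * r ≠ 0 →
      ∃ z ∈ cls σ f e M, f z (e l) = 0 ∧ f z (e k) * σ (f z (e k)) = 1 ∧ f z (e a) ≠ 0 ∧
        f z (e a) * σ (f z (e a)) + f z (e b) * σ (f z (e b)) = 0 := by
    intro ε κ hε hε1 hκ hp hne
    set w := (rho f y ε : Matrix (Fin 4) (Fin 4) F) *ᵥ x with hw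
    have hQ : f x y = f x (e b) * σ (f x (e a)) := by
      rw [P.form_coord, sum_four _ hab hak hal hbk hbl hkl, hya, hyb, hk, hl]
      simp
    have hwc : ∀ i, f w (e i) = f x (e i) + (ε - 1) * (f x (e b) * σ (f x (e a))) * f y (e i) := fun i => by
      rw [hw, rho_mulVec hf hy.1 hε, Unit.add_left hf, Unit.smul_left hf, hQ]
    refine P.cls_key hle (P.cls_rho hle hx hy hl hyl hε) hab hak hal hbk hbl hkl ?_ ?_ ?_ hκ ?_
    · rw [hwc, hl, hyl]; ring
    · rw [hwc, hya, mul_zero, add_zero]; exact ha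
    · rw [hwc, hyb]
      intro h
      exact mul_ne_zero hb hne (by rw [hr]; linear_combination h)
    · rw [hwc, hk, hyk, zero_add, map_mul, map_mul, map_mul, hf.involutive, map_sub, map_one]
      have e1 : (ε - 1) * (σ ε - 1) = nv σ ε := by rw [nv, map_sub, map_one]; ring
      have e2 : nv σ ε * nv σ κ * (r * r' * r') = 1 := by
        rw [hp, div_mul_cancel₀ _ (mul_ne_zero (mul_ne_zero hr0 hr'0) hr'0)]
      simp only [hr, hr'] at e2
      linear_combination e2 + (nv σ κ * (f x (e a) * σ (f x (e a)) * (f x (e b) * σ (f x (e b))) *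
        (f x (e b) * σ (f x (e b))))) * e1
  by_cases h1 : 1 + (η - 1) * r = 0
  swap
  · exact fin hη hη1 hθ hprod h1
  by_cases h2 : 1 + (θ - 1) * r = 0
  swap
  · exact fin hθ hθ1 hη (by rw [mul_comm, hprod]) h2
  exfalso
  have hm1 : ∀ ε : F, ε * σ ε = 1 → ε ≠ 1 → 1 + (ε - 1) * r = 0 → ε = -1 := fun ε hε hε1 h => by
    have h' := congrArg σ h
    rw [map_add, map_one, map_mul, map_sub, map_one, hrf, map_zero] at h'
    have hreal : σ ε = ε := mul_right_cancel₀ hr0 (by linear_combination h' - h)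
    rw [hreal] at hε
    exact (mul_self_eq_one_iff.1 hε).resolve_left hε1
  rw [hm1 η hη hη1 h1, hm1 θ hθ hθ1 h2, nv, map_sub, map_one, map_neg, map_one] at hprod
  rw [hm1 η hη hη1 h1] at h1
  have hr2 : r' = r := by linear_combination hrr + h1
  rw [hr2, eq_div_iff (mul_ne_zero (mul_ne_zero hr0 hr0) hr0)] at hprod
  exact one_ne_zero (show (1 : F) = 0 by linear_combination hprod + 2 * (4 * r * r + 2 * r + 1) * h1)

/-- From a member with two coordinates or more, one of the standard shape. -/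
theorem Quad.cls_std {x : Fin 4 → F} (hx : x ∈ cls σ f e M) {a b : Fin 4} (hab : a ≠ b) (ha : f x (e a) ≠ 0)
    (hb : f x (e b) ≠ 0) :
    ∃ z ∈ cls σ f e M, ∃ a b k l, a ≠ b ∧ a ≠ k ∧ a ≠ l ∧ b ≠ k ∧ b ≠ l ∧ k ≠ l ∧ f z (e l) = 0 ∧
      f z (e k) * σ (f z (e k)) = 1 ∧ f z (e a) ≠ 0 ∧
      f z (e a) * σ (f z (e a)) + f z (e b) * σ (f z (e b)) = 0 := by
  classical
  have hf := P.unit
  obtain ⟨d, hd⟩ := hx.2.2
  have hda : a ≠ d := fun h => ha (h ▸ hd)
  have hdb : b ≠ d := fun h => hb (h ▸ hd)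
  obtain ⟨c, hca, hcb, hcd⟩ := exists_fourth a b d
  have hac := hca.symm
  have hbc := hcb.symm
  by_cases hc : f x (e c) = 0
  · obtain ⟨z, hz, h⟩ := P.cls_grow hle hx hab hac hda hbc hdb hcd ha hb hc hd
    exact ⟨z, hz, a, b, c, d, hab, hac, hda, hbc, hdb, hcd, h⟩
  by_cases hA : ∃ η, η * σ η = 1 ∧ nv σ η * (f x (e a) * σ (f x (e a))) = 1
  · obtain ⟨η, hη, h1⟩ := hA
    obtain ⟨z, hz, h⟩ := P.cls_key hle hx hbc hab.symm hdb hca hcd hda hd hb hc hη h1
    exact ⟨z, hz, b, c, a, d, hbc, hab.symm, hdb, hca, hcd, hda, h⟩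
  by_cases hB : ∃ η, η * σ η = 1 ∧ nv σ η * (f x (e b) * σ (f x (e b))) = 1
  · obtain ⟨η, hη, h1⟩ := hB
    obtain ⟨z, hz, h⟩ := P.cls_key hle hx hac hab hda hcb hcd hdb hd ha hc hη h1
    exact ⟨z, hz, a, c, b, d, hac, hab, hda, hcb, hcd, hdb, h⟩
  push Not at hA hB
  have hma := mul_ne_zero ha ((RingEquiv.map_ne_zero_iff σ).2 ha)
  have hmb := mul_ne_zero hb ((RingEquiv.map_ne_zero_iff σ).2 hb)
  obtain ⟨η, θ, hη, hθ, he⟩ := exists_two_nv hf.ne_refl hf.involutive hma hmb (P.norm_fixed x a)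
    (P.norm_fixed x b) (map_one σ)
  have hη1 : η ≠ 1 := fun h => hB θ hθ (by rw [h, nv_one, mul_zero, zero_add] at he; rw [mul_comm, he])
  have hθ1 : θ ≠ 1 := fun h => hA η hη (by rw [h, nv_one, mul_zero, add_zero] at he; rw [mul_comm, he])
  obtain ⟨y, hy, ya, yb, yc, yd⟩ := P.cls_step hle hx hab hac hda hbc hdb hcd hη hθ (κ := 1) (by simp)
    (by rw [nv_one, zero_mul, add_zero]; linear_combination he)
  rw [nv_one, zero_mul] at yc
  have hyc : f y (e c) = 0 := (mul_eq_zero.1 yc).elim id fun h => (RingEquiv.map_eq_zero_iff σ).1 h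
  have hya : f y (e a) ≠ 0 := fun h => mul_ne_zero (nv_ne_zero hη1) hma (by rw [← ya, h, zero_mul])
  have hyb : f y (e b) ≠ 0 := fun h => mul_ne_zero (nv_ne_zero hθ1) hmb (by rw [← yb, h, zero_mul])
  obtain ⟨z, hz, h⟩ := P.cls_grow hle hy hab hac hda hbc hdb hcd hya hyb hyc yd
  exact ⟨z, hz, a, b, c, d, hab, hac, hda, hbc, hdb, hcd, h⟩

/-- An isotropic vector with a class partner and all its translates in the class is a centre. -/
theorem Quad.cen_cls {u x : Fin 4 → F} (hu : f u u = 0) (hx : x ∈ cls σ f e M) (hux : f u x = 0)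
    (hall : ∀ κ, κ * σ κ = 1 → κ • x + u ∈ cls σ f e M) : u ∈ Cen σ f M := by
  classical
  have hf := P.unit
  obtain ⟨κ, hκ, hκr⟩ := exists_nonreal hf.ne_refl hf.involutive
  have hκx : κ • x ∈ cls σ f e M := P.cls_phase hle hx fun a => by
    rw [Unit.smul_left hf, map_mul]
    linear_combination (f x (e a) * σ (f x (e a))) * hκ
  have h1x : x + u ∈ cls σ f e M := by have := hall 1 (by simp); rwa [one_smul] at this
  set s := σ κ - κ with hs
  have hs0 : s ≠ 0 := sub_ne_zero.2 hκr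
  have hss : s + σ s = 0 := by rw [hs, map_sub, hf.involutive]; ring
  -- the commutators
  have hval : ∀ ε, ε * σ ε = 1 → formTv f u (nv σ ε * s) ∈ M := fun ε hε => by
    have h1 := P.cls_duo hle h1x hx hε
    rw [duo_eq_root hf hx.1 hu (Unit.eq_zero_comm hf hux) hε] at h1
    have h3 := P.cls_duo hle (hall κ hκ) hκx hε
    rw [duo_eq_root hf hκx.1 hu (by rw [Unit.smul_left hf, Unit.eq_zero_comm hf hux, mul_zero]) hε,
      smul_comm] at h3
    set w := (ε - 1) • x with hw
    have huw : f u w = 0 := by rw [hw, Unit.smul_right hf, hux, mul_zero]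
    have hκw : f u (κ • w) = 0 := by rw [Unit.smul_right hf, huw, mul_zero]
    have hsum : f u (w + κ • w) = 0 := by rw [Unit.add_right hf, huw, hκw, add_zero]
    have hN : f w w = nv σ ε := by
      rw [hw, Unit.smul_left hf, Unit.smul_right hf, hx.1, nv, map_sub, map_sub, map_one]
      ring
    have e1 : f (κ • w) w = κ * f w w := Unit.smul_left hf κ w w
    have e2 : f w (κ • w) = σ κ * f w w := Unit.smul_right hf κ w w
    have key : UnitOrth.root f u w (ε - 1) * UnitOrth.root f u (κ • w) (ε - 1) =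
        formTv f u (nv σ ε * s) * (UnitOrth.root f u (κ • w) (ε - 1) * UnitOrth.root f u w (ε - 1)) := by
      rw [UnitOrth.root_mul hf hu huw hκw, UnitOrth.root_mul hf hu hκw huw, ← UnitOrth.root_zero hf hu,
        UnitOrth.root_mul hf hu (Unit.zero_right hf u) (by rw [add_comm]; exact hsum), zero_add,
        Unit.zero_right hf, sub_zero, e1, e2, add_comm (κ • w)]
      congr 1
      rw [← hN, hs]
      ring
    have h4 := M.mul_mem (M.mul_mem h1 h3) (M.inv_mem (M.mul_mem h3 h1))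
    rwa [key, mul_inv_cancel_right] at h4
  have hadd : ∀ c c' : F, formTv f u c * formTv f u c' = formTv f u (c + c') := fun c c' => by
    rw [← UnitOrth.root_zero hf hu, ← UnitOrth.root_zero hf hu,
      UnitOrth.root_mul hf hu (Unit.zero_right hf u) (Unit.zero_right hf u), ← UnitOrth.root_zero hf hu,
      add_zero, Unit.zero_right hf, sub_zero]
  have hzero : formTv f u 0 = 1 := gl_ext fun v => by rw [Unit.formTv_mulVec hf hu]; simp
  let R : AddSubgroup F :=
    { carrier := {r | σ r = r ∧ formTv f u (r * s) ∈ M}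
      zero_mem' := ⟨map_zero σ, by rw [zero_mul, hzero]; exact M.one_mem⟩
      add_mem' := fun {a b} ha hb => ⟨by rw [map_add, ha.1, hb.1], by
        rw [add_mul, ← hadd]; exact M.mul_mem ha.2 hb.2⟩
      neg_mem' := fun {a} ha => ⟨by rw [map_neg, ha.1], by
        have h := M.inv_mem ha.2
        rwa [inv_eq_of_mul_eq_one_right (show formTv f u (a * s) * formTv f u (-a * s) = 1 by
          rw [hadd, ← add_mul, add_neg_cancel, zero_mul, hzero])] at h⟩ }
  let K : AddSubgroup F :=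
    { carrier := {r | σ r = r}
      zero_mem' := map_zero σ
      add_mem' := fun {a b} (ha : σ a = a) (hb : σ b = b) => by
        show σ (a + b) = a + b
        rw [map_add, ha, hb]
      neg_mem' := fun {a} (ha : σ a = a) => by
        show σ (-a) = -a
        rw [map_neg, ha] }
  have hRK : R ≤ K := fun r hr => hr.1
  have hKc : Nat.card K = (fixSet σ).card := by
    exact Nat.subtype_card (fixSet σ) fun r => mem_fixSet
  have hRc : (((circle σ).erase 1).image (nv σ)).card + 1 ≤ Nat.card R := by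
    set S := ((circle σ).erase 1).image (nv σ) with hS
    have h0 : (0 : F) ∉ S := fun h => by
      obtain ⟨η, hη, h'⟩ := Finset.mem_image.1 h
      exact nv_ne_zero (Finset.mem_erase.1 hη).1 h'
    rw [← Finset.card_insert_of_notMem h0, ← Nat.card_eq_finsetCard]
    refine Nat.card_mono (Set.toFinite _) ?_
    intro r hr
    rw [Finset.mem_coe, Finset.mem_insert] at hr
    rcases hr with rfl | hr
    · exact R.zero_mem
    obtain ⟨η, hη, rfl⟩ := Finset.mem_image.1 hr
    exact ⟨nv_fixed hf.involutive η, hval η (mem_circle.1 (Finset.mem_erase.1 hη).2)⟩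
  have heq : R = K := by
    refine AddSubgroup.eq_of_le_of_card_ge hRK ?_
    obtain ⟨t, ht⟩ := AddSubgroup.card_dvd_of_le hRK
    have h4 := card_nv_image hf.ne_refl hf.involutive
    have hpos : 0 < Nat.card K := Nat.card_pos
    rcases Nat.lt_or_ge t 2 with h | h
    · interval_cases t <;> simp_all
    · have := Nat.mul_le_mul_left (Nat.card R) h
      rw [← ht] at this
      omega
  refine ⟨hu, fun c hc => ?_⟩
  have hmem : c / s ∈ R := by
    rw [heq]
    show σ (c / s) = c / s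
    rw [map_div₀, eq_neg_of_add_eq_zero_right hc, eq_neg_of_add_eq_zero_right hss, neg_div_neg_eq]
  have := hmem.2
  rwa [div_mul_cancel₀ _ hs0] at this

/-- Isotropic vectors with two coordinates are centres once a member has the standard shape. -/
theorem Quad.cen_pair {z : Fin 4 → F} (hz : z ∈ cls σ f e M) {a b k l : Fin 4} (hab : a ≠ b) (hak : a ≠ k)
    (hal : a ≠ l) (hbk : b ≠ k) (hbl : b ≠ l) (hkl : k ≠ l) (hzl : f z (e l) = 0)
    (hzk : f z (e k) * σ (f z (e k)) = 1) (hza : f z (e a) ≠ 0)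
    (hzs : f z (e a) * σ (f z (e a)) + f z (e b) * σ (f z (e b)) = 0) :
    ∀ v, f v v = 0 → (∃ p r, p ≠ r ∧ ∀ i, i ≠ p → i ≠ r → f v (e i) = 0) → v ∈ Cen σ f M := by
  classical
  have hf := P.unit
  have hzb : f z (e b) ≠ 0 := fun h => by
    rw [h, zero_mul, add_zero] at hzs
    exact mul_ne_zero hza ((RingEquiv.map_ne_zero_iff σ).2 hza) hzs
  set u := z - f z (e k) • e k with hu
  have huc : ∀ i, f u (e i) = if i = k then 0 else f z (e i) := fun i => by
    rw [hu, Unit.sub_left hf, Unit.smul_left hf, P.form_e]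
    by_cases hik : i = k
    · subst hik; simp
    · rw [if_neg (Ne.symm hik), if_neg hik, mul_zero, sub_zero]
  have hua : f u (e a) = f z (e a) := by rw [huc, if_neg hak]
  have hub : f u (e b) = f z (e b) := by rw [huc, if_neg hbk]
  have hul : f u (e l) = 0 := by rw [huc, if_neg hkl.symm, hzl]
  have huk : f u (e k) = 0 := by rw [huc, if_pos rfl]
  have huu : f u u = 0 := by
    rw [P.form_coord, sum_four _ hab hak hal hbk hbl hkl, hua, hub, huk, hul]
    simp only [zero_mul, add_zero, hzs]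
  have hu0 : u ∈ Cen σ f M := by
    refine P.cen_cls hle huu (P.cls_frame hle k) huk fun κ hκ => P.cls_phase hle hz fun i => ?_
    rw [Unit.add_left hf, Unit.smul_left hf, P.form_e, huc]
    by_cases hik : i = k
    · subst hik; rw [if_pos rfl, if_pos rfl, mul_one, add_zero, hκ, hzk]
    · rw [if_neg (Ne.symm hik), if_neg hik, mul_zero, zero_add]
  rintro v hv ⟨p, r, hpr, hout⟩
  by_cases hp : f v (e p) = 0
  · have hv0 : v = 0 := P.ext fun i => by
      rw [Unit.zero_left hf]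
      by_cases hip : i = p
      · subst hip; exact hp
      by_cases hir : i = r
      · subst hir
        rw [P.form_coord, Finset.sum_eq_single i (fun j _ hj => ?_) (fun h => absurd (Finset.mem_univ i) h)] at hv
        · exact (mul_eq_zero.1 hv).elim id fun h => (RingEquiv.map_eq_zero_iff σ).1 h
        · by_cases hjp : j = p
          · subst hjp; rw [hp, zero_mul]
          · rw [hout j hjp hj, zero_mul]
      exact hout i hip hir
    rw [hv0]
    exact cen_zero hf M
  obtain ⟨k', l', hpk, hpl, hrk, hrl, hkl'⟩ := exists_others p r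
  obtain ⟨π, hπa, hπb, hπk, hπl⟩ : ∃ π : Equiv.Perm (Fin 4), π a = p ∧ π b = r ∧
      π k ≠ p ∧ π k ≠ r ∧ π l ≠ π k := by
    let π₁ := Equiv.swap a p
    let π₂ := Equiv.swap (π₁ b) r
    have h1 : π₁ a = p := Equiv.swap_apply_left a p
    have hne : π₁ b ≠ p := fun h => hab (π₁.injective (h1.trans h.symm))
    have hA : (π₂ * π₁) a = p := by
      rw [Equiv.Perm.mul_apply, h1, Equiv.swap_apply_of_ne_of_ne hne.symm hpr]
    have hB : (π₂ * π₁) b = r := by rw [Equiv.Perm.mul_apply, Equiv.swap_apply_left]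
    exact ⟨π₂ * π₁, hA, hB, fun h => hak.symm ((π₂ * π₁).injective (h.trans hA.symm)),
      fun h => hbk.symm ((π₂ * π₁).injective (h.trans hB.symm)), fun h => hkl.symm ((π₂ * π₁).injective h)⟩
  obtain ⟨g, hgi, hgs, hgd, hgm⟩ := P.exists_perm π
  have hgm' : ∀ i, (g : Matrix (Fin 4) (Fin 4) F) *ᵥ e i = (1 : F) • e (π i) := fun i => by rw [one_smul, hgm]
  obtain ⟨d, hd, hdg, hdfix⟩ := P.det_fix hgi hgs hgd (π l)
  have hgu : f ((g : Matrix (Fin 4) (Fin 4) F) *ᵥ u) (e (π l)) = 0 := by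
    rw [P.mono_coord hgi (hgm' l) (by simp), hul, mul_zero]
  have hc1 := cen_map hf (hle hdg) ((isoGroup f).mul_mem hd hgi) hu0
  rw [gl_mul_mulVec, hdfix _ hgu] at hc1
  set w := (g : Matrix (Fin 4) (Fin 4) F) *ᵥ u with hw
  have hwc : ∀ i, f w (e (π i)) = f u (e i) := fun i => by rw [hw, P.mono_coord hgi (hgm' i) (by simp), one_mul]
  have hwp : f w (e p) = f z (e a) := by rw [← hπa, hwc, hua]
  have hwr : f w (e r) = f z (e b) := by rw [← hπb, hwc, hub]
  have hwo : ∀ i, i ≠ p → i ≠ r → f w (e i) = 0 := fun i hip hir => by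
    obtain ⟨j, rfl⟩ := π.surjective i
    rw [hwc, huc]
    split_ifs with hjk
    · rfl
    · rcases (show j = a ∨ j = b ∨ j = l by
        have h4 : ∀ j a b k l : Fin 4, a ≠ b → a ≠ k → a ≠ l → b ≠ k → b ≠ l → k ≠ l → j ≠ k →
            j = a ∨ j = b ∨ j = l := by decide
        exact h4 j a b k l hab hak hal hbk hbl hkl hjk) with rfl | rfl | rfl
      · exact absurd hπa hip
      · exact absurd hπb hir
      · exact hzl
  have hvr : f v (e r) ≠ 0 := fun h => by
    rw [P.form_coord, Finset.sum_eq_single p (fun j _ hj => ?_) (fun h => absurd (Finset.mem_univ p) h)] at hv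
    · exact mul_ne_zero hp ((RingEquiv.map_ne_zero_iff σ).2 hp) hv
    · by_cases hjr : j = r
      · subst hjr; rw [h, zero_mul]
      · rw [hout j hj hjr, zero_mul]
  have hvs : f v (e p) * σ (f v (e p)) + f v (e r) * σ (f v (e r)) = 0 := by
    rw [P.form_coord, sum_four _ hpr hpk hpl hrk hrl hkl', hout k' hpk.symm hrk.symm,
      hout l' hpl.symm hrl.symm] at hv
    simpa using hv
  have hzas := mul_ne_zero hza ((RingEquiv.map_ne_zero_iff σ).2 hza)
  set t := f v (e r) / f z (e b) with ht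
  set c := f v (e p) / (t * f z (e a)) with hc
  have ht0 : t ≠ 0 := div_ne_zero hvr hzb
  have hcn : c * σ c = 1 := by
    have hσb : σ (f z (e b)) ≠ 0 := (RingEquiv.map_ne_zero_iff σ).2 hzb
    have hσa : σ (f z (e a)) ≠ 0 := (RingEquiv.map_ne_zero_iff σ).2 hza
    have hσr : σ (f v (e r)) ≠ 0 := (RingEquiv.map_ne_zero_iff σ).2 hvr
    rw [hc, ht, map_div₀, map_mul, map_div₀]
    field_simp
    linear_combination (f z (e b) * σ (f z (e b))) * hvs - (f v (e r) * σ (f v (e r))) * hzs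
  obtain ⟨η, hη⟩ : ∃ η : Fin 4 → F, η = fun i => if i = p then c else if i = k' then σ c else 1 := ⟨_, rfl⟩
  obtain ⟨h, hh, hhi, hhv⟩ := P.exists_diag_one η (fun i => by
    rw [hη]; dsimp only; split_ifs; exacts [hcn, norm_conj hf hcn, by simp]) (μ := 1) (by simp) (by
    rw [prod_four _ hpr hpk hpl hrk hrl hkl', hη]
    simp only [if_pos, if_neg hpr.symm, if_neg hpk.symm, if_neg hpl.symm, if_neg hrk, if_neg hrl,
      if_neg hkl'.symm]
    linear_combination hcn)
  have := cen_smul hf (cen_map hf (hle hh) hhi hc1) t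
  convert this using 1
  refine P.ext fun i => ?_
  rw [Unit.smul_left hf, hhv, one_mul, hη]
  dsimp only
  by_cases hip : i = p
  · subst hip
    rw [if_pos rfl, hwp, hc]
    field_simp
  by_cases hir : i = r
  · subst hir
    rw [if_neg hip, if_neg hrk, hwr, ht]
    field_simp
  rw [hwo i hip hir, hout i hip hir, mul_zero, mul_zero]

/-- The plane of two frame vectors. -/
theorem Quad.planes {p r k j : Fin 4} (hpr : p ≠ r) (hpk : p ≠ k) (hpj : p ≠ j) (hrk : r ≠ k) (hrj : r ≠ j)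
    (hkj : k ≠ j) : Planes σ f (D p ⊔ D r) (D k ⊔ D j) ∧
      (∀ v, v ∈ D p ⊔ D r ↔ f v (e k) = 0 ∧ f v (e j) = 0) := by
  have hf := P.unit
  have hmem : ∀ p r k j : Fin 4, p ≠ r → p ≠ k → p ≠ j → r ≠ k → r ≠ j → k ≠ j →
      ∀ v, v ∈ D p ⊔ D r ↔ f v (e k) = 0 ∧ f v (e j) = 0 := by
    intro p r k j hpr hpk hpj hrk hrj hkj v
    constructor
    · intro hv
      obtain ⟨x, hx, y, hy, rfl⟩ := Submodule.mem_sup.1 hv
      rw [P.line p] at hx
      rw [P.line r] at hy
      obtain ⟨α, rfl⟩ := Submodule.mem_span_singleton.1 hx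
      obtain ⟨β, rfl⟩ := Submodule.mem_span_singleton.1 hy
      constructor <;> simp [Unit.add_left hf, Unit.smul_left hf, P.orth, hpk, hpj, hrk, hrj]
    · rintro ⟨h1, h2⟩
      have h := P.expand v
      rw [sum_four _ hpr hpk hpj hrk hrj hkj, h1, h2, zero_smul, zero_smul, add_zero, add_zero] at h
      rw [← h]
      exact Submodule.add_mem_sup ((D p).smul_mem _ (P.mem p)) ((D r).smul_mem _ (P.mem r))
  have hnd : ∀ p r k j : Fin 4, p ≠ r → p ≠ k → p ≠ j → r ≠ k → r ≠ j → k ≠ j →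
      Cfsg.Geo.IsNondegenerateOn f (D p ⊔ D r) := by
    intro p r k j hpr hpk hpj hrk hrj hkj v hv hv0
    obtain ⟨h1, h2⟩ := (hmem p r k j hpr hpk hpj hrk hrj hkj v).1 hv
    obtain ⟨i, hi, hvi⟩ : ∃ i, e i ∈ D p ⊔ D r ∧ f v (e i) ≠ 0 := by
      by_contra! hcon
      refine hv0 ?_
      rw [← P.expand v, sum_four _ hpr hpk hpj hrk hrj hkj, h1, h2,
        hcon p (Submodule.mem_sup_left (P.mem p)), hcon r (Submodule.mem_sup_right (P.mem r))]
      simp
    exact ⟨⟨e i, hi, Unit.ne_zero_comm hf hvi⟩, ⟨e i, hi, hvi⟩⟩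
  have hrank : ∀ p r : Fin 4, p ≠ r → Module.finrank F ↥(D p ⊔ D r) = 2 := by
    intro p r hpr
    have h := Submodule.finrank_sup_add_finrank_inf_eq (D p) (D r)
    rw [P.nd.decomp.finrank_eq, P.nd.decomp.finrank_eq, show D p ⊓ D r = ⊥ from (Submodule.eq_bot_iff _).2 fun v hv => ?_,
      finrank_bot, add_zero] at h
    · exact h
    · have h1 := hv.1
      rw [P.line p] at h1
      obtain ⟨α, rfl⟩ := Submodule.mem_span_singleton.1 h1
      have h2 := P.nd.orthogonal r p hpr.symm _ hv.2 _ (P.mem p)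
      rw [Unit.smul_left hf, P.norm, mul_one] at h2
      rw [h2, zero_smul]
  refine ⟨⟨hf, fun x hx y hy => ?_, hnd p r k j hpr hpk hpj hrk hrj hkj,
    hnd k j p r hkj hpk.symm hrk.symm hpj.symm hrj.symm hpr, hrank p r hpr, hrank k j hkj, fun v => ?_⟩,
    hmem p r k j hpr hpk hpj hrk hrj hkj⟩
  · obtain ⟨h1, h2⟩ := (hmem p r k j hpr hpk hpj hrk hrj hkj x).1 hx
    obtain ⟨h3, h4⟩ := (hmem k j p r hkj hpk.symm hrk.symm hpj.symm hrj.symm hpr y).1 hy
    rw [P.form_coord, sum_four _ hpr hpk hpj hrk hrj hkj, h1, h2, h3, h4]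
    simp
  · refine ⟨f v (e p) • e p + f v (e r) • e r, Submodule.add_mem_sup ((D p).smul_mem _ (P.mem p))
      ((D r).smul_mem _ (P.mem r)), f v (e k) • e k + f v (e j) • e j,
      Submodule.add_mem_sup ((D k).smul_mem _ (P.mem k)) ((D j).smul_mem _ (P.mem j)), ?_⟩
    conv_rhs => rw [← P.expand v, sum_four _ hpr hpk hpj hrk hrj hkj]
    abel

/-- A unit vector of a plane is moved to the frame by transvections in the plane. -/
theorem Quad.plane_move {p r : Fin 4} (hpr : p ≠ r) (hcen : ∀ v ∈ D p ⊔ D r, f v v = 0 → v ∈ Cen σ f M)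
    {x : Fin 4 → F} (hx : x ∈ D p ⊔ D r) (hxx : f x x = 1) :
    ∃ h ∈ M, h ∈ kGrp f ∧ (∀ y, f y (e p) = 0 → f y (e r) = 0 → (h : Matrix (Fin 4) (Fin 4) F) *ᵥ y = y) ∧
      (h : Matrix (Fin 4) (Fin 4) F) *ᵥ x = e p := by
  have hf := P.unit
  obtain ⟨k, j, hpk, hpj, hrk, hrj, hkj⟩ := exists_others p r
  obtain ⟨-, hmem⟩ := P.planes hle hpr hpk hpj hrk hrj hkj
  have hpp : e p ∈ D p ⊔ D r := Submodule.mem_sup_left (P.mem p)
  have hrr : e r ∈ D p ⊔ D r := Submodule.mem_sup_right (P.mem r)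
  have step : ∀ {x y : Fin 4 → F}, x ∈ D p ⊔ D r → y ∈ D p ⊔ D r → f x x = 1 → f y y = 1 →
      f x y + σ (f x y) = 2 →
      ∃ h ∈ M, h ∈ kGrp f ∧ (∀ y, f y (e p) = 0 → f y (e r) = 0 → (h : Matrix (Fin 4) (Fin 4) F) *ᵥ y = y) ∧
        (h : Matrix (Fin 4) (Fin 4) F) *ᵥ x = y := by
    intro x y hx hy hxx hyy ht
    have hv := (D p ⊔ D r).sub_mem hy hx
    have hvv : f (y - x) (y - x) = 0 := by
      simp only [Unit.sub_left hf, Unit.sub_right hf, hxx, hyy, ← Unit.conj_form hf x y]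
      linear_combination -ht
    have hfix : ∀ (c : F) (w : Fin 4 → F), f w (e p) = 0 → f w (e r) = 0 →
        (formTv f (y - x) c : Matrix (Fin 4) (Fin 4) F) *ᵥ w = w := fun c w h1 h2 => by
      obtain ⟨h3, h4⟩ := (hmem _).1 hv
      rw [Unit.formTv_mulVec hf hvv, P.form_coord w (y - x), sum_four _ hpr hpk hpj hrk hrj hkj, h1, h2, h3, h4]
      simp
    by_cases hd : f x (y - x) = 0
    · refine ⟨1, M.one_mem, (kGrp f).one_mem, fun _ _ _ => by simp, ?_⟩
      rw [Units.val_one, one_mulVec]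
      obtain ⟨h1, h2⟩ := (hmem _).1 hx
      obtain ⟨h3, h4⟩ := (hmem _).1 hv
      by_contra hne
      set v := y - x with hvdef
      rw [P.form_coord, sum_four _ hpr hpk hpj hrk hrj hkj, h1, h2] at hd hxx
      rw [P.form_coord, sum_four _ hpr hpk hpj hrk hrj hkj, h3, h4] at hvv
      simp only [zero_mul, add_zero] at hd hxx hvv
      have e1 : f v (e p) * σ (f v (e p)) * 1 = 0 := by
        have hd' := congrArg σ hd
        simp only [map_add, map_mul, hf.involutive, map_zero] at hd'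
        linear_combination (-(f v (e p) * σ (f v (e p)))) * hxx + (f x (e p) * σ (f v (e p))) * hd'
          + (f x (e r) * σ (f x (e r))) * hvv - (σ (f x (e r)) * f v (e r)) * hd
      rw [mul_one] at e1
      have e2 : f v (e p) = 0 := (mul_eq_zero.1 e1).elim id fun h => (RingEquiv.map_eq_zero_iff σ).1 h
      rw [e2, zero_mul, zero_add] at hvv
      have e3 : f v (e r) = 0 := (mul_eq_zero.1 hvv).elim id fun h => (RingEquiv.map_eq_zero_iff σ).1 h
      have hv0 : v = 0 := by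
        rw [← P.expand v, sum_four _ hpr hpk hpj hrk hrj hkj, e2, e3, h3, h4]
        simp
      exact hne (sub_eq_zero.1 (hvdef ▸ hv0)).symm
    set d := f x (y - x) with hdd
    have hc : d⁻¹ + σ d⁻¹ = 0 := by
      have h : σ d = -d := by
        rw [hdd, Unit.sub_right hf, hxx, map_sub, map_one]
        linear_combination ht
      rw [map_inv₀, h, inv_neg, add_neg_cancel]
    refine ⟨formTv f (y - x) d⁻¹, (hcen _ hv hvv).2 _ hc, formTv_iso hf hvv hc, hfix _, ?_⟩
    rw [Unit.formTv_mulVec hf hvv, ← hdd, inv_mul_cancel₀ hd, one_smul, add_sub_cancel]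
  set x0 := f x (e p) with hx0
  set x1 := f x (e r) with hx1
  have hxe : f x (e p) + σ (f x (e p)) = x0 + σ x0 := rfl
  by_cases ht : x0 + σ x0 = 2
  · exact step hx hpp hxx (P.norm p) ht
  by_cases hx10 : x1 = 0
  · -- a scalar multiple of the frame vector
    obtain ⟨w0, hw0⟩ : ∃ w0 : F, w0 * σ w0 = -1 :=
      Unit.exists_norm hf.ne_refl hf.involutive (by rw [map_neg, map_one])
    obtain ⟨hk0, hj0⟩ := (hmem x).1 hx
    have hxp : x = x0 • e p := by
      conv_lhs => rw [← P.expand x, sum_four _ hpr hpk hpj hrk hrj hkj]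
      rw [← hx1, hx10, hk0, hj0]
      simp [← hx0]
    have hN : x0 * σ x0 = 1 := by
      rw [hxp, Unit.smul_left hf, Unit.smul_right hf, P.norm, mul_one] at hxx
      exact hxx
    have hx0r : σ x0 - x0 ≠ 0 ∨ x0 = -1 := by
      by_cases h : σ x0 - x0 = 0
      · right
        rw [sub_eq_zero.1 h] at hN ht
        rcases mul_self_eq_one_iff.1 hN with h1 | h1
        · exact absurd (by rw [h1]; ring) ht
        · exact h1
      · exact Or.inl h
    rcases hx0r with hB | hm
    · -- one intermediate vector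
      set δ := (2 - (x0 + σ x0)) / (σ x0 - x0) with hδ
      have hδs : σ δ = -δ := by
        rw [hδ, map_div₀, map_sub, map_sub, map_add, hf.involutive, map_ofNat, add_comm, ← div_neg, neg_sub]
      set y := (1 + δ) • e p + (δ * w0) • e r with hy
      have hy' : y ∈ D p ⊔ D r := Submodule.add_mem_sup ((D p).smul_mem _ (P.mem p)) ((D r).smul_mem _ (P.mem r))
      have hyy : f y y = 1 := by
        simp only [hy, Unit.add_left hf, Unit.add_right hf, Unit.smul_left hf, Unit.smul_right hf, P.norm,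
          P.orth hpr, P.orth hpr.symm, map_add, map_one, map_mul, hδs]
        linear_combination (-(δ * δ)) * hw0
      obtain ⟨h₁, hm₁, hk₁, hf₁, he₁⟩ := step hx hy' hxx hyy (by
        rw [hxp, hy]
        simp only [Unit.add_right hf, Unit.smul_left hf, Unit.smul_right hf, P.norm, P.orth hpr, map_add, map_one,
          map_mul, map_zero, hδs, mul_zero, add_zero, mul_one, hf.involutive, map_neg]
        have : δ * (σ x0 - x0) = 2 - (x0 + σ x0) := div_mul_cancel₀ _ hB
        linear_combination this)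
      obtain ⟨h₂, hm₂, hk₂, hf₂, he₂⟩ := step hy' hpp hyy (P.norm p) (by
        simp only [hy, Unit.add_left hf, Unit.smul_left hf, P.norm, P.orth hpr.symm, map_add, map_one, map_mul,
          map_zero, hδs, mul_zero, add_zero, mul_one]
        ring)
      exact ⟨h₂ * h₁, M.mul_mem hm₂ hm₁, (kGrp f).mul_mem hk₂ hk₁,
        fun v h1 h2 => by rw [gl_mul_mulVec, hf₁ v h1 h2, hf₂ v h1 h2], by rw [gl_mul_mulVec, he₁, he₂]⟩
    · -- minus one: a diagonal element
      obtain ⟨g, hg, hgi, hgv⟩ := P.exists_diag_one (fun i => if i = p ∨ i = r then -1 else 1)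
        (fun i => by split_ifs <;> simp) (μ := 1) (by simp) (by
          rw [prod_four _ hpr hpk hpj hrk hrj hkj]
          simp [hpk.symm, hpj.symm, hrk.symm, hrj.symm])
      refine ⟨g, hle hg, hg.2, fun v h1 h2 => P.ext fun i => ?_, P.ext fun i => ?_⟩
      · rw [hgv]
        by_cases hi : i = p ∨ i = r
        · rw [if_pos hi]
          rcases hi with rfl | rfl
          · rw [h1, mul_zero]
          · rw [h2, mul_zero]
        · rw [if_neg hi, mul_one, one_mul]
      · rw [hgv, hxp, hm, Unit.smul_left hf, P.form_e]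
        by_cases hi : p = i
        · subst hi; rw [if_pos (Or.inl rfl), if_pos rfl]; ring
        · rw [if_neg hi, mul_zero, mul_zero]
  obtain ⟨w0, hw0⟩ : ∃ w0 : F, w0 * σ w0 = -1 :=
    Unit.exists_norm hf.ne_refl hf.involutive (by rw [map_neg, map_one])
  obtain ⟨θ, hθ0, hθ⟩ := Unit.exists_skew hf.ne_refl hf.involutive
  obtain ⟨φ, hφ, hφa⟩ := exists_trace_avoid hf.ne_refl hf.involutive
    (A := θ * (w0 * σ x1))
    (mul_ne_zero hθ0 (mul_ne_zero (fun h => by simp [h] at hw0) ((RingEquiv.map_ne_zero_iff σ).2 hx10)))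
    (θ * (x0 - σ x0))
  set w1 := w0 * φ with hw1
  have hw1n : w1 * σ w1 = -1 := by rw [hw1, map_mul]; linear_combination (φ * σ φ) * hw0 - hφ
  set B := (σ x0 - x0) + (w1 * σ x1 - σ w1 * x1) with hB
  have hB0 : B ≠ 0 := fun h => hφa (by
    simp only [map_mul, hf.involutive, eq_neg_of_add_eq_zero_right hθ]
    simp only [hB, hw1, map_mul] at h
    linear_combination θ * h)
  have hBs : σ B = -B := by
    simp only [hB, map_add, map_sub, map_mul, hf.involutive]; ring
  set δ := (2 - (x0 + σ x0)) / B with hδ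
  have hδs : σ δ = -δ := by
    rw [hδ, map_div₀, hBs, map_sub, map_add, hf.involutive, map_ofNat, add_comm, div_neg]
  set y := (1 + δ) • e p + (δ * w1) • e r with hy
  have hy' : y ∈ D p ⊔ D r := Submodule.add_mem_sup ((D p).smul_mem _ (P.mem p)) ((D r).smul_mem _ (P.mem r))
  have hyy : f y y = 1 := by
    simp only [hy, Unit.add_left hf, Unit.add_right hf, Unit.smul_left hf, Unit.smul_right hf, P.norm,
      P.orth hpr, P.orth hpr.symm, map_add, map_one, map_mul, hδs]
    linear_combination (-(δ * δ)) * hw1n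
  obtain ⟨h₁, hm₁, hk₁, hf₁, he₁⟩ := step hx hy' hxx hyy (by
    simp only [hy, Unit.add_right hf, Unit.smul_right hf, map_add, map_one, map_mul, ← hx0, ← hx1, hδs,
      hf.involutive, map_neg]
    have : δ * B = 2 - (x0 + σ x0) := div_mul_cancel₀ _ hB0
    simp only [hB] at this
    linear_combination this)
  obtain ⟨h₂, hm₂, hk₂, hf₂, he₂⟩ := step hy' hpp hyy (P.norm p) (by
    simp only [hy, Unit.add_left hf, Unit.smul_left hf, P.norm, P.orth hpr.symm, map_add, map_one, map_mul,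
      map_zero, hδs, mul_zero, add_zero, mul_one]
    ring)
  exact ⟨h₂ * h₁, M.mul_mem hm₂ hm₁, (kGrp f).mul_mem hk₂ hk₁,
    fun v h1 h2 => by rw [gl_mul_mulVec, hf₁ v h1 h2, hf₂ v h1 h2], by rw [gl_mul_mulVec, he₁, he₂]⟩

/-- All elements preserving two complementary frame planes. -/
theorem Quad.blocks {p r k j : Fin 4} (hpr : p ≠ r) (hpk : p ≠ k) (hpj : p ≠ j) (hrk : r ≠ k) (hrj : r ≠ j)
    (hkj : k ≠ j)
    (hcen : ∀ v, f v v = 0 → (∃ p r, p ≠ r ∧ ∀ i, i ≠ p → i ≠ r → f v (e i) = 0) → v ∈ Cen σ f M)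
    {g : GL (Fin 4) F} (hg : g ∈ kGrp f)
    (hX : ∀ x ∈ D p ⊔ D r, (g : Matrix (Fin 4) (Fin 4) F) *ᵥ x ∈ D p ⊔ D r)
    (hY : ∀ y ∈ D k ⊔ D j, (g : Matrix (Fin 4) (Fin 4) F) *ᵥ y ∈ D k ⊔ D j) : g ∈ M := by
  have hf := P.unit
  have hfour : ∀ {p r k j : Fin 4}, p ≠ r → p ≠ k → p ≠ j → r ≠ k → r ≠ j → k ≠ j → ∀ i, i ≠ p → i ≠ r →
      i = k ∨ i = j := by decide
  obtain ⟨-, hmX⟩ := P.planes hle hpr hpk hpj hrk hrj hkj
  obtain ⟨-, hmY⟩ := P.planes hle hkj hpk.symm hrk.symm hpj.symm hrj.symm hpr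
  have hcX : ∀ v ∈ D p ⊔ D r, f v v = 0 → v ∈ Cen σ f M := fun v hv hvv =>
    hcen v hvv ⟨p, r, hpr, fun i h1 h2 => by
      rcases hfour hpr hpk hpj hrk hrj hkj i h1 h2 with rfl | rfl
      exacts [((hmX v).1 hv).1, ((hmX v).1 hv).2]⟩
  have hcY : ∀ v ∈ D k ⊔ D j, f v v = 0 → v ∈ Cen σ f M := fun v hv hvv =>
    hcen v hvv ⟨k, j, hkj, fun i h1 h2 => by
      rcases hfour hkj hpk.symm hrk.symm hpj.symm hrj.symm hpr i h1 h2 with rfl | rfl
      exacts [((hmY v).1 hv).1, ((hmY v).1 hv).2]⟩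
  have hep : e p ∈ D p ⊔ D r := Submodule.mem_sup_left (P.mem p)
  have hek : e k ∈ D k ⊔ D j := Submodule.mem_sup_left (P.mem k)
  obtain ⟨h₁, hm₁, hk₁, hf₁, he₁⟩ := P.plane_move hle hpr hcX (hX _ hep) (by rw [hg.1]; exact P.norm p)
  obtain ⟨h₂, hm₂, hk₂, hf₂, he₂⟩ := P.plane_move hle hkj hcY (hY _ hek) (by rw [hg.1]; exact P.norm k)
  set g' := h₂ * h₁ * g with hg'
  have hg'k : g' ∈ kGrp f := (kGrp f).mul_mem ((kGrp f).mul_mem hk₂ hk₁) hg
  have hh1k : (g' : Matrix (Fin 4) (Fin 4) F) *ᵥ e k = e k := by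
    obtain ⟨a1, a2⟩ := (hmY _).1 (hY _ hek)
    rw [hg', gl_mul_mulVec, gl_mul_mulVec, hf₁ _ a1 a2, he₂]
  have hh1p : (g' : Matrix (Fin 4) (Fin 4) F) *ᵥ e p = e p := by
    rw [hg', gl_mul_mulVec, gl_mul_mulVec, he₁, hf₂ _ (P.orth hpk) (P.orth hpj)]
  have hfixY : ∀ v, f v (e p) = 0 → f v (e r) = 0 → (h₁ : Matrix (Fin 4) (Fin 4) F) *ᵥ v = v := hf₁
  have hcoord : ∀ (h : GL (Fin 4) F) (v : Fin 4 → F) (i : Fin 4), h ∈ kGrp f →
      (h : Matrix (Fin 4) (Fin 4) F) *ᵥ e i = e i →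
      f ((h : Matrix (Fin 4) (Fin 4) F) *ᵥ v) (e i) = f v (e i) := fun h v i hh he => by
    have := hh.1 v (e i)
    rwa [he] at this
  -- the other two frame vectors go to multiples of themselves
  have hline : ∀ {p r k j : Fin 4}, p ≠ r → p ≠ k → p ≠ j → r ≠ k → r ≠ j → k ≠ j →
      ∀ v, f v (e p) = 0 → f v (e k) = 0 → f v (e j) = 0 → ∃ c : F, v = c • e r := by
    intro p r k j hpr hpk hpj hrk hrj hkj v h1 h2 h3
    refine ⟨f v (e r), ?_⟩
    conv_lhs => rw [← P.expand v, sum_four _ hpr hpk hpj hrk hrj hkj]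
    rw [h1, h2, h3]; simp
  have hgr : ∃ c : F, (g' : Matrix (Fin 4) (Fin 4) F) *ᵥ e r = c • e r := by
    have a0 := (hmX _).1 (hX _ (Submodule.mem_sup_right (P.mem r)))
    refine hline hpr hpk hpj hrk hrj hkj _ ?_ ?_ ?_
    · rw [hcoord g' _ p hg'k hh1p]; exact P.orth hpr.symm
    · rw [hcoord g' _ k hg'k hh1k]; exact P.orth hrk
    · have e1 : (h₁ : Matrix (Fin 4) (Fin 4) F) *ᵥ e j = e j := hf₁ _ (P.orth hpj.symm) (P.orth hrj.symm)
      have b1 : f ((h₁ : Matrix (Fin 4) (Fin 4) F) *ᵥ ((g : Matrix (Fin 4) (Fin 4) F) *ᵥ e r)) (e j) = 0 := by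
        rw [hcoord h₁ _ j hk₁ e1]; exact a0.2
      have b2 : f ((h₁ : Matrix (Fin 4) (Fin 4) F) *ᵥ ((g : Matrix (Fin 4) (Fin 4) F) *ᵥ e r)) (e k) = 0 := by
        rw [hcoord h₁ _ k hk₁ (hf₁ _ (P.orth hpk.symm) (P.orth hrk.symm))]; exact a0.1
      rw [hg', gl_mul_mulVec, gl_mul_mulVec, hf₂ _ b2 b1]
      exact b1
  have hgj : ∃ c : F, (g' : Matrix (Fin 4) (Fin 4) F) *ᵥ e j = c • e j := by
    have a0 := (hmY _).1 (hY _ (Submodule.mem_sup_right (P.mem j)))
    refine hline (p := p) (r := j) (k := k) (j := r) hpj hpk hpr hkj.symm hrj.symm hrk.symm _ ?_ ?_ ?_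
    · rw [hcoord g' _ p hg'k hh1p]; exact P.orth hpj.symm
    · rw [hcoord g' _ k hg'k hh1k]; exact P.orth hkj.symm
    · rw [hg', gl_mul_mulVec, gl_mul_mulVec, hf₁ _ a0.1 a0.2,
        hcoord h₂ _ r hk₂ (hf₂ _ (P.orth hrk) (P.orth hrj))]
      exact a0.2
  have hg's : g' ∈ hGrp f D := by
    refine ⟨P.stab_of fun i => ?_, hg'k⟩
    by_cases h1 : i = p
    · subst h1; exact ⟨i, 1, by rw [hh1p, one_smul]⟩
    by_cases h2 : i = r
    · subst h2; obtain ⟨c, hc⟩ := hgr; exact ⟨i, c, hc⟩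
    rcases hfour hpr hpk hpj hrk hrj hkj i h1 h2 with rfl | rfl
    · exact ⟨i, 1, by rw [hh1k, one_smul]⟩
    · obtain ⟨c, hc⟩ := hgj; exact ⟨i, c, hc⟩
  have : g = (h₂ * h₁)⁻¹ * g' := by rw [hg', inv_mul_cancel_left]
  rw [this]
  exact M.mul_mem (M.inv_mem (M.mul_mem hm₂ hm₁)) (hle hg's)

/-- An overgroup moving the frame has every isotropic vector as a centre. -/
theorem Quad.cen_all {q : ℕ} (hq : ∀ x, σ x = x ^ q) (hfix : (fixSet σ).card = q) (hq3 : q ≠ 3)
    {g : GL (Fin 4) F} (hg : g ∈ M) (hgi : g ∈ isoGroup f) (hgs : g ∉ Cfsg.Geo.decompositionStabilizer D) :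
    ∀ v, f v v = 0 → v ∈ Cen σ f M := by
  classical
  have hf := P.unit
  obtain ⟨x, hx, a, b, hab, hxa, hxb⟩ := P.cls_start hle hq hfix hq3 hg hgi hgs
  obtain ⟨z, hz, a, b, k, l, hab, hak, hal, hbk, hbl, hkl, hzl, hzk, hza, hzs⟩ := P.cls_std hle hx hab hxa hxb
  have hcen := P.cen_pair hle hz hab hak hal hbk hbl hkl hzl hzk hza hzs
  by_cases hB : Big σ
  · obtain ⟨P4, -⟩ := P.planes hle (p := 0) (r := 1) (k := 2) (j := 3) (by decide) (by decide) (by decide)
      (by decide) (by decide) (by decide)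
    obtain ⟨w0, hw0⟩ : ∃ w0 : F, w0 * σ w0 = -1 :=
      Unit.exists_norm hf.ne_refl hf.involutive (by rw [map_neg, map_one])
    refine P4.cen_all (fun g hg h1 h2 => P.blocks hle (by decide) (by decide) (by decide) (by decide) (by decide)
      (by decide) hcen hg h1 h2) hB (p₀ := e 0) (r₀ := w0 • e 2) (Submodule.mem_sup_left (P.mem 0))
      (Submodule.mem_sup_left ((D 2).smul_mem _ (P.mem 2))) (P.e_ne 0)
      (smul_ne_zero (fun h => by simp [h] at hw0) (P.e_ne 2)) ?_
    refine hcen _ ?_ ⟨0, 2, by decide, fun i h1 h2 => ?_⟩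
    · simp only [Unit.add_left hf, Unit.add_right hf, Unit.smul_left hf, Unit.smul_right hf, P.norm,
        P.orth (show (0 : Fin 4) ≠ 2 by decide), P.orth (show (2 : Fin 4) ≠ 0 by decide)]
      linear_combination hw0
    · rw [Unit.add_left hf, Unit.smul_left hf, P.orth (Ne.symm h1), P.orth (Ne.symm h2), mul_zero, add_zero]
  -- the fixed field has two elements
  have hone : ∀ t : F, σ t = t → t ≠ 0 → t = 1 := fun t h1 h0 => by_contra fun h => hB ⟨t, h1, h0, h⟩
  have hzb : f z (e b) ≠ 0 := fun h => by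
    rw [h, zero_mul, add_zero] at hzs
    exact mul_ne_zero hza ((RingEquiv.map_ne_zero_iff σ).2 hza) hzs
  have hm1 : ∀ (w : Fin 4 → F) i, f w (e i) ≠ 0 → f w (e i) * σ (f w (e i)) = 1 := fun w i h =>
    hone _ (P.norm_fixed w i) (mul_ne_zero h ((RingEquiv.map_ne_zero_iff σ).2 h))
  have h2 : (2 : F) = 0 := by
    rw [hm1 z a hza, hm1 z b hzb] at hzs
    linear_combination hzs
  have hunit : ∀ w, f w w = 1 → w ∈ cls σ f e M := by
    intro w hw
    have hsum := P.nrm_sum hw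
    have h01 : ∀ i, f w (e i) * σ (f w (e i)) = if f w (e i) = 0 then 0 else 1 := fun i => by
      split_ifs with h
      · rw [h, zero_mul]
      · exact hm1 w i h
    have hzero : ∃ d, f w (e d) = 0 := by
      by_contra! h0
      rw [Fin.sum_univ_four, hm1 w 0 (h0 0), hm1 w 1 (h0 1), hm1 w 2 (h0 2), hm1 w 3 (h0 3)] at hsum
      exact one_ne_zero (show (1 : F) = 0 by linear_combination 2 * h2 - hsum)
    obtain ⟨d, hd⟩ := hzero
    obtain ⟨p, r, s, hdp, hdr, hds, hpr, hps, hrs⟩ := exists_three d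
    rw [sum_four _ hdp hdr hds hpr hps hrs, hd, zero_mul, zero_add, h01 p, h01 r, h01 s] at hsum
    have single : ∀ (p r s : Fin 4), d ≠ p → d ≠ r → d ≠ s → p ≠ r → p ≠ s → r ≠ s →
        f w (e p) ≠ 0 → f w (e r) = 0 → f w (e s) = 0 → w ∈ cls σ f e M := by
      intro p r s hdp hdr hds hpr hps hrs hp hr hs
      refine P.cls_phase hle (P.cls_frame hle p) fun i => ?_
      rw [P.form_e]
      by_cases hip : p = i
      · subst hip; rw [if_pos rfl, hm1 w p hp]; simp
      · rw [if_neg hip]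
        rcases (show i = d ∨ i = r ∨ i = s by
          have h4 : ∀ i d p r s : Fin 4, d ≠ p → d ≠ r → d ≠ s → p ≠ r → p ≠ s → r ≠ s → i ≠ p →
              i = d ∨ i = r ∨ i = s := by decide
          exact h4 i d p r s hdp hdr hds hpr hps hrs (Ne.symm hip)) with rfl | rfl | rfl
        · simp [hd]
        · simp [hr]
        · simp [hs]
    by_cases hp : f w (e p) = 0 <;> by_cases hr : f w (e r) = 0 <;> by_cases hs : f w (e s) = 0 <;>
      simp only [hp, hr, hs, if_pos, if_neg, not_false_eq_true, add_zero, zero_add] at hsum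
    · exact absurd hsum zero_ne_one
    · exact single s p r hds hdp hdr hps.symm hrs.symm hpr hs hp hr
    · exact single r p s hdr hdp hds hpr.symm hrs hps hr hp hs
    · exact absurd (show (1 : F) = 0 by linear_combination h2 - hsum) one_ne_zero
    · exact single p r s hdp hdr hds hpr hps hrs hp hr hs
    · exact absurd (show (1 : F) = 0 by linear_combination h2 - hsum) one_ne_zero
    · exact absurd (show (1 : F) = 0 by linear_combination h2 - hsum) one_ne_zero
    · -- three coordinates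
      obtain ⟨w', hw', hwc⟩ := P.cls_perm hle hz (Equiv.swap l d)
      have hwd : f w' (e d) = 0 := by
        have := hwc l
        rwa [Equiv.swap_apply_left, hzl] at this
      refine P.cls_phase hle hw' fun i => ?_
      by_cases hid : i = d
      · subst hid; rw [hd, hwd]
      have hi : f w (e i) ≠ 0 := by
        rcases (show i = p ∨ i = r ∨ i = s by
          have h4 : ∀ i d p r s : Fin 4, d ≠ p → d ≠ r → d ≠ s → p ≠ r → p ≠ s → r ≠ s → i ≠ d →
              i = p ∨ i = r ∨ i = s := by decide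
          exact h4 i d p r s hdp hdr hds hpr hps hrs hid) with rfl | rfl | rfl <;> assumption
      have hi' : f w' (e i) ≠ 0 := by
        obtain ⟨i', rfl⟩ := (Equiv.swap l d).surjective i
        rw [hwc]
        have hi'l : i' ≠ l := fun h => hid (by rw [h, Equiv.swap_apply_left])
        rcases (show i' = a ∨ i' = b ∨ i' = k by
          have h4 : ∀ i a b k l : Fin 4, a ≠ b → a ≠ k → a ≠ l → b ≠ k → b ≠ l → k ≠ l → i ≠ l →
              i = a ∨ i = b ∨ i = k := by decide
          exact h4 i' a b k l hab hak hal hbk hbl hkl hi'l) with rfl | rfl | rfl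
        exacts [hza, hzb, fun h => by rw [h, zero_mul] at hzk; exact zero_ne_one hzk]
      rw [hm1 w i hi, hm1 w' i hi']
  intro v hv
  by_cases hsmall : ∃ p r, p ≠ r ∧ ∀ i, i ≠ p → i ≠ r → f v (e i) = 0
  · exact hcen v hv hsmall
  push Not at hsmall
  have hall : ∀ i, f v (e i) ≠ 0 := by
    intro i hi
    obtain ⟨p, r, s, hip, hir, his, hpr, hps, hrs⟩ := exists_three i
    have h4 : ∀ j i p r s : Fin 4, i ≠ p → i ≠ r → i ≠ s → p ≠ r → p ≠ s → r ≠ s → j ≠ p → j ≠ r →
        j = i ∨ j = s := by decide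
    have key : ∀ p r s : Fin 4, i ≠ p → i ≠ r → i ≠ s → p ≠ r → p ≠ s → r ≠ s → f v (e s) ≠ 0 := by
      intro p r s hip hir his hpr hps hrs hs
      obtain ⟨j, hjp, hjr, hj⟩ := hsmall p r hpr
      rcases h4 j i p r s hip hir his hpr hps hrs hjp hjr with rfl | rfl
      exacts [hj hi, hj hs]
    have hp := key r s p hir his hip hrs hpr.symm hps.symm
    have hr := key p s r hip his hir hps hpr hrs.symm
    have hs := key p r s hip hir his hpr hps hrs
    rw [P.form_coord, sum_four _ hip hir his hpr hps hrs, hi, hm1 v p hp, hm1 v r hr, hm1 v s hs, zero_mul,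
      zero_add] at hv
    exact one_ne_zero (show (1 : F) = 0 by linear_combination hv - h2)
  obtain ⟨ω, hω, hωr⟩ := exists_nonreal hf.ne_refl hf.involutive
  have htr : ω + σ ω = 1 := hone _ (by rw [map_add, hf.involutive, add_comm]) fun h => hωr (by
    linear_combination h - ω * h2)
  set c : Fin 4 → F := ![f v (e 0), ω * f v (e 1), σ ω * f v (e 2), 0] with hc
  set x₀ := ∑ i, c i • e i with hx₀
  have hxc : ∀ i, f x₀ (e i) = c i := fun i => by rw [hx₀, P.coord_sum, if_pos (Finset.mem_univ i)]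
  have hxx : f x₀ x₀ = 1 := by
    rw [P.form_coord, Fin.sum_univ_four, hxc, hxc, hxc, hxc]
    simp only [hc, Matrix.cons_val_zero, Matrix.cons_val_one, Matrix.cons_val, map_mul, map_zero, hf.involutive]
    linear_combination hm1 v 0 (hall 0) + (ω * σ ω) * hm1 v 1 (hall 1) + (ω * σ ω) * hm1 v 2 (hall 2)
      + 2 * hω + h2
  have hvx : f v x₀ = 0 := by
    rw [P.form_coord, Fin.sum_univ_four, hxc, hxc, hxc, hxc]
    simp only [hc, Matrix.cons_val_zero, Matrix.cons_val_one, Matrix.cons_val, map_mul, map_zero, hf.involutive]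
    linear_combination hm1 v 0 (hall 0) + σ ω * hm1 v 1 (hall 1) + ω * hm1 v 2 (hall 2) + htr + h2
  refine P.cen_cls hle hv (hunit x₀ hxx) hvx fun κ hκ => hunit _ ?_
  simp only [Unit.add_left hf, Unit.add_right hf, Unit.smul_left hf, Unit.smul_right hf, hxx, hv, hvx,
    Unit.eq_zero_comm hf hvx]
  linear_combination hκ

omit P hle

/-- The stabiliser of an orthonormal frame is maximal. -/
theorem maximal_frame {q : ℕ} (hF : Fintype.card F = q ^ 2) (hq3 : q ≠ 3)
    {D : Fin 4 → Submodule F (Fin 4 → F)}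
    (hD : Cfsg.Geo.IsNondegenerateMDecomposition (Cfsg.hermForm 4 F q) 1 D) :
    Cfsg.Geo.IsMaximalIn (Cfsg.GU 4 F q ⊓ Cfsg.Geo.specialLinear (Fin 4) F)
      (Cfsg.Geo.decompositionStabilizer D ⊓ (Cfsg.GU 4 F q ⊓ Cfsg.Geo.specialLinear (Fin 4) F)) := by
  classical
  have hf := UnitPow.isUnitaryForm_hermForm hF 4
  obtain ⟨e, P⟩ := exists_quad (σ := UnitPow.conj hF) hf hD
  have hK : ∀ {g}, g ∈ Cfsg.GU 4 F q ⊓ Cfsg.Geo.specialLinear (Fin 4) F ↔ g ∈ kGrp (Cfsg.hermForm 4 F q) :=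
    fun {g} => ⟨fun h => ⟨UnitPow.mem_GU.1 h.1, h.2⟩, fun h => ⟨UnitPow.mem_GU.2 h.1, h.2⟩⟩
  have hfix : (fixSet (UnitPow.conj hF)).card = q := by
    have h := card_field (σ := UnitPow.conj hF) hf.ne_refl hf.involutive
    rw [hF, pow_two] at h
    exact (Nat.mul_self_inj.1 h).symm
  refine ⟨lt_of_le_of_ne inf_le_right fun heq => ?_, fun M hle hMK => ?_⟩
  · obtain ⟨w0, hw0⟩ : ∃ w0 : F, w0 * UnitPow.conj hF w0 = -1 :=
      Unit.exists_norm hf.ne_refl hf.involutive (by rw [map_neg, map_one])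
    obtain ⟨c, hc0, hc⟩ := Unit.exists_skew hf.ne_refl hf.involutive
    set u := ∑ i, (![1, w0, 1, w0] : Fin 4 → F) i • e i with hu
    have huc : ∀ i, Cfsg.hermForm 4 F q u (e i) = (![1, w0, 1, w0] : Fin 4 → F) i := fun i => by
      rw [hu, P.coord_sum, if_pos (Finset.mem_univ i)]
    have huu : Cfsg.hermForm 4 F q u u = 0 := by
      rw [P.form_coord, Fin.sum_univ_four, huc, huc, huc, huc]
      simp only [Matrix.cons_val_zero, Matrix.cons_val_one, Matrix.cons_val, map_one]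
      linear_combination 2 * hw0
    obtain ⟨π, hπ⟩ := (heq.ge (hK.2 (formTv_iso hf huu hc))).1
    have h := Submodule.mem_map_of_mem (f := Matrix.toLin' (formTv (Cfsg.hermForm 4 F q) u c :
      Matrix (Fin 4) (Fin 4) F)) (P.mem 0)
    rw [hπ, Matrix.toLin'_apply, P.line] at h
    obtain ⟨t, ht⟩ := Submodule.mem_span_singleton.1 h
    have hval : ∀ i, Cfsg.hermForm 4 F q (t • e (π 0)) (e i) =
        (if (0 : Fin 4) = i then 1 else 0) + c * (![1, w0, 1, w0] : Fin 4 → F) i := fun i => by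
      rw [ht, Unit.formTv_mulVec hf huu, Unit.add_left hf, Unit.smul_left hf, P.form_e, huc,
        ← Unit.conj_form hf u (e 0), huc]
      simp
    have hw00 : w0 ≠ 0 := fun h => by simp [h] at hw0
    have h1 := hval 1
    have h2 := hval 2
    rw [Unit.smul_left hf, P.form_e, if_neg (show (0 : Fin 4) ≠ 1 by decide), zero_add] at h1
    rw [Unit.smul_left hf, P.form_e, if_neg (show (0 : Fin 4) ≠ 2 by decide), zero_add] at h2
    simp only [Matrix.cons_val_one, Matrix.cons_val_zero, Matrix.cons_val, mul_one] at h1 h2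
    have p1 : π 0 = 1 := by_contra fun h => mul_ne_zero hc0 hw00 (by rw [← h1, if_neg h, mul_zero])
    rw [p1, if_neg (show (1 : Fin 4) ≠ 2 by decide), mul_zero] at h2
    exact hc0 h2.symm
  by_cases hall : M ≤ Cfsg.Geo.decompositionStabilizer D
  · exact Or.inl (le_antisymm (le_inf hall hMK) hle)
  right
  obtain ⟨g, hg, hgs⟩ := SetLike.not_le_iff_exists.1 hall
  have hgi : g ∈ isoGroup (Cfsg.hermForm 4 F q) := (hK.1 (hMK hg)).1
  have hle' : hGrp (Cfsg.hermForm 4 F q) D ≤ M := fun h hh => hle ⟨hh.1, hK.2 hh.2⟩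
  refine le_antisymm hMK (UnitGen.specialUnitary_le_of_formTv_mem hF (by norm_num) (by norm_num) fun v hv c hc => ?_)
  exact (P.cen_all hle' (fun x => UnitPow.conj_apply hF x) hfix hq3 hg hgi hgs v hv).2 c hc

end CfsgLib.GeomClasses.UnitFour
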