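import Cfsg.Agent.Lib.GeomClasses.UnitFour.FrameFlip

/-!
An overgroup of the frame stabiliser moving the frame puts a vector with two coordinates in the class of the
frame.  The field with 49 elements, where the available scalars are real, is treated by hand.
-/

set_option autoImplicit false
set_option linter.unusedSectionVars false
set_option linter.unusedSimpArgs false

namespace CfsgLib.GeomClasses.UnitFour

open Matrix CfsgLib.GeomClasses.UnitQr CfsgLib.GeomClasses.UnitSymp CfsgLib.GeomClasses.UnitDecomp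
  CfsgLib.GeomClasses.UnitCircle CfsgLib.GeomClasses.UnitFrame

variable {F : Type*} [Field F] [Fintype F] {σ : F ≃+* F} {f : (Fin 4 → F) → (Fin 4 → F) → F}
  {D : Fin 4 → Submodule F (Fin 4 → F)} {e : Fin 4 → Fin 4 → F}

/-- The field with 49 elements and its involution. -/
structure Seven (σ : F ≃+* F) : Prop where
  char : (7 : F) = 0
  fix : ∀ x, σ x = x → ∃ k : ℕ, k < 7 ∧ x = k
  inj : ∀ k j : ℕ, (k : F) = j → k % 7 = j % 7
  eight : ∃ l : F, l * σ l = 1 ∧ l ^ 4 = -1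

theorem ne_or_seven (hne : σ ≠ RingEquiv.refl F) (h2 : ∀ a, σ (σ a) = a) {q : ℕ} (hq : ∀ x, σ x = x ^ q)
    (hfix : (fixSet σ).card = q) (hq3 : q ≠ 3) :
    (∃ l : F, l * σ l = 1 ∧ (l ^ 4) ^ 2 ≠ 1) ∨ Seven σ := by
  classical
  by_cases h : ∃ l : F, l * σ l = 1 ∧ (l ^ 4) ^ 2 ≠ 1
  · exact Or.inl h
  right
  push Not at h
  have h8 : ∀ l ∈ circle σ, l ^ 8 = 1 := fun l hl => by
    have := h l (mem_circle.1 hl); rwa [← pow_mul] at this
  have hc := card_circle hne h2
  rw [hfix] at hc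
  have hroots : ∀ k, 0 < k → ∀ S : Finset F, (∀ l ∈ S, l ^ k = 1) → S.card ≤ k := fun k hk S hS => by
    refine (Finset.card_le_card (t := (Polynomial.nthRoots k (1 : F)).toFinset) fun l hl => ?_).trans
      ((Multiset.toFinset_card_le _).trans (Polynomial.card_nthRoots k 1))
    rw [Multiset.mem_toFinset, Polynomial.mem_nthRoots hk]
    exact hS l hl
  have hle8 := hroots 8 (by norm_num) _ h8
  have h3 := three_le_circle hne h2
  have hq7 : q = 7 := by
    by_contra hq7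
    have hord : ∀ l ∈ circle σ, l ^ 2 = 1 := fun l hl => by
      have h1 := mem_circle.1 hl
      rw [hq, ← pow_succ'] at h1
      have h9 := (pow_gcd_eq_one (a := l) (m := q + 1) (n := 8)).2 ⟨h1, h8 l hl⟩
      have hg : Nat.gcd (q + 1) 8 = 1 ∨ Nat.gcd (q + 1) 8 = 2 := by
        have : q = 2 ∨ q = 4 ∨ q = 5 ∨ q = 6 := by omega
        rcases this with rfl | rfl | rfl | rfl <;> norm_num
      rcases hg with hg | hg <;> rw [hg] at h9
      · rw [pow_one] at h9; rw [h9, one_pow]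
      · exact h9
    have := hroots 2 two_pos _ hord
    omega
  subst hq7
  have h49 : Fintype.card F = 49 := by rw [card_field hne h2, hfix]
  have hchar : (7 : F) = 0 := by
    have h1 := Nat.cast_card_eq_zero F
    rw [h49] at h1
    push_cast at h1
    exact mul_self_eq_zero.1 (by linear_combination h1 : (7 : F) * 7 = 0)
  obtain ⟨p, hp⟩ := CharP.exists F
  haveI := hp
  have hp7 : p = 7 := by
    have h1 : p ∣ 7 := (CharP.cast_eq_zero_iff F p 7).1 (by exact_mod_cast hchar)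
    exact ((Nat.prime_seven.eq_one_or_self_of_dvd p h1).resolve_left (CharP.char_ne_one F p))
  subst hp7
  have hinj : ∀ k j : ℕ, (k : F) = j → k % 7 = j % 7 := fun k j h => (CharP.natCast_eq_natCast F 7).1 h
  refine ⟨hchar, fun x hx => ?_, hinj, ?_⟩
  · have heq : (Finset.range 7).image (fun k : ℕ => (k : F)) = fixSet σ := by
      refine Finset.eq_of_subset_of_card_le (fun y hy => ?_) ?_
      · obtain ⟨k, -, rfl⟩ := Finset.mem_image.1 hy
        exact mem_fixSet.2 (map_natCast σ k)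
      · rw [hfix, Finset.card_image_of_injOn fun k hk j hj hkj => ?_, Finset.card_range]
        have := hinj k j hkj
        simp only [Finset.coe_range, Set.mem_Iio] at hk hj
        omega
    have : x ∈ (Finset.range 7).image (fun k : ℕ => (k : F)) := heq ▸ mem_fixSet.2 hx
    obtain ⟨k, hk, hkx⟩ := Finset.mem_image.1 this
    exact ⟨k, Finset.mem_range.1 hk, hkx.symm⟩
  · by_contra hno
    push Not at hno
    have := hroots 4 (by norm_num) (circle σ) fun l hl => by
      have h1 := h8 l hl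
      rcases mul_self_eq_one_iff.1 (show l ^ 4 * l ^ 4 = 1 by rw [← pow_add]; exact h1) with h4 | h4
      · exact h4
      · exact absurd h4 (hno l (mem_circle.1 hl))
    omega

theorem seven_pattern (k : Fin 4 → ℕ) (hk : ∀ i, k i = 1 ∨ k i = 2 ∨ k i = 6)
    (hs : (k 0 + k 1 + k 2 + k 3) % 7 = 1) :
    (∀ i, k i = 2) ∨ ∃ a b, a ≠ b ∧ k a = 1 ∧ (k b = 1 ∨ k b = 6) := by
  by_cases h : ∃ a, k a = 1
  · obtain ⟨a, ha⟩ := h
    right
    by_contra! hcon
    obtain ⟨b, c, d, hab, hac, had, hbc, hbd, hcd⟩ := exists_three a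
    have h4 := sum_four k hab hac had hbc hbd hcd
    rw [Fin.sum_univ_four] at h4
    have := hcon a b hab ha
    have := hcon a c hac ha
    have := hcon a d had ha
    have := hk b; have := hk c; have := hk d
    omega
  · push Not at h
    left
    have := hk 0; have := hk 1; have := hk 2; have := hk 3
    have := h 0; have := h 1; have := h 2; have := h 3
    intro i
    fin_cases i <;> simp only [Fin.zero_eta, Fin.mk_one, Fin.reduceFinMk] <;> omega

variable (P : Quad σ f D e) {M : Subgroup (GL (Fin 4) F)} (hle : hGrp f D ≤ M)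
include P hle

/-- The coordinates of the image of a frame vector under a real quasi-reflection. -/
theorem Quad.seven_step (S : Seven σ) {x : Fin 4 → F} (hx : x ∈ Orb σ f M) (a : Fin 4) :
    ∃ y ∈ Orb σ f M, f y (e a) = 1 - 2 * (f x (e a) * σ (f x (e a))) ∧
      ∀ i, i ≠ a → f y (e i) = -2 * σ (f x (e a)) * f x (e i) := by
  have hf := P.unit
  obtain ⟨l, hl, hl4⟩ := S.eight
  have hz : σ l ^ 4 = -1 := by rw [← map_pow, hl4, map_neg, map_one]
  have hy := P.orb_rho hle hx (P.orb_frame hle a) hl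
  rw [hz] at hy
  have hm : (-1 : F) * σ (-1) = 1 := by simp
  refine ⟨_, hy, ?_, fun i hi => ?_⟩
  · rw [rho_mulVec hf hx.1 hm, Unit.add_left hf, Unit.smul_left hf, P.norm, ← Unit.conj_form hf x (e a)]
    ring
  · rw [rho_mulVec hf hx.1 hm, Unit.add_left hf, Unit.smul_left hf, P.orth (Ne.symm hi),
      ← Unit.conj_form hf x (e a)]
    ring

set_option maxHeartbeats 1000000 in
/-- In the field with 49 elements an orbit vector without vanishing coordinates gives one with exactly three. -/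
theorem Quad.seven_three (S : Seven σ) {x : Fin 4 → F} (hx : x ∈ Orb σ f M) (hx4 : ∀ i, f x (e i) ≠ 0) :
    ∃ y ∈ Orb σ f M, ∃ d, f y (e d) = 0 ∧ ∀ i, i ≠ d → f y (e i) ≠ 0 := by
  classical
  have hf := P.unit
  have h2ne : (2 : F) ≠ 0 := fun h => by
    have := S.inj 2 0 (by exact_mod_cast h); omega
  have h7 := S.char
  -- the value one half
  have hfour : ∀ {x : Fin 4 → F}, x ∈ Orb σ f M → (∀ i, f x (e i) ≠ 0) → ∀ a,
      f x (e a) * σ (f x (e a)) = 4 →
      ∃ y ∈ Orb σ f M, ∃ d, f y (e d) = 0 ∧ ∀ i, i ≠ d → f y (e i) ≠ 0 := fun hx hx4 a ha => by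
    obtain ⟨y, hy, hya, hyo⟩ := P.seven_step hle S hx a
    refine ⟨y, hy, a, by rw [hya, ha]; linear_combination -h7, fun i hi => ?_⟩
    rw [hyo i hi]
    exact mul_ne_zero (mul_ne_zero (neg_ne_zero.2 h2ne) ((RingEquiv.map_ne_zero_iff σ).2 (hx4 a))) (hx4 i)
  have hnext : ∀ {x : Fin 4 → F}, x ∈ Orb σ f M → (∀ i, f x (e i) ≠ 0) → ∀ a,
      1 - 2 * (f x (e a) * σ (f x (e a))) ≠ 0 → ∃ y ∈ Orb σ f M, (∀ i, f y (e i) ≠ 0) ∧
        f y (e a) * σ (f y (e a)) = (1 - 2 * (f x (e a) * σ (f x (e a)))) ^ 2 ∧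
        ∀ i, i ≠ a → f y (e i) * σ (f y (e i)) =
          4 * (f x (e a) * σ (f x (e a))) * (f x (e i) * σ (f x (e i))) := fun {x} hx hx4 a ha => by
    obtain ⟨y, hy, hya, hyo⟩ := P.seven_step hle S hx a
    refine ⟨y, hy, fun i => ?_, ?_, fun i hi => ?_⟩
    · by_cases hi : i = a
      · subst hi; rw [hya]; exact ha
      · rw [hyo i hi]
        exact mul_ne_zero (mul_ne_zero (neg_ne_zero.2 h2ne) ((RingEquiv.map_ne_zero_iff σ).2 (hx4 a))) (hx4 i)
    · rw [hya, map_sub, map_one, map_mul, map_ofNat, P.norm_fixed]; ring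
    · rw [hyo i hi, map_mul, map_mul, map_neg, map_ofNat, hf.involutive]; ring
  -- the values three, four and five
  have hgood : ∀ {x : Fin 4 → F}, x ∈ Orb σ f M → (∀ i, f x (e i) ≠ 0) → ∀ a,
      (f x (e a) * σ (f x (e a)) = 3 ∨ f x (e a) * σ (f x (e a)) = 4 ∨ f x (e a) * σ (f x (e a)) = 5) →
      ∃ y ∈ Orb σ f M, ∃ d, f y (e d) = 0 ∧ ∀ i, i ≠ d → f y (e i) ≠ 0 := fun hx hx4 a ha => by
    rcases ha with ha | ha | ha
    · obtain ⟨y, hy, hy4, hya, -⟩ := hnext hx hx4 a (by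
        rw [ha]; intro h
        have := S.inj 2 0 (by push_cast; linear_combination h + h7); omega)
      exact hfour hy hy4 a (by rw [hya, ha]; linear_combination 3 * h7)
    · exact hfour hx hx4 a ha
    · obtain ⟨y, hy, hy4, hya, -⟩ := hnext hx hx4 a (by
        rw [ha]; intro h
        have := S.inj 5 0 (by push_cast; linear_combination h + 2 * h7); omega)
      exact hfour hy hy4 a (by rw [hya, ha]; linear_combination 11 * h7)
  -- a value one beside another
  have hone : ∀ {x : Fin 4 → F}, x ∈ Orb σ f M → (∀ i, f x (e i) ≠ 0) → ∀ a b, a ≠ b →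
      f x (e a) * σ (f x (e a)) = 1 →
      (f x (e b) * σ (f x (e b)) = 1 ∨ f x (e b) * σ (f x (e b)) = 6) →
      ∃ y ∈ Orb σ f M, ∃ d, f y (e d) = 0 ∧ ∀ i, i ≠ d → f y (e i) ≠ 0 := fun hx hx4 a b hab ha hb => by
    obtain ⟨y, hy, hy4, -, hyo⟩ := hnext hx hx4 a (by
      rw [ha]; intro h; exact one_ne_zero (show (1 : F) = 0 by linear_combination -h))
    have h1 := hyo b (Ne.symm hab)
    rcases hb with hb | hb
    · exact hfour hy hy4 b (by rw [h1, ha, hb]; ring)
    · exact hgood hy hy4 b (Or.inl (by rw [h1, ha, hb]; linear_combination 3 * h7))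
  choose k hk hkx using fun i => S.fix _ (P.norm_fixed x i)
  have hk0 : ∀ i, k i ≠ 0 := fun i h => by
    have := hkx i
    rw [h, Nat.cast_zero] at this
    exact mul_ne_zero (hx4 i) ((RingEquiv.map_ne_zero_iff σ).2 (hx4 i)) this
  by_cases hgd : ∃ a, k a = 3 ∨ k a = 4 ∨ k a = 5
  · obtain ⟨a, ha⟩ := hgd
    refine hgood hx hx4 a ?_
    rw [hkx a]
    rcases ha with h | h | h <;> simp [h]
  push Not at hgd
  have hsum : (k 0 + k 1 + k 2 + k 3) % 7 = 1 := by
    refine (S.inj _ 1 ?_).trans (by norm_num)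
    have h1 := P.nrm_sum hx.1
    rw [Fin.sum_univ_four, hkx, hkx, hkx, hkx] at h1
    push_cast
    exact h1
  rcases seven_pattern k (fun i => by
      have := hk i; have := hk0 i; obtain ⟨h1, h2, h3⟩ := hgd i
      omega) hsum with hall | ⟨a, b, hab, ha, hb⟩
  swap
  · refine hone hx hx4 a b hab (by rw [hkx a, show k a = 1 from ha, Nat.cast_one]) ?_
    rw [hkx b]
    rcases hb with h | h
    · exact Or.inl (by rw [show k b = 1 from h, Nat.cast_one])
    · exact Or.inr (by rw [show k b = 6 from h]; norm_num)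
  -- all four values are two
  have htwo : ∀ i, f x (e i) * σ (f x (e i)) = 2 := fun i => by
    rw [hkx i, show k i = 2 from hall i]; norm_num
  obtain ⟨ε, hε, hε4, ht⟩ : ∃ ε : F, ε * σ ε = 1 ∧ ε ^ 4 = -1 ∧ ε + σ ε = 3 := by
    obtain ⟨ε, hε, hε4⟩ := S.eight
    have ht2 : (ε + σ ε) * (ε + σ ε) = 2 := by
      refine mul_left_cancel₀ (pow_ne_zero 2 (left_ne_zero_of_mul_eq_one hε)) ?_
      linear_combination (2 * ε ^ 2 + ε * σ ε + 1) * hε + hε4
    obtain ⟨j, hj, hjt⟩ := S.fix (ε + σ ε) (by rw [map_add, hf.involutive, add_comm])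
    have hj2 := S.inj (j * j) 2 (by push_cast; rw [← hjt, ht2])
    have : j = 3 ∨ j = 4 := by interval_cases j <;> simp_all
    rcases this with rfl | rfl
    · exact ⟨ε, hε, hε4, by rw [hjt]; norm_num⟩
    · refine ⟨-ε, by rw [map_neg, neg_mul_neg, hε], by rw [← hε4]; ring, ?_⟩
      rw [map_neg, ← neg_add, hjt]
      push_cast
      linear_combination -h7
  obtain ⟨l, hl, hl4⟩ := S.eight
  set η : Fin 4 → F := ![ε, σ ε, 1, 1] with hη
  have hηn : ∀ i, η i * σ (η i) = 1 := fun i => by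
    fin_cases i <;> simp [hη, hε, norm_conj hf hε]
  obtain ⟨g, hg, hgi, hgv⟩ := P.exists_diag_one η hηn (μ := 1) (by simp) (by
    simp [hη, Fin.prod_univ_four, hε])
  set x' := (g : Matrix (Fin 4) (Fin 4) F) *ᵥ x with hx'
  have hco : ∀ i, f x' (e i) = η i * f x (e i) := fun i => by rw [hx', hgv, one_mul]
  have hQ : f x' x = 10 := by
    rw [P.form_coord, Fin.sum_univ_four, hco, hco, hco, hco]
    simp only [hη, Matrix.cons_val_zero, Matrix.cons_val_one, Matrix.cons_val]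
    linear_combination ε * htwo 0 + σ ε * htwo 1 + htwo 2 + htwo 3 + 2 * ht
  have hz : σ l ^ 4 = -1 := by rw [← map_pow, hl4, map_neg, map_one]
  have hy := P.orb_rho hle hx (P.orb_map hle (hle hg) hgi hx) hl
  rw [hz] at hy
  set y := (rho f x (-1) : Matrix (Fin 4) (Fin 4) F) *ᵥ x' with hy'
  have hyc : ∀ i, f y (e i) = (η i - 6) * f x (e i) := fun i => by
    rw [hy', rho_mulVec hf hx.1 (by simp), Unit.add_left hf, Unit.smul_left hf, hQ, hco]
    linear_combination (-2 * f x (e i)) * h7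
  have hσ6 : ∀ z : F, σ z ≠ z → z - 6 ≠ 0 := fun z hz h => hz (by rw [sub_eq_zero.1 h, map_ofNat])
  have hεr : σ ε ≠ ε := fun h => by
    rw [h] at hε
    have h' : ε ^ 4 = 1 := by linear_combination (ε * ε + 1) * hε
    rw [hε4] at h'
    exact h2ne (by linear_combination -h')
  have h5 : (1 : F) - 6 ≠ 0 := fun h => by
    have := S.inj 2 0 (by push_cast; linear_combination h + h7); omega
  have hy4 : ∀ i, f y (e i) ≠ 0 := fun i => by
    rw [hyc]
    refine mul_ne_zero ?_ (hx4 i)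
    fin_cases i
    · simpa [hη] using hσ6 ε hεr
    · simpa [hη] using hσ6 (σ ε) (by rw [hf.involutive]; exact hεr.symm)
    · simpa [hη] using h5
    · simpa [hη] using h5
  have hy1 : ∀ i, η i = 1 → f y (e i) * σ (f y (e i)) = 1 := fun i hi => by
    rw [hyc, hi, map_mul, map_sub, map_one, map_ofNat]
    linear_combination (25 : F) * htwo i + 7 * h7
  exact hone hy hy4 2 3 (by decide) (hy1 2 (by simp [hη])) (Or.inl (hy1 3 (by simp [hη])))

/-- An overgroup moving the frame puts a vector with two coordinates in the class of the frame. -/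
theorem Quad.cls_start {q : ℕ} (hq : ∀ x, σ x = x ^ q) (hfix : (fixSet σ).card = q) (hq3 : q ≠ 3)
    {g : GL (Fin 4) F} (hg : g ∈ M) (hgi : g ∈ isoGroup f) (hgs : g ∉ Cfsg.Geo.decompositionStabilizer D) :
    ∃ x ∈ cls σ f e M, ∃ a b, a ≠ b ∧ f x (e a) ≠ 0 ∧ f x (e b) ≠ 0 := by
  classical
  have hf := P.unit
  have hcol : ∀ j, (g : Matrix (Fin 4) (Fin 4) F) *ᵥ e j ∈ Orb σ f M := fun j =>
    P.orb_map hle hg hgi (P.orb_frame hle j)
  obtain ⟨j, a, b, hab, ha, hb⟩ : ∃ j a b, a ≠ b ∧ f ((g : Matrix (Fin 4) (Fin 4) F) *ᵥ e j) (e a) ≠ 0 ∧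
      f ((g : Matrix (Fin 4) (Fin 4) F) *ᵥ e j) (e b) ≠ 0 := by
    by_contra! hcon
    refine hgs (P.stab_of fun j => ?_)
    obtain ⟨p, hp⟩ : ∃ p, f ((g : Matrix (Fin 4) (Fin 4) F) *ᵥ e j) (e p) ≠ 0 := by
      by_contra! h0
      have h := (hcol j).1
      rw [show (g : Matrix (Fin 4) (Fin 4) F) *ᵥ e j = 0 from P.ext fun i => by rw [h0, Unit.zero_left hf],
        Unit.zero_left hf] at h
      exact zero_ne_one h
    refine ⟨p, f ((g : Matrix (Fin 4) (Fin 4) F) *ᵥ e j) (e p), P.ext fun i => ?_⟩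
    rw [Unit.smul_left hf, P.form_e]
    split_ifs with hpi
    · subst hpi; rw [mul_one]
    · rw [mul_zero]; exact hcon j p i hpi hp
  rcases ne_or_seven hf.ne_refl hf.involutive hq hfix hq3 with ⟨l, hl, hl8⟩ | S
  · have hl4 : l ^ 4 ≠ 1 := fun h => hl8 (by rw [h, one_pow])
    have fin : ∀ {y : Fin 4 → F}, y ∈ Orb σ f M → ∀ {d : Fin 4}, f y (e d) = 0 → ∀ {a b : Fin 4}, a ≠ b →
        f y (e a) ≠ 0 → f y (e b) ≠ 0 → ∃ x ∈ cls σ f e M, ∃ a b, a ≠ b ∧ f x (e a) ≠ 0 ∧ f x (e b) ≠ 0 := by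
      intro y hy d hd a b hab ha hb
      obtain ⟨x, hx, hxa, hxb⟩ := P.cls_of_orb hle hy hd hab ha hb hl hl4 fun h => hl8 (by
        set A := f y (e a) * σ (f y (e a)) with hA
        have hAf : σ A = A := P.norm_fixed y a
        have hA0 : A ≠ 0 := mul_ne_zero ha ((RingEquiv.map_ne_zero_iff σ).2 ha)
        have h' := congrArg σ h
        rw [map_add, map_one, map_mul, map_sub, map_one, map_pow, hf.involutive, hAf, map_zero] at h'
        have he : σ l ^ 4 = l ^ 4 := mul_right_cancel₀ hA0 (by linear_combination h - h')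
        rw [pow_two]
        have := orb_zeta hf hl
        rw [he] at this
        have h3 := congrArg σ he
        rw [map_pow, hf.involutive] at h3
        rw [map_pow, he] at this
        exact this)
      exact ⟨x, hx, a, b, hab, hxa, hxb⟩
    by_cases hz : ∃ d, f ((g : Matrix (Fin 4) (Fin 4) F) *ᵥ e j) (e d) = 0
    · obtain ⟨d, hd⟩ := hz
      exact fin (hcol j) hd hab ha hb
    · push Not at hz
      obtain ⟨y, hy, d, p, r, hpr, hd, hp, hr⟩ := P.orb_small hle (hcol j) hz hl hl8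
      exact fin hy hd hpr hp hr
  -- the field with 49 elements
  obtain ⟨l, hl, hl4⟩ := S.eight
  have h7 := S.char
  have h2ne : (2 : F) ≠ 0 := fun h => by have := S.inj 2 0 (by exact_mod_cast h); omega
  have hl1 : l ^ 4 ≠ 1 := by rw [hl4]; intro h; exact h2ne (by linear_combination -h)
  have hzl : σ l ^ 4 = -1 := by rw [← map_pow, hl4, map_neg, map_one]
  have fin : ∀ {y : Fin 4 → F}, y ∈ Orb σ f M → ∀ {d : Fin 4}, f y (e d) = 0 → ∀ {a b : Fin 4}, a ≠ b →
      f y (e a) ≠ 0 → f y (e b) ≠ 0 → f y (e a) * σ (f y (e a)) ≠ 4 →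
      ∃ x ∈ cls σ f e M, ∃ a b, a ≠ b ∧ f x (e a) ≠ 0 ∧ f x (e b) ≠ 0 := by
    intro y hy d hd a b hab ha hb h4
    obtain ⟨x, hx, hxa, hxb⟩ := P.cls_of_orb hle hy hd hab ha hb hl hl1 fun h => h4 (by
      rw [hzl] at h
      linear_combination 3 * h + (f y (e a) * σ (f y (e a))) * h7 - h7)
    exact ⟨x, hx, a, b, hab, hxa, hxb⟩
  have fin3 : ∀ {y : Fin 4 → F}, y ∈ Orb σ f M → ∀ {d : Fin 4}, f y (e d) = 0 → (∀ i, i ≠ d → f y (e i) ≠ 0) →
      ∃ x ∈ cls σ f e M, ∃ a b, a ≠ b ∧ f x (e a) ≠ 0 ∧ f x (e b) ≠ 0 := by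
    intro y hy d hd h0
    obtain ⟨a, b, c, hda, hdb, hdc, hab, hac, hbc⟩ := exists_three d
    by_cases h1 : f y (e a) * σ (f y (e a)) = 4
    · by_cases h2 : f y (e b) * σ (f y (e b)) = 4
      · refine fin hy hd hbc.symm (h0 c hdc.symm) (h0 b hdb.symm) fun h3 => ?_
        have h4 := P.nrm_sum hy.1
        rw [sum_four _ hda hdb hdc hab hac hbc, hd, zero_mul, h1, h2, h3] at h4
        exact h2ne (by linear_combination 4 * h4 - 6 * h7)
      · exact fin hy hd hab.symm (h0 b hdb.symm) (h0 a hda.symm) h2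
    · exact fin hy hd hab (h0 a hda.symm) (h0 b hdb.symm) h1
  by_cases hfour : ∃ i, ∀ p, f ((g : Matrix (Fin 4) (Fin 4) F) *ᵥ e i) (e p) ≠ 0
  · obtain ⟨i, hi⟩ := hfour
    obtain ⟨y, hy, d, hd, h0⟩ := P.seven_three hle S (hcol i) hi
    exact fin3 hy hd h0
  push Not at hfour
  obtain ⟨d, hd⟩ := hfour j
  by_cases hgood : ∃ i p r, p ≠ r ∧ f ((g : Matrix (Fin 4) (Fin 4) F) *ᵥ e i) (e p) ≠ 0 ∧
      f ((g : Matrix (Fin 4) (Fin 4) F) *ᵥ e i) (e r) ≠ 0 ∧
      f ((g : Matrix (Fin 4) (Fin 4) F) *ᵥ e i) (e p) * σ (f ((g : Matrix (Fin 4) (Fin 4) F) *ᵥ e i) (e p)) ≠ 4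
  · obtain ⟨i, p, r, hpr, hp, hr, h4⟩ := hgood
    obtain ⟨d', hd'⟩ := hfour i
    exact fin (hcol i) hd' hpr hp hr h4
  push Not at hgood
  -- every column is monomial or has two coordinates of value one half
  have htwo : ∀ i p r s, p ≠ r → p ≠ s → r ≠ s → f ((g : Matrix (Fin 4) (Fin 4) F) *ᵥ e i) (e p) ≠ 0 →
      f ((g : Matrix (Fin 4) (Fin 4) F) *ᵥ e i) (e r) ≠ 0 → f ((g : Matrix (Fin 4) (Fin 4) F) *ᵥ e i) (e s) = 0 := by
    intro i p r s hpr hps hrs hp hr
    by_contra hs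
    obtain ⟨d', hd'⟩ := hfour i
    have h4 := P.nrm_sum (hcol i).1
    have n1 : d' ≠ p := fun h => hp (h ▸ hd')
    have n2 : d' ≠ r := fun h => hr (h ▸ hd')
    have n3 : d' ≠ s := fun h => hs (h ▸ hd')
    rw [sum_four _ n1 n2 n3 hpr hps hrs, hd', zero_mul, hgood i p r hpr hp hr, hgood i r p hpr.symm hr hp,
      hgood i s p hps.symm hs hp] at h4
    exact h2ne (by linear_combination 4 * h4 - 6 * h7)
  obtain ⟨c, d', hac, had, hbc, hbd, hcd⟩ := exists_others a b
  set x := (g : Matrix (Fin 4) (Fin 4) F) *ᵥ e j with hx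
  have hxc : f x (e c) = 0 := htwo j a b c hab hac hbc ha hb
  -- a second column with the same coordinates
  obtain ⟨r, hrj, hra⟩ : ∃ r, r ≠ j ∧ f ((g : Matrix (Fin 4) (Fin 4) F) *ᵥ e r) (e a) ≠ 0 := by
    by_contra! h0
    obtain ⟨w, hw⟩ : ∃ w, w = ((g⁻¹ : GL (Fin 4) F) : Matrix (Fin 4) (Fin 4) F) *ᵥ e a := ⟨_, rfl⟩
    have hwj : ∀ r, f w (e r) = σ (f ((g : Matrix (Fin 4) (Fin 4) F) *ᵥ e r) (e a)) := fun r => by
      rw [Unit.conj_form hf, hw]
      have h1 := hgi (((g⁻¹ : GL (Fin 4) F) : Matrix (Fin 4) (Fin 4) F) *ᵥ e a) (e r)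
      rw [gl_mulVec_inv_mulVec] at h1
      exact h1.symm
    have h1 : f w w = 1 := by
      rw [hw, ← hgi, gl_mulVec_inv_mulVec]; exact P.norm a
    rw [P.form_coord, Finset.sum_eq_single j (fun r _ hr => by rw [hwj r, h0 r hr, map_zero, zero_mul])
      (fun h => absurd (Finset.mem_univ j) h), hwj, hf.involutive, mul_comm, hgood j a b hab ha hb] at h1
    exact one_ne_zero (show (1 : F) = 0 by linear_combination -2 * h1 + h7)
  set z := (g : Matrix (Fin 4) (Fin 4) F) *ᵥ e r with hz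
  have hxz : f x z = 0 := by rw [hx, hz, hgi]; exact P.orth hrj.symm
  have hzc : f z (e c) = 0 := by
    by_contra hzc
    have e1 := htwo r a c b hac hab hbc.symm hra hzc
    rw [P.form_coord, sum_four _ hab hac had hbc hbd hcd, hxc, e1, htwo j a b d' hab had hbd ha hb] at hxz
    simp only [map_zero, mul_zero, zero_mul, add_zero] at hxz
    exact (mul_ne_zero ha ((RingEquiv.map_ne_zero_iff σ).2 hra)) hxz
  have hzb : f z (e b) ≠ 0 := fun hzb => by
    rw [P.form_coord, sum_four _ hab hac had hbc hbd hcd, hxc, hzb, htwo j a b d' hab had hbd ha hb] at hxz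
    simp only [map_zero, mul_zero, zero_mul, add_zero] at hxz
    exact (mul_ne_zero ha ((RingEquiv.map_ne_zero_iff σ).2 hra)) hxz
  have hxa4 := hgood j a b hab ha hb
  have hxb4 := hgood j b a hab.symm hb ha
  have hza4 := hgood r a b hab hra hzb
  have hzb4 := hgood r b a hab.symm hzb hra
  rw [← hx] at hxa4 hxb4
  rw [← hz] at hza4 hzb4
  rw [P.form_coord, sum_four _ hab hac had hbc hbd hcd, hxc, hzc, htwo j a b d' hab had hbd ha hb] at hxz
  simp only [map_zero, mul_zero, zero_mul, add_zero] at hxz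
  -- a rotation in their plane
  obtain ⟨ε, hε, hεr, ht⟩ : ∃ ε : F, ε * σ ε = 1 ∧ σ ε ≠ ε ∧ ε + σ ε ≠ 0 := by
    obtain ⟨ε, hε, hε4⟩ := S.eight
    refine ⟨ε, hε, fun h => ?_, fun h => ?_⟩
    · rw [h] at hε
      exact h2ne (by linear_combination hε4 - (ε * ε + 1) * hε)
    · exact h2ne (by linear_combination hε4 - (ε * ε - 1) * (ε * h - hε))
  have hd1 := UnitFrame.duo_mem hf (hcol j).1 (hcol r).1 hε
  have hkM : duo σ f x z ε ∈ M := by
    rw [hx, hz, ← duo_conj hf hgi (P.norm j) (P.norm r) hε]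
    exact M.mul_mem (M.mul_mem hg ((P.cls_frame hle j).2.1 r ε hε)) (M.inv_mem hg)
  have hxec : f (e c) x = 0 := Unit.eq_zero_comm hf hxc
  have hzec : f (e c) z = 0 := Unit.eq_zero_comm hf hzc
  have hfixc : (duo σ f x z ε : Matrix (Fin 4) (Fin 4) F) *ᵥ e c = (1 : F) • e c := by
    rw [one_smul, duo, gl_mul_mulVec, rho_fix hf (hcol r).1 (norm_conj hf hε) hzec, rho_fix hf (hcol j).1 hε hxec]
  have hzx : f z x = 0 := Unit.eq_zero_comm hf (by
    rw [hx, hz, hgi]; exact P.orth hrj.symm)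
  have him : ∀ i, f ((duo σ f x z ε : Matrix (Fin 4) (Fin 4) F) *ᵥ e a) (e i) = (if a = i then 1 else 0) +
      (σ ε - 1) * σ (f z (e a)) * f z (e i) + (ε - 1) * σ (f x (e a)) * f x (e i) := fun i => by
    rw [duo, gl_mul_mulVec, rho_mulVec hf (hcol r).1 (norm_conj hf hε), rho_mulVec hf (hcol j).1 hε,
      Unit.add_left hf (e a), Unit.smul_left hf, hzx, mul_zero, add_zero, Unit.add_left hf, Unit.add_left hf,
      Unit.smul_left hf, Unit.smul_left hf, P.form_e, ← Unit.conj_form hf x (e a), ← Unit.conj_form hf z (e a)]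
  refine ⟨_, P.cls_map hle hkM hd1.1 (P.cls_frame hle c) (by simp) hfixc (P.cls_frame hle a) ⟨c, ?_⟩, a, b, hab, ?_, ?_⟩
  · rw [him, if_neg hac, hxc, hzc]; ring
  · rw [him, if_pos rfl]
    intro h
    refine ht ?_
    linear_combination 2 * h - 2 * (σ ε - 1) * hza4 - 2 * (ε - 1) * hxa4 - (ε + σ ε - 2) * h7
  · rw [him, if_neg hab, zero_add]
    intro h
    refine mul_ne_zero (sub_ne_zero.2 fun h' : ε = σ ε => hεr h'.symm)
      (mul_ne_zero ((RingEquiv.map_ne_zero_iff σ).2 ha) hb) ?_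
    have hkey : σ (f z (e a)) * f z (e b) = -(σ (f x (e a)) * f x (e b)) := by
      refine mul_left_cancel₀ (show f x (e a) ≠ 0 from ha) ?_
      linear_combination f z (e b) * hxz - f x (e b) * hzb4 + f x (e b) * hxa4
    linear_combination h - (σ ε - 1) * hkey

end CfsgLib.GeomClasses.UnitFour
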