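import Cfsg.Agent.Lib.GeomClasses.UnitOrth

/-!
The rational orthogonal space inside a four dimensional unitary space: frames, reflections.
-/

set_option autoImplicit false
set_option linter.unusedSectionVars false
set_option linter.style.haveILetI false

namespace CfsgLib.GeomClasses.UnitFourOrth

open Matrix SympRoot
open CfsgLib.GeomClasses.UnitOrth (root siegel bar up up_rv exists_down up_add up_smul up_zero up_injective)

variable {n : ℕ} {F : Type*} [Field F] [Fintype F]

/-- A four dimensional unitary form taking rational values on rational vectors, in odd characteristic. -/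
structure Setting (σ : F ≃+* F) (f : (Fin n → F) → (Fin n → F) → F) (F₀ : Subfield F) : Prop where
  unit : Cfsg.Geo.IsUnitaryForm σ f
  fixed : ∀ x : F, σ x = x ↔ x ∈ F₀
  rat : ∀ u v, Rv F₀ u → Rv F₀ v → f u v ∈ F₀
  two : (2 : F) ≠ 0
  four : n = 4
  five : ∃ t ∈ F₀, t ≠ 0 ∧ t * t ≠ 1

variable {σ : F ≃+* F} {f : (Fin n → F) → (Fin n → F) → F} {F₀ : Subfield F}

theorem Setting.symm (S : Setting σ f F₀) {u v : Fin n → F} (hu : Rv F₀ u) (hv : Rv F₀ v) : f u v = f v u := by
  rw [S.unit.herm u v, (S.fixed _).2 (S.rat v u hv hu)]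

theorem Setting.smul_right' (S : Setting σ f F₀) {k : F} (hk : k ∈ F₀) (x y : Fin n → F) :
    f x (k • y) = k * f x y := by
  rw [Unit.smul_right S.unit, (S.fixed k).2 hk]

theorem eq_zero_of_rv (S : Setting σ f F₀) {x : Fin n → F} (h : ∀ y, Rv F₀ y → f x y = 0) : x = 0 := by
  by_contra hx
  obtain ⟨-, y, hy⟩ := S.unit.nondegenerate x hx
  apply hy
  rw [pi_eq_sum_univ' y, (Unit.sesq S.unit).sum_right]
  exact Finset.sum_eq_zero fun i _ => by rw [Unit.smul_right S.unit, h _ (Rv.single i), mul_zero]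

variable (S : Setting σ f F₀)
include S

/-- The rational bilinear form. -/
def Setting.bil : LinearMap.BilinMap F₀ (Fin n → F₀) F₀ :=
  LinearMap.mk₂ F₀ (fun a b => ⟨f (up a) (up b), S.rat _ _ (up_rv a) (up_rv b)⟩)
    (fun a b c => Subtype.ext (by simp [up_add, Unit.add_left S.unit]))
    (fun k a c => Subtype.ext (by simp [up_smul, Unit.smul_left S.unit]))
    (fun a b c => Subtype.ext (by simp [up_add, Unit.add_right S.unit]))
    (fun k a c => Subtype.ext (by simp [up_smul, S.smul_right' k.2]))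

/-- The rational quadratic form `x ↦ f(x, x)`. -/
def Setting.quad : QuadraticForm F₀ (Fin n → F₀) := S.bil.toQuadraticMap

theorem quad_coe (a : Fin n → F₀) : ((S.quad a : F₀) : F) = f (up a) (up a) := rfl

theorem polar_coe (a b : Fin n → F₀) :
    ((QuadraticMap.polar S.quad a b : F₀) : F) = 2 * f (up a) (up b) := by
  rw [Setting.quad, LinearMap.BilinMap.polar_toQuadraticMap, two_mul]
  change f (up a) (up b) + f (up b) (up a) = _
  rw [S.symm (up_rv b) (up_rv a)]

theorem quad_nondegenerate : S.quad.polarBilin.Nondegenerate := by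
  have key : ∀ a, (∀ b, QuadraticMap.polar S.quad a b = 0) → a = 0 := by
    intro a h
    apply up_injective
    rw [up_zero]
    refine eq_zero_of_rv S fun y hy => ?_
    obtain ⟨b, rfl⟩ := exists_down hy
    have := congrArg Subtype.val (h b)
    rw [polar_coe S] at this
    exact (mul_eq_zero.1 this).resolve_left S.two
  refine ⟨fun x hx => key x fun b => hx b, fun x hx => key x fun b => ?_⟩
  rw [QuadraticMap.polar_comm]
  exact hx b

theorem two_ne_zero' : (2 : F₀) ≠ 0 := fun h => S.two (by simpa [map_ofNat] using congrArg F₀.subtype h)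

/-- The orthogonal of finitely many rational vectors over the subfield. -/
noncomputable def Setting.perpOf {k : ℕ} (d : Fin k → Fin n → F₀) : Submodule F₀ (Fin n → F₀) :=
  OrthTools.orth S.quad (Submodule.span F₀ (Set.range d))

theorem mem_perpOf {k : ℕ} {d : Fin k → Fin n → F₀} {x : Fin n → F₀} :
    x ∈ S.perpOf d ↔ ∀ i, f (up x) (up (d i)) = 0 := by
  rw [Setting.perpOf, OrthTools.mem_orth]
  constructor
  · intro h i
    have := congrArg Subtype.val (h (d i) (Submodule.subset_span ⟨i, rfl⟩))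
    rw [polar_coe S, S.symm (up_rv _) (up_rv _)] at this
    exact (mul_eq_zero.1 this).resolve_left S.two
  · intro h y hy
    induction hy using Submodule.span_induction with
    | mem y hy =>
      obtain ⟨i, rfl⟩ := hy
      refine Subtype.ext ?_
      rw [polar_coe S, S.symm (up_rv _) (up_rv _), h i, mul_zero]
      rfl
    | zero => exact QuadraticMap.polar_zero_left _ _
    | add a b _ _ ha hb => rw [QuadraticMap.polar_add_left, ha, hb, add_zero]
    | smul c a _ ha => rw [QuadraticMap.polar_smul_left, ha, smul_zero]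

theorem le_finrank_perpOf {k : ℕ} (d : Fin k → Fin n → F₀) : n - k ≤ Module.finrank F₀ (S.perpOf d) := by
  rw [Setting.perpOf, OrthTools.finrank_orth (quad_nondegenerate S), Fintype.card_fin]
  have := finrank_range_le_card (R := F₀) d
  rw [Set.finrank, Fintype.card_fin] at this
  omega

/-- A non-zero rational vector orthogonal to a few rational vectors. -/
theorem exists_orth' {k : ℕ} (hk : k < n) (d : Fin k → Fin n → F) (hd : ∀ i, Rv F₀ (d i)) :
    ∃ s, Rv F₀ s ∧ s ≠ 0 ∧ ∀ i, f s (d i) = 0 := by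
  choose d' hd' using fun i => exists_down (hd i)
  have h3 := le_finrank_perpOf S d'
  obtain ⟨x, hx, hx0⟩ := Submodule.exists_mem_ne_zero_of_ne_bot (p := S.perpOf d') fun h => by
    rw [h, finrank_bot] at h3; omega
  exact ⟨up x, up_rv x, fun h => hx0 (up_injective (h.trans up_zero.symm)),
    fun i => hd' i ▸ (mem_perpOf S).1 hx i⟩

/-- A rational vector orthogonal to given ones but not to an independent one. -/
theorem exists_orth_ne {k : ℕ} (d : Fin k → Fin n → F) (hd : ∀ i, Rv F₀ (d i)) {l : Fin n → F} (hl : Rv F₀ l)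
    (hi : l ∉ Submodule.span F (Set.range d)) : ∃ z, Rv F₀ z ∧ (∀ i, f z (d i) = 0) ∧ f z l ≠ 0 := by
  choose d' hd' using fun i => exists_down (hd i)
  obtain ⟨l', hl'⟩ := exists_down hl
  by_contra hc
  push Not at hc
  have hmem : l' ∈ Submodule.span F₀ (Set.range d') := by
    have hrefl : S.quad.polarBilin.IsRefl := fun a b h => by
      rw [QuadraticMap.polarBilin_apply_apply] at h ⊢
      rwa [QuadraticMap.polar_comm]
    rw [← LinearMap.BilinForm.orthogonal_orthogonal (quad_nondegenerate S) hrefl (Submodule.span F₀ (Set.range d'))]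
    refine (LinearMap.BilinForm.mem_orthogonal_iff).2 fun y hy => ?_
    have hy' := (mem_perpOf S (d := d')).1 hy
    refine Subtype.ext ?_
    change ((QuadraticMap.polar S.quad y l' : F₀) : F) = 0
    rw [polar_coe S, hl', hc (up y) (up_rv y) (fun i => hd' i ▸ hy' i), mul_zero]
  apply hi
  obtain ⟨c, hc'⟩ := (Submodule.mem_span_range_iff_exists_fun F₀).1 hmem
  refine (Submodule.mem_span_range_iff_exists_fun F).2 ⟨fun i => (c i : F), ?_⟩
  rw [← hl', ← hc']
  funext j
  simp [up, ← hd', Finset.sum_apply]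

/-- A vector set whose orthogonal is totally singular contains it in its span. -/
theorem perpOf_le_span {k : ℕ} (d : Fin k → Fin n → F₀) (h : ∀ x ∈ S.perpOf d, S.quad x = 0) :
    S.perpOf d ≤ Submodule.span F₀ (Set.range d) := by
  have hrefl : S.quad.polarBilin.IsRefl := fun a b h => by
    rw [QuadraticMap.polarBilin_apply_apply] at h ⊢
    rwa [QuadraticMap.polar_comm]
  intro x hx
  rw [← LinearMap.BilinForm.orthogonal_orthogonal (quad_nondegenerate S) hrefl (Submodule.span F₀ (Set.range d))]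
  refine (LinearMap.BilinForm.mem_orthogonal_iff).2 fun y hy => ?_
  have hy' : y ∈ S.perpOf d := hy
  show QuadraticMap.polar S.quad y x = 0
  rw [QuadraticMap.polar, h _ ((S.perpOf d).add_mem hy' hx), h y hy', h x hx, sub_zero, sub_zero]

omit S

/-- An orthogonal splitting of the rational space into two planes, the second one diagonalised. -/
structure Frame (f : (Fin n → F) → (Fin n → F) → F) (F₀ : Subfield F) (a b y₁ y₂ : Fin n → F) : Prop where
  ra : Rv F₀ a
  rb : Rv F₀ b
  r1 : Rv F₀ y₁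
  r2 : Rv F₀ y₂
  e1a : f y₁ a = 0
  e1b : f y₁ b = 0
  e2a : f y₂ a = 0
  e2b : f y₂ b = 0
  e21 : f y₂ y₁ = 0
  n1 : f y₁ y₁ ≠ 0
  n2 : f y₂ y₂ ≠ 0
  det : f a a * f b b - f a b * f a b ≠ 0

include S

theorem rat_coe {x y : Fin n → F} (hx : Rv F₀ x) (hy : Rv F₀ y) : σ (f x y) = f x y :=
  (S.fixed _).2 (S.rat x y hx hy)

/-- Prescribed pairings on a non-degenerate rational plane. -/
theorem solve {a b : Fin n → F} (ha : Rv F₀ a) (hb : Rv F₀ b) (hD : f a a * f b b - f a b * f a b ≠ 0) (P R : F) :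
    ∃ r s : F, f (r • a + s • b) a = P ∧ f (r • a + s • b) b = R ∧
      r = (f b b * P - f a b * R) / (f a a * f b b - f a b * f a b) ∧
      s = (f a a * R - f a b * P) / (f a a * f b b - f a b * f a b) := by
  refine ⟨_, _, ?_, ?_, rfl, rfl⟩
  all_goals
    simp only [Unit.add_left S.unit, Unit.smul_left S.unit, S.symm hb ha]
    rw [div_mul_eq_mul_div, div_mul_eq_mul_div, ← add_div, div_eq_iff hD]
    ring

theorem Frame.swap' {a b y₁ y₂ : Fin n → F} (Φ : Frame f F₀ a b y₁ y₂) :
    f a y₁ = 0 ∧ f b y₁ = 0 ∧ f a y₂ = 0 ∧ f b y₂ = 0 ∧ f y₁ y₂ = 0 ∧ f b a = f a b :=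
  ⟨by rw [S.symm Φ.ra Φ.r1, Φ.e1a], by rw [S.symm Φ.rb Φ.r1, Φ.e1b], by rw [S.symm Φ.ra Φ.r2, Φ.e2a],
    by rw [S.symm Φ.rb Φ.r2, Φ.e2b], by rw [S.symm Φ.r1 Φ.r2, Φ.e21], S.symm Φ.rb Φ.ra⟩

/-- A vector orthogonal to the frame vanishes. -/
theorem Frame.eq_zero {a b y₁ y₂ : Fin n → F} (Φ : Frame f F₀ a b y₁ y₂) {z : Fin n → F} (h1 : f z a = 0)
    (h2 : f z b = 0) (h3 : f z y₁ = 0) (h4 : f z y₂ = 0) : z = 0 := by
  obtain ⟨s1, s2, s3, s4, s5, s6⟩ := Φ.swap' S
  have hf := S.unit
  let L : (Fin n → F) →ₗ[F] (Fin 4 → F) :=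
    { toFun := fun x => ![f x a, f x b, f x y₁, f x y₂]
      map_add' := fun x y => by ext i; fin_cases i <;> simp [Unit.add_left hf]
      map_smul' := fun c x => by ext i; fin_cases i <;> simp [Unit.smul_left hf] }
  have hsurj : Function.Surjective L := by
    intro t
    obtain ⟨r, s, e1, e2, -, -⟩ := solve S Φ.ra Φ.rb Φ.det (t 0) (t 1)
    refine ⟨(r • a + s • b) + ((t 2 / f y₁ y₁) • y₁ + (t 3 / f y₂ y₂) • y₂), ?_⟩
    have hn1 := Φ.n1
    have hn2 := Φ.n2
    ext i
    fin_cases i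
    · simp only [L, LinearMap.coe_mk, AddHom.coe_mk, Fin.zero_eta, Fin.isValue, Matrix.cons_val_zero]
      rw [Unit.add_left hf (r • a + s • b), e1]
      simp [Unit.add_left hf, Unit.smul_left hf, Φ.e1a, Φ.e2a]
    · simp only [L, LinearMap.coe_mk, AddHom.coe_mk, Fin.mk_one, Fin.isValue, Matrix.cons_val_one, Matrix.cons_val_zero]
      rw [Unit.add_left hf (r • a + s • b), e2]
      simp [Unit.add_left hf, Unit.smul_left hf, Φ.e1b, Φ.e2b]
    · simp [L, Unit.add_left hf, Unit.smul_left hf, s1, s2, Φ.e21, hn1]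
    · simp [L, Unit.add_left hf, Unit.smul_left hf, s3, s4, s5, hn2]
  have hinj : Function.Injective L :=
    (LinearMap.injective_iff_surjective_of_finrank_eq_finrank (by simp [S.four])).2 hsurj
  refine hinj ?_
  rw [map_zero]
  ext i
  fin_cases i <;> simp [L, h1, h2, h3, h4]

/-- Expansion along the frame. -/
theorem Frame.expand {a b y₁ y₂ : Fin n → F} (Φ : Frame f F₀ a b y₁ y₂) (z : Fin n → F) :
    ∃ r s : F, z = r • a + s • b + (f z y₁ / f y₁ y₁) • y₁ + (f z y₂ / f y₂ y₂) • y₂ := by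
  obtain ⟨s1, s2, s3, s4, s5, s6⟩ := Φ.swap' S
  obtain ⟨r, s, e1, e2, -, -⟩ := solve S Φ.ra Φ.rb Φ.det (f z a) (f z b)
  have hf := S.unit
  have hn1 := Φ.n1
  have hn2 := Φ.n2
  refine ⟨r, s, sub_eq_zero.1 (Φ.eq_zero S ?_ ?_ ?_ ?_)⟩
  · rw [Unit.sub_left hf, Unit.add_left hf, Unit.add_left hf, e1]
    simp [Unit.smul_left hf, Φ.e1a, Φ.e2a]
  · rw [Unit.sub_left hf, Unit.add_left hf, Unit.add_left hf, e2]
    simp [Unit.smul_left hf, Φ.e1b, Φ.e2b]
  · simp [Unit.sub_left hf, Unit.add_left hf, Unit.smul_left hf, s1, s2, Φ.e21, hn1]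
  · simp [Unit.sub_left hf, Unit.add_left hf, Unit.smul_left hf, s3, s4, s5, hn2]

/-- A vector orthogonal to the plane lies in the span of the other two. -/
theorem Frame.expand_perp {a b y₁ y₂ : Fin n → F} (Φ : Frame f F₀ a b y₁ y₂) {z : Fin n → F} (h1 : f z a = 0)
    (h2 : f z b = 0) : z = (f z y₁ / f y₁ y₁) • y₁ + (f z y₂ / f y₂ y₂) • y₂ := by
  obtain ⟨s1, s2, s3, s4, s5, s6⟩ := Φ.swap' S
  have hf := S.unit
  have hn1 := Φ.n1
  have hn2 := Φ.n2
  refine sub_eq_zero.1 (Φ.eq_zero S ?_ ?_ ?_ ?_)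
  · simp [Unit.sub_left hf, Unit.add_left hf, Unit.smul_left hf, h1, Φ.e1a, Φ.e2a]
  · simp [Unit.sub_left hf, Unit.add_left hf, Unit.smul_left hf, h2, Φ.e1b, Φ.e2b]
  · simp [Unit.sub_left hf, Unit.add_left hf, Unit.smul_left hf, Φ.e21, hn1]
  · simp [Unit.sub_left hf, Unit.add_left hf, Unit.smul_left hf, s5, hn2]

/-- Every non-degenerate rational plane extends to a frame. -/
theorem exists_frame {a b : Fin n → F} (ha : Rv F₀ a) (hb : Rv F₀ b) (hD : f a a * f b b - f a b * f a b ≠ 0) :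
    ∃ y₁ y₂, Frame f F₀ a b y₁ y₂ := by
  have hf := S.unit
  obtain ⟨a', rfl⟩ := exists_down ha
  obtain ⟨b', rfl⟩ := exists_down hb
  obtain ⟨y, hy, hyq⟩ : ∃ y ∈ S.perpOf ![a', b'], S.quad y ≠ 0 := by
    by_contra hc
    push Not at hc
    have hle := perpOf_le_span S ![a', b'] hc
    have h3 := le_finrank_perpOf S ![a', b']
    have := S.four
    obtain ⟨x, hx, hx0⟩ := Submodule.exists_mem_ne_zero_of_ne_bot (p := S.perpOf ![a', b']) fun h => by
      rw [h, finrank_bot] at h3; omega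
    obtain ⟨c, hc'⟩ := (Submodule.mem_span_range_iff_exists_fun F₀).1 (hle hx)
    have h1 := (mem_perpOf S).1 hx 0
    have h2 := (mem_perpOf S).1 hx 1
    simp only [Matrix.cons_val_zero, Matrix.cons_val_one] at h1 h2
    rw [← hc', Fin.sum_univ_two, Matrix.cons_val_zero, Matrix.cons_val_one] at hx0
    simp only [← hc', Fin.sum_univ_two, Matrix.cons_val_zero, Matrix.cons_val_one, up_add, up_smul,
      Unit.add_left hf, Unit.smul_left hf, S.symm (up_rv b') (up_rv a')] at h1 h2
    have hr : (c 0 : F) = 0 := (mul_eq_zero.1 (show (c 0 : F) * (f (up a') (up a') * f (up b') (up b') -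
      f (up a') (up b') * f (up a') (up b')) = 0 by
        linear_combination f (up b') (up b') * h1 - f (up a') (up b') * h2)).resolve_right hD
    have hs : (c 1 : F) = 0 := (mul_eq_zero.1 (show (c 1 : F) * (f (up a') (up a') * f (up b') (up b') -
      f (up a') (up b') * f (up a') (up b')) = 0 by
        linear_combination f (up a') (up a') * h2 - f (up a') (up b') * h1)).resolve_right hD
    rw [show c 0 = 0 from Subtype.ext hr, show c 1 = 0 from Subtype.ext hs, zero_smul, zero_smul, add_zero] at hx0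
    exact hx0 rfl
  have hy1 := (mem_perpOf S).1 hy 0
  have hy2 := (mem_perpOf S).1 hy 1
  simp only [Matrix.cons_val_zero, Matrix.cons_val_one] at hy1 hy2
  have hyy : f (up y) (up y) ≠ 0 := fun h => hyq (Subtype.ext (by rw [quad_coe S]; exact h))
  obtain ⟨z, hz, hz0, hzd⟩ := exists_orth' S (k := 3) (by have := S.four; omega) ![up a', up b', up y]
    (fun i => by fin_cases i <;> exact up_rv _)
  have z1 : f z (up a') = 0 := hzd 0
  have z2 : f z (up b') = 0 := hzd 1
  have z3 : f z (up y) = 0 := hzd 2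
  refine ⟨up y, z, up_rv _, up_rv _, up_rv _, hz, hy1, hy2, z1, z2, z3, hyy, fun hzz => hz0 ?_, hD⟩
  -- the third vector is anisotropic
  let L : (Fin n → F) →ₗ[F] (Fin 4 → F) :=
    { toFun := fun x => ![f x (up a'), f x (up b'), f x (up y), f x z]
      map_add' := fun x y => by ext i; fin_cases i <;> simp [Unit.add_left hf]
      map_smul' := fun c x => by ext i; fin_cases i <;> simp [Unit.smul_left hf] }
  obtain ⟨w, hw, hwz⟩ : ∃ w, Rv F₀ w ∧ f w z ≠ 0 := by
    by_contra hc'
    push Not at hc'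
    exact hz0 (eq_zero_of_rv S fun w hw => by rw [S.symm hz hw]; exact hc' w hw)
  have hsurj : Function.Surjective L := by
    intro t
    obtain ⟨r, s, e1, e2, -, -⟩ := solve S (up_rv a') (up_rv b') hD (t 0 - t 3 / f w z * f w (up a'))
      (t 1 - t 3 / f w z * f w (up b'))
    refine ⟨(t 3 / f w z) • w + (r • up a' + s • up b') +
      ((t 2 - t 3 / f w z * f w (up y)) / f (up y) (up y)) • up y, ?_⟩
    ext i
    fin_cases i
    · simp only [L, LinearMap.coe_mk, AddHom.coe_mk, Fin.zero_eta, Fin.isValue, Matrix.cons_val_zero]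
      rw [Unit.add_left hf, Unit.add_left hf, e1]
      simp [Unit.smul_left hf, hy1]
    · simp only [L, LinearMap.coe_mk, AddHom.coe_mk, Fin.mk_one, Fin.isValue, Matrix.cons_val_one, Matrix.cons_val_zero]
      rw [Unit.add_left hf, Unit.add_left hf, e2]
      simp [Unit.smul_left hf, hy2]
    · simp [L, Unit.add_left hf, Unit.smul_left hf, S.symm (up_rv a') (up_rv y), S.symm (up_rv b') (up_rv y), hy1, hy2,
        hyy]
    · simp [L, Unit.add_left hf, Unit.smul_left hf, S.symm (up_rv a') hz, S.symm (up_rv b') hz,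
        S.symm (up_rv y) hz, z1, z2, z3, hwz]
  have hinj : Function.Injective L :=
    (LinearMap.injective_iff_surjective_of_finrank_eq_finrank (by simp [S.four])).2 hsurj
  refine hinj ?_
  rw [map_zero]
  ext i
  fin_cases i <;> simp [L, z1, z2, z3, hzz]

/-- A rational partner of a singular vector. -/
theorem exists_partner {u : Fin n → F} (hu : Rv F₀ u) (hu0 : u ≠ 0) (huu : f u u = 0) :
    ∃ p, Rv F₀ p ∧ f p p = 0 ∧ f u p ≠ 0 := by
  have hf := S.unit
  obtain ⟨z, hz, -, hzu⟩ := exists_orth_ne S (k := 0) ![] (fun i => i.elim0) hu (by simp [hu0])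
  have hk : -f z z / (2 * f z u) ∈ F₀ := F₀.div_mem (F₀.neg_mem (S.rat _ _ hz hz))
    (F₀.mul_mem (ofNat_mem F₀ 2) (S.rat _ _ hz hu))
  refine ⟨z + (-f z z / (2 * f z u)) • u, hz.add (hu.smul hk), ?_, ?_⟩
  · simp only [Unit.add_left hf, Unit.add_right hf, Unit.smul_left hf, S.smul_right' hk, huu, S.symm hu hz]
    have := S.two
    field_simp
    ring
  · rw [Unit.add_right hf, S.smul_right' hk, huu, mul_zero, add_zero, S.symm hu hz]
    exact hzu

/-- A hyperbolic pair gives a frame. -/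
theorem exists_frame_pair {u p : Fin n → F} (hu : Rv F₀ u) (hp : Rv F₀ p) (huu : f u u = 0) (hpp : f p p = 0)
    (hup : f u p ≠ 0) : ∃ y₁ y₂, Frame f F₀ u p y₁ y₂ :=
  exists_frame S hu hp (by rw [huu, zero_mul, zero_sub, neg_ne_zero]; exact mul_ne_zero hup hup)

/-- A binary rational form represents every rational value. -/
theorem exists_rep {y₁ y₂ : Fin n → F} (h1 : Rv F₀ y₁) (h2 : Rv F₀ y₂) (h : f y₂ y₁ = 0) (n1 : f y₁ y₁ ≠ 0)
    (n2 : f y₂ y₂ ≠ 0) {c : F} (hc : c ∈ F₀) :
    ∃ x y : F, x ∈ F₀ ∧ y ∈ F₀ ∧ f (x • y₁ + y • y₂) (x • y₁ + y • y₂) = c := by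
  haveI := Fintype.ofFinite F₀
  have two' : (2 : F₀) ≠ 0 := two_ne_zero' S
  obtain ⟨x, y, hxy⟩ := CfsgLib.Orth.exists_binary two' (A := (⟨_, S.rat _ _ h1 h1⟩ : F₀))
    (B := (⟨_, S.rat _ _ h2 h2⟩ : F₀)) (fun e => n1 (congrArg Subtype.val e)) (fun e => n2 (congrArg Subtype.val e)) ⟨c, hc⟩
  refine ⟨x, y, x.2, y.2, ?_⟩
  have hxy' := congrArg Subtype.val hxy
  push_cast at hxy'
  simp only [Unit.add_left S.unit, Unit.add_right S.unit, Unit.smul_left S.unit, S.smul_right' x.2,
    S.smul_right' y.2, h, S.symm h1 h2]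
  linear_combination hxy'

/-! ### Reflections -/

omit S

/-- The reflection in an anisotropic vector. -/
noncomputable def refl (f : (Fin n → F) → (Fin n → F) → F) (d : Fin n → F) : GL (Fin n) F :=
  letI := Classical.propDecidable ((1 + vecMulVec d ((-2 / f d d) • fVec f d) : Matrix (Fin n) (Fin n) F).det = 0)
  if h : (1 + vecMulVec d ((-2 / f d d) • fVec f d) : Matrix (Fin n) (Fin n) F).det = 0 then 1
  else Matrix.GeneralLinearGroup.mkOfDetNeZero _ h

include S

theorem refl_det {d : Fin n → F} (hdd : f d d ≠ 0) :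
    (1 + vecMulVec d ((-2 / f d d) • fVec f d) : Matrix (Fin n) (Fin n) F).det = -1 := by
  rw [vecMulVec_eq Unit, det_one_add_replicateCol_mul_replicateRow, smul_dotProduct, (Unit.sesq S.unit).fVec_dot,
    smul_eq_mul, div_mul_cancel₀ _ hdd]
  norm_num

theorem refl_val {d : Fin n → F} (hdd : f d d ≠ 0) :
    (refl f d : Matrix (Fin n) (Fin n) F) = 1 + vecMulVec d ((-2 / f d d) • fVec f d) := by
  rw [refl, dif_neg (by rw [refl_det S hdd]; exact neg_ne_zero.2 one_ne_zero)]
  rfl

theorem refl_mulVec {d : Fin n → F} (hdd : f d d ≠ 0) (x : Fin n → F) :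
    (refl f d : Matrix (Fin n) (Fin n) F) *ᵥ x = x + (-2 / f d d * f x d) • d := by
  rw [refl_val S hdd, add_mulVec, one_mulVec, vecMulVec_mulVec, op_smul_eq_smul, smul_dotProduct,
    (Unit.sesq S.unit).fVec_dot, smul_eq_mul]

theorem refl_isometry {d : Fin n → F} (hd : Rv F₀ d) (hdd : f d d ≠ 0) : Symp.IsIsometry f (refl f d) := by
  intro x y
  have hf := S.unit
  have hσ : σ (-2 / f d d) = -2 / f d d := by
    rw [map_div₀, map_neg, map_ofNat, rat_coe S hd hd]
  simp only [refl_mulVec S hdd, Unit.add_left hf, Unit.add_right hf, Unit.smul_left hf, Unit.smul_right hf, map_mul,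
    hσ, Unit.conj_form hf]
  field_simp
  ring

end CfsgLib.GeomClasses.UnitFourOrth
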