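import Cfsg.Agent.Lib.GeomClasses.SkewPairMax
import Cfsg.Agent.Lib.GeomClasses.UnitClauses
import Cfsg.Agent.Lib.GeomClasses.UnitCircle

/-!
A pair of complementary totally isotropic planes in a unitary space of dimension four.  An element outside
the stabiliser gives a root element with one component in a plane, hence a transvection centred in a plane.
-/

set_option autoImplicit false
set_option linter.unusedSectionVars false

namespace CfsgLib.GeomClasses.UnitFour

open Matrix CfsgLib.GeomClasses.SkewPair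

variable {F : Type*} [Field F] {σ : F ≃+* F} {f : (Fin 4 → F) → (Fin 4 → F) → F}
  {A B : Submodule F (Fin 4 → F)}

/-- Two complementary totally isotropic planes. -/
structure Duet (σ : F ≃+* F) (f : (Fin 4 → F) → (Fin 4 → F) → F) (A B : Submodule F (Fin 4 → F)) : Prop where
  herm : IsSkewHerm σ f
  isoA : ∀ x ∈ A, ∀ y ∈ A, f x y = 0
  isoB : ∀ x ∈ B, ∀ y ∈ B, f x y = 0
  rankA : Module.finrank F A = 2
  rankB : Module.finrank F B = 2
  span : ∀ v, ∃ a ∈ A, ∃ b ∈ B, a + b = v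

variable (P : Duet σ f A B)
include P

theorem Duet.swap : Duet σ f B A where
  herm := P.herm
  isoA := P.isoB
  isoB := P.isoA
  rankA := P.rankB
  rankB := P.rankA
  span := fun v => by
    obtain ⟨a, ha, b, hb, h⟩ := P.span v
    exact ⟨b, hb, a, ha, by rw [add_comm, h]⟩

theorem Duet.eq_zero_of {y : Fin 4 → F} (hy : y ∈ B) (h : ∀ a ∈ A, f y a = 0) : y = 0 := by
  by_contra hne
  obtain ⟨z, hz⟩ := P.herm.nondegenerate y hne
  obtain ⟨a, ha, b, hb, rfl⟩ := P.span z
  exact hz (by rw [add_right P.herm, h a ha, P.isoB y hy b hb, add_zero])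

theorem Duet.disjoint {x : Fin 4 → F} (hA : x ∈ A) (hB : x ∈ B) : x = 0 :=
  P.eq_zero_of hB fun a ha => P.isoA x hA a ha

theorem Duet.comp_eq {a a' b b' : Fin 4 → F} (ha : a ∈ A) (ha' : a' ∈ A) (hb : b ∈ B) (hb' : b' ∈ B)
    (h : a + b = a' + b') : a = a' ∧ b = b' := by
  have e : a - a' = b' - b := by rw [sub_eq_sub_iff_add_eq_add, h, add_comm]
  have h0 := P.disjoint (A.sub_mem ha ha') (e ▸ B.sub_mem hb' hb)
  exact ⟨sub_eq_zero.1 h0, (sub_eq_zero.1 (e ▸ h0)).symm⟩

theorem Duet.exists_dual_one {x : Fin 4 → F} (hx : x ∈ A) (hx0 : x ≠ 0) : ∃ b ∈ B, f x b ≠ 0 := by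
  by_contra! h
  exact hx0 (P.swap.eq_zero_of hx h)

theorem Duet.exists_orth (x : Fin 4 → F) : ∃ w ∈ B, w ≠ 0 ∧ f x w = 0 := by
  let φ : B →ₗ[F] F :=
    { toFun := fun y => f y x
      map_add' := fun y z => add_left P.herm _ _ _
      map_smul' := fun c y => smul_left P.herm _ _ _ }
  have h1 := φ.finrank_range_add_finrank_ker
  have h2 := Submodule.finrank_le (LinearMap.range φ)
  rw [Module.finrank_self] at h2
  rw [P.rankB] at h1
  obtain ⟨w, hw, hw0⟩ := Submodule.exists_mem_ne_zero_of_ne_bot (p := LinearMap.ker φ) fun h => by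
    rw [h, finrank_bot] at h1; omega
  exact ⟨w, w.2, fun h => hw0 (Subtype.ext h), eq_zero_comm P.herm (LinearMap.mem_ker.1 hw)⟩

theorem Duet.span_pair {a₁ a₂ : Fin 4 → F} (h1 : a₁ ∈ A) (h2 : a₂ ∈ A) (h10 : a₁ ≠ 0)
    (hi : a₂ ∉ Submodule.span F {a₁}) : ∀ a ∈ A, ∃ r s : F, r • a₁ + s • a₂ = a := by
  have hli : LinearIndependent F ![a₁, a₂] := (LinearIndependent.pair_iff' h10).2 fun k h =>
    hi (Submodule.mem_span_singleton.2 ⟨k, h⟩)
  have heq : Submodule.span F (Set.range ![a₁, a₂]) = A :=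
    Submodule.eq_of_le_of_finrank_eq (Submodule.span_le.2 (by
      rintro _ ⟨i, rfl⟩
      fin_cases i <;> assumption))
      (by rw [finrank_span_eq_card hli, P.rankA, Fintype.card_fin])
  intro a ha
  rw [← heq, Submodule.mem_span_range_iff_exists_fun] at ha
  obtain ⟨c, hc⟩ := ha
  exact ⟨c 0, c 1, by simpa [Fin.sum_univ_two] using hc⟩

theorem Duet.eq_zero_of_pair {a₁ a₂ y : Fin 4 → F} (h1 : a₁ ∈ A) (h2 : a₂ ∈ A) (h10 : a₁ ≠ 0)
    (hi : a₂ ∉ Submodule.span F {a₁}) (hy : y ∈ B) (e1 : f a₁ y = 0) (e2 : f a₂ y = 0) : y = 0 :=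
  P.eq_zero_of hy fun a ha => by
    obtain ⟨r, s, rfl⟩ := P.span_pair h1 h2 h10 hi a ha
    refine eq_zero_comm P.herm ?_
    rw [add_left P.herm, smul_left P.herm, smul_left P.herm, e1, e2, mul_zero, mul_zero, add_zero]

/-- The dual basis in the other plane. -/
theorem Duet.exists_dual {a₁ a₂ : Fin 4 → F} (h1 : a₁ ∈ A) (h2 : a₂ ∈ A) (h10 : a₁ ≠ 0)
    (hi : a₂ ∉ Submodule.span F {a₁}) :
    ∃ b₁ ∈ B, ∃ b₂ ∈ B, f a₁ b₁ = 1 ∧ f a₂ b₁ = 0 ∧ f a₁ b₂ = 0 ∧ f a₂ b₂ = 1 := by
  have S := P.herm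
  let Φ : B →ₗ[F] (Fin 2 → F) :=
    { toFun := fun y i => f y (![a₁, a₂] i)
      map_add' := fun y z => funext fun i => add_left S _ _ _
      map_smul' := fun c y => funext fun i => smul_left S _ _ _ }
  have hinj : Function.Injective Φ := (injective_iff_map_eq_zero Φ).2 fun y hy => Subtype.ext <|
    P.eq_zero_of_pair h1 h2 h10 hi y.2 (eq_zero_comm S (congrFun hy 0)) (eq_zero_comm S (congrFun hy 1))
  have hsurj : Function.Surjective Φ :=
    (LinearMap.injective_iff_surjective_of_finrank_eq_finrank (by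
      rw [P.rankB, Module.finrank_fintype_fun_eq_card, Fintype.card_fin])).1 hinj
  obtain ⟨y₁, hy₁⟩ := hsurj ![-1, 0]
  obtain ⟨y₂, hy₂⟩ := hsurj ![0, -1]
  refine ⟨y₁, y₁.2, y₂, y₂.2, ?_, ?_, ?_, ?_⟩
  · rw [S.skew]; simpa [Φ] using congrArg (fun z => - σ (z 0)) hy₁
  · rw [S.skew]; simpa [Φ] using congrArg (fun z => - σ (z 1)) hy₁
  · rw [S.skew]; simpa [Φ] using congrArg (fun z => - σ (z 0)) hy₂
  · rw [S.skew]; simpa [Φ] using congrArg (fun z => - σ (z 1)) hy₂

/-- An element with prescribed images of a basis having the same values of the form. -/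
theorem Duet.exists_map {a₁ a₂ b₁ b₂ : Fin 4 → F} (h1 : a₁ ∈ A) (h2 : a₂ ∈ A) (k1 : b₁ ∈ B) (k2 : b₂ ∈ B)
    (e11 : f a₁ b₁ = 1) (e21 : f a₂ b₁ = 0) (e12 : f a₁ b₂ = 0) (e22 : f a₂ b₂ = 1)
    (C : Matrix (Fin 4) (Fin 4) F) (hC : C.det ≠ 0) (w : Fin 4 → Fin 4 → F)
    (hw : ∀ j, w j = ∑ i, C i j • ![a₁, a₂, b₁, b₂] i)
    (hgram : ∀ i j, f (w i) (w j) = f (![a₁, a₂, b₁, b₂] i) (![a₁, a₂, b₁, b₂] j)) :
    ∃ g : GL (Fin 4) F, (∀ x y, f ((g : Matrix (Fin 4) (Fin 4) F) *ᵥ x) ((g : Matrix (Fin 4) (Fin 4) F) *ᵥ y) = f x y) ∧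
      (g : Matrix (Fin 4) (Fin 4) F).det = C.det ∧
      ∀ j, (g : Matrix (Fin 4) (Fin 4) F) *ᵥ ![a₁, a₂, b₁, b₂] j = w j := by
  have S := P.herm
  set e : Fin 4 → Fin 4 → F := ![a₁, a₂, b₁, b₂] with he
  let T₀ : Matrix (Fin 4) (Fin 4) F := Matrix.of fun i j => e j i
  have hT₀ : ∀ z : Fin 4 → F, T₀ *ᵥ z = ∑ j, z j • e j := fun z => funext fun i => by
    simp [T₀, mulVec, dotProduct, Finset.sum_apply, mul_comm]
  have hinj : Function.Injective T₀.mulVec := by
    intro x y hxy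
    rw [← sub_eq_zero]
    rw [← sub_eq_zero, ← mulVec_sub, hT₀, Fin.sum_univ_four] at hxy
    set z := x - y
    have hz : z 0 • a₁ + z 1 • a₂ + z 2 • b₁ + z 3 • b₂ = 0 := by simpa [he] using hxy
    have h2' : f b₁ a₁ = -1 ∧ f b₂ a₁ = 0 ∧ f b₁ a₂ = 0 ∧ f b₂ a₂ = -1 := by
      refine ⟨?_, ?_, ?_, ?_⟩ <;> rw [S.skew] <;> simp [e11, e12, e21, e22]
    have d1 := congrArg (fun v => f v b₁) hz
    have d2 := congrArg (fun v => f v b₂) hz
    have d3 := congrArg (fun v => f v a₁) hz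
    have d4 := congrArg (fun v => f v a₂) hz
    simp only [add_left S, smul_left S, zero_left S, e11, e12, e21, e22, P.isoB b₁ k1 b₁ k1, P.isoB b₂ k2 b₁ k1,
      P.isoB b₁ k1 b₂ k2, P.isoB b₂ k2 b₂ k2, P.isoA a₁ h1 a₁ h1, P.isoA a₂ h2 a₁ h1, P.isoA a₁ h1 a₂ h2,
      P.isoA a₂ h2 a₂ h2, h2'.1, h2'.2.1, h2'.2.2.1, h2'.2.2.2, mul_zero, mul_one, add_zero, zero_add, mul_neg,
      neg_eq_zero] at d1 d2 d3 d4
    funext i
    fin_cases i <;> assumption
  obtain ⟨T, hT⟩ := Matrix.mulVec_injective_iff_isUnit.1 hinj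
  let Cu : GL (Fin 4) F := Matrix.GeneralLinearGroup.mkOfDetNeZero C hC
  have hTs : ∀ j, (T : Matrix (Fin 4) (Fin 4) F) *ᵥ Pi.single j 1 = e j := fun j => by
    rw [hT, hT₀, Finset.sum_eq_single j (fun i _ hi => by simp [hi]) (by simp)]
    simp
  have hgs : ∀ z : Fin 4 → F, ((T * Cu * T⁻¹ : GL (Fin 4) F) : Matrix (Fin 4) (Fin 4) F) *ᵥ
      ((T : Matrix (Fin 4) (Fin 4) F) *ᵥ z) = ∑ j, z j • w j := fun z => by
    rw [gl_mul_mulVec, gl_mul_mulVec, gl_inv_mulVec_mulVec]
    show (T : Matrix (Fin 4) (Fin 4) F) *ᵥ (C *ᵥ z) = _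
    simp only [hT, hT₀, hw, mulVec, dotProduct, Finset.sum_smul, Finset.smul_sum, smul_smul]
    rw [Finset.sum_comm]
    exact Finset.sum_congr rfl fun j _ => Finset.sum_congr rfl fun i _ => by rw [mul_comm]
  refine ⟨T * Cu * T⁻¹, fun x y => ?_, ?_, fun j => ?_⟩
  · obtain ⟨x, rfl⟩ : ∃ z, x = (T : Matrix (Fin 4) (Fin 4) F) *ᵥ z := ⟨_, (gl_mulVec_inv_mulVec T x).symm⟩
    obtain ⟨y, rfl⟩ : ∃ z, y = (T : Matrix (Fin 4) (Fin 4) F) *ᵥ z := ⟨_, (gl_mulVec_inv_mulVec T y).symm⟩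
    rw [hgs, hgs, hT, hT₀, hT₀]
    simp only [S.sesq.sum_left, S.sesq.sum_right, smul_left S, smul_right S, hgram]
  · rw [Units.val_mul, Units.val_mul, det_mul, det_mul, mul_right_comm, ← det_mul, ← Units.val_mul, mul_inv_cancel,
      Units.val_one, det_one, one_mul]
    rfl
  · rw [← hTs j, hgs, Finset.sum_eq_single j (fun i _ hi => by simp [hi]) (by simp)]
    simp

omit P

/-- The centres of full transvection groups in a subgroup. -/
def Axes (σ : F ≃+* F) (f : (Fin 4 → F) → (Fin 4 → F) → F) (M : Subgroup (GL (Fin 4) F)) : Set (Fin 4 → F) :=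
  {v | f v v = 0 ∧ ∀ c, σ c = c → formTv f v c ∈ M}

/-- A group of isometries containing the isometries of determinant one that permute the two planes. -/
structure Holds (σ : F ≃+* F) (f : (Fin 4 → F) → (Fin 4 → F) → F) (A B : Submodule F (Fin 4 → F))
    (M : Subgroup (GL (Fin 4) F)) : Prop where
  duet : Duet σ f A B
  iso : ∀ g ∈ M, ∀ x y, f ((g : Matrix (Fin 4) (Fin 4) F) *ᵥ x) ((g : Matrix (Fin 4) (Fin 4) F) *ᵥ y) = f x y
  keep : ∀ g : GL (Fin 4) F,
    (∀ x y, f ((g : Matrix (Fin 4) (Fin 4) F) *ᵥ x) ((g : Matrix (Fin 4) (Fin 4) F) *ᵥ y) = f x y) →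
    (g : Matrix (Fin 4) (Fin 4) F).det = 1 →
    ((∀ x ∈ A, (g : Matrix (Fin 4) (Fin 4) F) *ᵥ x ∈ A) ∧ (∀ x ∈ B, (g : Matrix (Fin 4) (Fin 4) F) *ᵥ x ∈ B)) ∨
      ((∀ x ∈ A, (g : Matrix (Fin 4) (Fin 4) F) *ᵥ x ∈ B) ∧ (∀ x ∈ B, (g : Matrix (Fin 4) (Fin 4) F) *ᵥ x ∈ A)) →
    g ∈ M
  sq : ∃ r : F, σ r = r ∧ r ≠ 0 ∧ r * r ≠ 1

variable {M : Subgroup (GL (Fin 4) F)} (O : Holds σ f A B M)
include O

theorem Holds.swap : Holds σ f B A M where
  duet := O.duet.swap
  iso := O.iso
  keep := fun g hi hd h => O.keep g hi hd (h.elim (fun h => Or.inl ⟨h.2, h.1⟩) fun h => Or.inr ⟨h.2, h.1⟩)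
  sq := O.sq

theorem Holds.axes_map {g : GL (Fin 4) F} (hg : g ∈ M) {v : Fin 4 → F} (hv : v ∈ Axes σ f M) :
    (g : Matrix (Fin 4) (Fin 4) F) *ᵥ v ∈ Axes σ f M := by
  have S := O.duet.herm
  refine ⟨by rw [O.iso g hg, hv.1], fun c hc => ?_⟩
  have h := M.mul_mem (M.mul_mem hg (hv.2 c hc)) (M.inv_mem hg)
  rwa [← root_zero S hv.1, root_conj S (O.iso g hg) hv.1 (zero_right S v), mulVec_zero,
    root_zero S (by rw [O.iso g hg, hv.1])] at h

theorem Holds.axes_smul {v : Fin 4 → F} (hv : v ∈ Axes σ f M) (a : F) : a • v ∈ Axes σ f M := by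
  have S := O.duet.herm
  refine ⟨by rw [smul_left S, smul_right S, hv.1, mul_zero, mul_zero], fun c hc => ?_⟩
  rw [SkewPair.formTv_smul S hv.1]
  exact hv.2 _ (by rw [map_mul, map_mul, S.involutive, hc, mul_comm (σ a) a])

theorem Holds.root_mem {u w : Fin 4 → F} (hu : u ∈ A) (hw : w ∈ B) (huw : f u w = 0) :
    root f u w 0 ∈ M := by
  have P := O.duet
  have S := P.herm
  have huu := P.isoA u hu u hu
  refine O.keep _ (root_isometry S huu huw (by rw [map_zero, P.isoB w hw w hw, sub_zero]))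
    (mem_specialLinear.1 (mul_mem (tv_mem_specialLinear _ _) (tv_mem_specialLinear _ _)))
    (Or.inl ⟨fun x hx => ?_, fun x hx => ?_⟩)
  · rw [root_mulVec S huu huw, P.isoA x hx u hu, zero_smul, add_zero]
    exact A.add_mem hx (A.smul_mem _ hu)
  · rw [root_mulVec S huu huw, P.isoB x hx w hw, zero_mul, zero_add, zero_smul, add_zero]
    exact B.add_mem hx (B.smul_mem _ hw)

/-- The torus of a pair of dual bases. -/
theorem Holds.torus {a₁ a₂ b₁ b₂ : Fin 4 → F} (h1 : a₁ ∈ A) (h2 : a₂ ∈ A) (k1 : b₁ ∈ B) (k2 : b₂ ∈ B)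
    (e11 : f a₁ b₁ = 1) (e21 : f a₂ b₁ = 0) (e12 : f a₁ b₂ = 0) (e22 : f a₂ b₂ = 1) {l m : F} (hl : l ≠ 0)
    (hm : m ≠ 0) (hlm : σ (l * m) = l * m) :
    ∃ g ∈ M, (g : Matrix (Fin 4) (Fin 4) F) *ᵥ a₁ = l • a₁ ∧ (g : Matrix (Fin 4) (Fin 4) F) *ᵥ a₂ = m • a₂ ∧
      (g : Matrix (Fin 4) (Fin 4) F) *ᵥ b₁ = (σ l)⁻¹ • b₁ ∧ (g : Matrix (Fin 4) (Fin 4) F) *ᵥ b₂ = (σ m)⁻¹ • b₂ := by
  have P := O.duet
  have S := P.herm
  have hl' : σ l ≠ 0 := (RingEquiv.map_ne_zero_iff σ).2 hl
  have hm' : σ m ≠ 0 := (RingEquiv.map_ne_zero_iff σ).2 hm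
  let c : Fin 4 → F := ![l, m, (σ l)⁻¹, (σ m)⁻¹]
  have hdet : (Matrix.diagonal c).det = 1 := by
    rw [det_diagonal, Fin.prod_univ_four]
    simp only [c, Matrix.cons_val]
    rw [map_mul] at hlm
    field_simp
    linear_combination -hlm
  obtain ⟨g, hgi, hgd, hgw⟩ := P.exists_map h1 h2 k1 k2 e11 e21 e12 e22 (Matrix.diagonal c)
    (by rw [hdet]; exact one_ne_zero) (fun j => c j • ![a₁, a₂, b₁, b₂] j)
    (fun j => by rw [Finset.sum_eq_single j (fun i _ hi => by simp [hi]) (by simp)]; simp)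
    (fun i j => by
      have f11 : f b₁ a₁ = -1 := by rw [S.skew, e11, map_one]
      have f22 : f b₂ a₂ = -1 := by rw [S.skew, e22, map_one]
      have f12 : f b₁ a₂ = 0 := eq_zero_comm S e21
      have f21 : f b₂ a₁ = 0 := eq_zero_comm S e12
      fin_cases i <;> fin_cases j <;>
        simp [c, smul_left S, smul_right S, e11, e12, e21, e22, f11, f12, f21, f22, P.isoA a₁ h1 a₁ h1,
          P.isoA a₁ h1 a₂ h2, P.isoA a₂ h2 a₁ h1, P.isoA a₂ h2 a₂ h2, P.isoB b₁ k1 b₁ k1, P.isoB b₁ k1 b₂ k2,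
          P.isoB b₂ k2 b₁ k1, P.isoB b₂ k2 b₂ k2, S.involutive, map_inv₀, hl, hm, hl', hm'])
  have g1 : (g : Matrix (Fin 4) (Fin 4) F) *ᵥ a₁ = l • a₁ := by simpa [c] using hgw 0
  have g2 : (g : Matrix (Fin 4) (Fin 4) F) *ᵥ a₂ = m • a₂ := by simpa [c] using hgw 1
  have g3 : (g : Matrix (Fin 4) (Fin 4) F) *ᵥ b₁ = (σ l)⁻¹ • b₁ := by simpa [c] using hgw 2
  have g4 : (g : Matrix (Fin 4) (Fin 4) F) *ᵥ b₂ = (σ m)⁻¹ • b₂ := by simpa [c] using hgw 3
  have hi : a₂ ∉ Submodule.span F {a₁} := fun h => by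
    obtain ⟨k, rfl⟩ := Submodule.mem_span_singleton.1 h
    rw [smul_left S, e12, mul_zero] at e22
    exact zero_ne_one e22
  have h10 : a₁ ≠ 0 := fun h => by rw [h, zero_left S] at e11; exact zero_ne_one e11
  have hb10 : b₁ ≠ 0 := fun h => by rw [h, zero_right S] at e11; exact zero_ne_one e11
  have hbi : b₂ ∉ Submodule.span F {b₁} := fun h => by
    obtain ⟨k, rfl⟩ := Submodule.mem_span_singleton.1 h
    rw [smul_right S, e21, mul_zero] at e22
    exact zero_ne_one e22
  refine ⟨g, O.keep g hgi (hgd.trans hdet) (Or.inl ⟨fun x hx => ?_, fun x hx => ?_⟩), g1, g2, g3, g4⟩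
  · obtain ⟨r, s, rfl⟩ := P.span_pair h1 h2 h10 hi x hx
    rw [mulVec_add, mulVec_smul, mulVec_smul, g1, g2]
    exact A.add_mem (A.smul_mem _ (A.smul_mem _ h1)) (A.smul_mem _ (A.smul_mem _ h2))
  · obtain ⟨r, s, rfl⟩ := P.swap.span_pair k1 k2 hb10 hbi x hx
    rw [mulVec_add, mulVec_smul, mulVec_smul, g3, g4]
    exact B.add_mem (B.smul_mem _ (B.smul_mem _ k1)) (B.smul_mem _ (B.smul_mem _ k2))

/-- An element of the group exchanging the planes. -/
theorem Holds.exists_swap : ∃ g ∈ M, ∀ x ∈ A, (g : Matrix (Fin 4) (Fin 4) F) *ᵥ x ∈ B := by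
  have P := O.duet
  have S := P.herm
  obtain ⟨a₁, h1, h10⟩ := Submodule.exists_mem_ne_zero_of_ne_bot (p := A) fun h => by
    have := P.rankA
    rw [h, finrank_bot] at this; omega
  obtain ⟨a₂, h2, hi⟩ := SetLike.not_le_iff_exists.1 (show ¬ A ≤ Submodule.span F {a₁} from fun h => by
    have := Submodule.finrank_mono h
    rw [P.rankA, finrank_span_singleton h10] at this; omega)
  obtain ⟨b₁, k1, b₂, k2, e11, e21, e12, e22⟩ := P.exists_dual h1 h2 h10 hi
  have hd : (!![0, 0, -1, 0; 0, 0, 0, -1; 1, 0, 0, 0; 0, 1, 0, 0] : Matrix (Fin 4) (Fin 4) F).det = 1 := by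
    simp [Matrix.det_succ_row_zero, Fin.sum_univ_succ, Fin.succAbove]
  obtain ⟨g, hgi, hgd, hgw⟩ := P.exists_map h1 h2 k1 k2 e11 e21 e12 e22 _ (by rw [hd]; exact one_ne_zero)
    ![b₁, b₂, -a₁, -a₂] (fun j => by fin_cases j <;> simp [Fin.sum_univ_four])
    (fun i j => by
      have f11 : f b₁ a₁ = -1 := by rw [S.skew, e11, map_one]
      have f22 : f b₂ a₂ = -1 := by rw [S.skew, e22, map_one]
      have f12 : f b₁ a₂ = 0 := eq_zero_comm S e21
      have f21 : f b₂ a₁ = 0 := eq_zero_comm S e12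
      fin_cases i <;> fin_cases j <;>
        simp [SkewPair.neg_left S, SkewPair.neg_right S, e11, e12, e21, e22, f11, f12, f21, f22,
          P.isoA a₁ h1 a₁ h1, P.isoA a₁ h1 a₂ h2, P.isoA a₂ h2 a₁ h1, P.isoA a₂ h2 a₂ h2, P.isoB b₁ k1 b₁ k1,
          P.isoB b₁ k1 b₂ k2, P.isoB b₂ k2 b₁ k1, P.isoB b₂ k2 b₂ k2])
  have hb10 : b₁ ≠ 0 := fun h => by rw [h, zero_right S] at e11; exact zero_ne_one e11
  have hbi : b₂ ∉ Submodule.span F {b₁} := fun h => by
    obtain ⟨k, rfl⟩ := Submodule.mem_span_singleton.1 h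
    rw [smul_right S, e21, mul_zero] at e22
    exact zero_ne_one e22
  have g1 : (g : Matrix (Fin 4) (Fin 4) F) *ᵥ a₁ = b₁ := by simpa using hgw 0
  have g2 : (g : Matrix (Fin 4) (Fin 4) F) *ᵥ a₂ = b₂ := by simpa using hgw 1
  have g3 : (g : Matrix (Fin 4) (Fin 4) F) *ᵥ b₁ = -a₁ := by simpa using hgw 2
  have g4 : (g : Matrix (Fin 4) (Fin 4) F) *ᵥ b₂ = -a₂ := by simpa using hgw 3
  have hAB : ∀ x ∈ A, (g : Matrix (Fin 4) (Fin 4) F) *ᵥ x ∈ B := fun x hx => by
    obtain ⟨r, s, rfl⟩ := P.span_pair h1 h2 h10 hi x hx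
    rw [mulVec_add, mulVec_smul, mulVec_smul, g1, g2]
    exact B.add_mem (B.smul_mem _ k1) (B.smul_mem _ k2)
  refine ⟨g, O.keep g hgi (hgd.trans hd) (Or.inr ⟨hAB, fun x hx => ?_⟩), hAB⟩
  obtain ⟨r, s, rfl⟩ := P.swap.span_pair k1 k2 hb10 hbi x hx
  rw [mulVec_add, mulVec_smul, mulVec_smul, g3, g4]
  exact A.add_mem (A.smul_mem _ (A.neg_mem h1)) (A.smul_mem _ (A.neg_mem h2))

/-- One transvection centred in a plane gives all with that centre. -/
theorem Holds.axes_of_one {x : Fin 4 → F} (hx : x ∈ A) (hx0 : x ≠ 0) {e : F} (he : σ e = e) (he0 : e ≠ 0)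
    (h : formTv f x e ∈ M) : x ∈ Axes σ f M := by
  have P := O.duet
  have S := P.herm
  obtain ⟨a₂, h2, hi⟩ := SetLike.not_le_iff_exists.1 (show ¬ A ≤ Submodule.span F {x} from fun h => by
    have := Submodule.finrank_mono h
    rw [P.rankA, finrank_span_singleton hx0] at this; omega)
  obtain ⟨b₁, k1, b₂, k2, e11, e21, e12, e22⟩ := P.exists_dual hx h2 hx0 hi
  have hxx := P.isoA x hx x hx
  have hscale : ∀ a : F, formTv f x (a * σ a * e) ∈ M := by
    intro a
    by_cases ha : a = 0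
    · rw [ha, zero_mul, zero_mul, show formTv f x (0 : F) = 1 from gl_ext fun y => by
        simp [formTv_mulVec S hxx]]
      exact M.one_mem
    obtain ⟨g, hg, g1, -⟩ := O.torus hx h2 k1 k2 e11 e21 e12 e22 ha ((RingEquiv.map_ne_zero_iff σ).2 ha)
      (by rw [map_mul, S.involutive, mul_comm])
    have h1 := M.mul_mem (M.mul_mem hg h) (M.inv_mem hg)
    rwa [← root_zero S hxx, root_conj S (O.iso g hg) hxx (zero_right S x), mulVec_zero, g1,
      root_zero S (by rw [smul_left S, smul_right S, hxx, mul_zero, mul_zero]), SkewPair.formTv_smul S hxx] at h1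
  refine ⟨hxx, fun c hc => ?_⟩
  obtain ⟨a, b, hab⟩ := S.norms (c / e) (by rw [map_div₀, hc, he])
  have h1 := M.mul_mem (hscale a) (M.inv_mem (hscale b))
  rw [← root_zero S hxx, ← root_zero S hxx, root_inv S hxx (zero_right S x), neg_zero,
    root_mul S hxx (zero_right S x) (zero_right S x), add_zero, root_zero S hxx, zero_right S, add_zero,
    add_zero] at h1
  rwa [show a * σ a * e + -(b * σ b * e) = c by rw [← sub_eq_add_neg, ← sub_mul, ← hab, div_mul_cancel₀ _ he0]] at h1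

omit O

theorem root_shift_centre (S : IsSkewHerm σ f) {v w : Fin 4 → F} (hv : f v v = 0) (hw : f v w = 0) (a γ : F) :
    root f v (w + a • v) γ = root f v w (γ + a + σ a) := by
  refine gl_ext fun x => ?_
  rw [root_mulVec S hv hw, root_mulVec S hv (by rw [add_right S, smul_right S, hw, hv, mul_zero, add_zero]),
    add_right S, smul_right S]
  module

theorem gamma_real (S : IsSkewHerm σ f) {v k : Fin 4 → F} (hv : f v v = 0) (hv0 : v ≠ 0) (hvk : f v k = 0)
    (hk : f k k = 0) {γ : F}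
    (h : ∀ x y, f ((root f v k γ : Matrix (Fin 4) (Fin 4) F) *ᵥ x) ((root f v k γ : Matrix (Fin 4) (Fin 4) F) *ᵥ y) =
      f x y) : σ γ = γ := by
  obtain ⟨p₀, hp₀⟩ := S.nondegenerate v hv0
  have hp₀' := ne_zero_comm S hp₀
  set p := (f p₀ v)⁻¹ • p₀ with hp
  have hpv : f p v = 1 := by rw [hp, smul_left S, inv_mul_cancel₀ hp₀']
  have hvp : f v p = -1 := by rw [S.skew, hpv, map_one]
  have := h p p
  simp only [root_mulVec S hv hvk, add_left S, add_right S, smul_left S, smul_right S, hpv, hvp, hv, hk, hvk,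
    eq_zero_comm S hvk, map_add, map_mul, map_one, conj_form S] at this
  linear_combination this

variable (O : Holds σ f A B M)
include O

/-- A root element with a component outside the line of the partner gives a centre in the plane. -/
theorem Holds.axes_of_root {v k : Fin 4 → F} (hvv : f v v = 0) (hv0 : v ≠ 0) (hk : k ∈ A)
    (hvk : f v k = 0) (hw : ∃ w ∈ B, f k w = 0 ∧ f v w ≠ 0) {γ : F} (h : root f v k γ ∈ M) :
    k ∈ Axes σ f M := by
  have P := O.duet
  have S := P.herm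
  have hkk := P.isoA k hk k hk
  have hkv := eq_zero_comm S hvk
  have hγ : σ γ = γ := gamma_real S hvv hv0 hvk hkk (O.iso _ h)
  obtain ⟨w, hwB, hkw, hvw⟩ := hw
  let δ : F → F := fun c => c + σ c + γ * c * σ c
  have hr : ∀ c, root f k ((γ * σ c) • v) (δ c) ∈ M := by
    intro c
    have hh := O.root_mem hk (B.smul_mem (σ (c / f v w)) hwB) (by rw [smul_right S, hkw, mul_zero])
    have hhk : (root f k (σ (c / f v w) • w) 0 : Matrix (Fin 4) (Fin 4) F) *ᵥ k = k := by
      rw [root_mulVec S hkk (by rw [smul_right S, hkw, mul_zero]), hkk, smul_right S, hkw]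
      simp
    have hhv : (root f k (σ (c / f v w) • w) 0 : Matrix (Fin 4) (Fin 4) F) *ᵥ v = v + c • k := by
      rw [root_mulVec S hkk (by rw [smul_right S, hkw, mul_zero]), hvk, zero_smul, add_zero, mul_zero, zero_add,
        smul_right S, S.involutive, div_mul_cancel₀ _ hvw]
    have h1 := M.mul_mem (M.mul_mem hh h) (M.inv_mem hh)
    rw [root_conj S (O.iso _ hh) hvv hvk, hhk, hhv] at h1
    have hβ : f k ((γ * σ c) • v) = 0 := by rw [smul_right S, hkv, mul_zero]
    have hsplit : root f (v + c • k) k γ = root f v k γ * root f k ((γ * σ c) • v) (δ c) := by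
      have hv' : f (v + c • k) (v + c • k) = 0 := by
        simp [add_left S, add_right S, smul_left S, smul_right S, hvv, hvk, hkv, hkk]
      refine gl_ext fun x => ?_
      rw [gl_mul_mulVec, root_mulVec S hkk hβ, root_mulVec S hvv hvk,
        root_mulVec S hv' (by rw [add_left S, smul_left S, hvk, hkk, mul_zero, add_zero])]
      simp only [add_left S, add_right S, smul_left S, smul_right S, hvv, hvk, hkv, hkk, map_mul, hγ,
        S.involutive, δ, mul_zero, add_zero]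
      match_scalars <;> ring
    rw [hsplit] at h1
    have h2 := M.mul_mem (M.inv_mem h) h1
    rwa [inv_mul_cancel_left] at h2
  refine ⟨hkk, fun e he => ?_⟩
  obtain ⟨τ, hτ⟩ := S.trace
  set T := e / (τ + σ τ) * τ with hTdef
  have hT : T + σ T = e := by
    rw [hTdef, map_mul, map_div₀, he, map_add, S.involutive, add_comm (σ τ) τ, ← mul_add, div_mul_cancel₀ _ hτ]
  by_cases hγ0 : γ = 0
  · have := hr T
    rwa [hγ0, zero_mul, zero_smul, root_zero S hkk, show δ T = e by
      simp only [δ, hγ0, zero_mul, add_zero]; exact hT] at this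
  · set c' := -(T / γ) with hc'
    have h3 := M.mul_mem (M.mul_mem (hr 1) (hr c')) (M.inv_mem (hr (1 + c')))
    have hp : ∀ c, f k ((γ * σ c) • v) = 0 := fun c => by rw [smul_right S, hkv, mul_zero]
    rw [root_mul S hkk (hp _) (hp _), root_inv S hkk (hp _),
      root_mul S hkk (by rw [add_right S, hp, hp, add_zero]) (by rw [SkewPair.neg_right S, hp, neg_zero])] at h3
    simp only [← add_smul, ← neg_smul, smul_left S, smul_right S, hvv, mul_zero, add_zero, map_add, map_one] at h3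
    rw [show γ * 1 + γ * σ c' + -(γ * (1 + σ c')) = 0 by ring, zero_smul, root_zero S hkk] at h3
    convert h3 using 2
    have e1 : γ * c' = -T := by rw [hc']; field_simp
    have e2 : γ * σ c' = -σ T := by rw [hc', map_neg, map_div₀, hγ]; field_simp
    simp only [δ, map_add, map_one]
    linear_combination e1 + e2 - hT

/-- The degenerate root element gives a centre in one of the planes. -/
theorem Holds.axes_of_line {x y : Fin 4 → F} (hx : x ∈ A) (hy : y ∈ B) (hx0 : x ≠ 0) (hy0 : y ≠ 0)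
    (hxy : f x y = 0) {κ γ : F} (hne : ¬ (γ = 0 ∧ γ + κ + σ κ = 0)) (h : root f (x + y) (κ • x) γ ∈ M) :
    (∃ z ∈ A, z ≠ 0 ∧ z ∈ Axes σ f M) ∨ ∃ z ∈ B, z ≠ 0 ∧ z ∈ Axes σ f M := by
  have P := O.duet
  have S := P.herm
  have hxx := P.isoA x hx x hx
  have hyy := P.isoB y hy y hy
  have hyx := eq_zero_comm S hxy
  have hvv : f (x + y) (x + y) = 0 := by simp [add_left S, add_right S, hxx, hyy, hxy, hyx]
  have hv0 : x + y ≠ 0 := fun h => hx0 (P.disjoint hx (eq_neg_of_add_eq_zero_left h ▸ B.neg_mem hy))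
  have hvx : f (x + y) (κ • x) = 0 := by simp [add_left S, smul_right S, hxx, hyx]
  have hγ : σ γ = γ := gamma_real S hvv hv0 hvx (by simp [smul_left S, smul_right S, hxx]) (O.iso _ h)
  set α := γ + κ + σ κ with hα
  have hασ : σ α = α := by rw [hα, map_add, map_add, hγ, S.involutive]; ring
  set ρ := γ + σ κ with hρ
  have hxρ : f x (ρ • y) = 0 := by rw [smul_right S, hxy, mul_zero]
  have hsplit : root f (x + y) (κ • x) γ = root f x (ρ • y) 0 * (formTv f x α * formTv f y γ) := by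
    refine gl_ext fun z => ?_
    rw [gl_mul_mulVec, gl_mul_mulVec, root_mulVec S hvv hvx, formTv_mulVec S hxx, formTv_mulVec S hyy,
      root_mulVec S hxx hxρ]
    simp only [add_left S, add_right S, smul_left S, smul_right S, hxx, hyy, hxy, hyx, hρ, hα, map_add, hγ,
      S.involutive, mul_zero, add_zero]
    match_scalars <;> ring
  rw [hsplit] at h
  have hD := M.mul_mem (M.inv_mem (O.root_mem hx (B.smul_mem ρ hy) hxρ)) h
  rw [inv_mul_cancel_left] at hD
  -- a torus element separating the two centres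
  obtain ⟨a₀, ha₀, hay⟩ := P.swap.exists_dual_one hy hy0
  have hay' := ne_zero_comm S hay
  set a₂ := (f a₀ y)⁻¹ • a₀ with ha₂
  have h2 : a₂ ∈ A := A.smul_mem _ ha₀
  have hay2 : f a₂ y = 1 := by rw [ha₂, smul_left S, inv_mul_cancel₀ hay']
  have hi : a₂ ∉ Submodule.span F {x} := fun h => by
    obtain ⟨k, hk⟩ := Submodule.mem_span_singleton.1 h
    rw [← hk, smul_left S, hxy, mul_zero] at hay2
    exact zero_ne_one hay2
  obtain ⟨b₁, k1, b₂, k2, e11, e21, e12, e22⟩ := P.exists_dual hx h2 hx0 hi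
  have hyb : y = b₂ := sub_eq_zero.1 <| P.eq_zero_of_pair hx h2 hx0 hi (B.sub_mem hy k2)
    (by rw [sub_eq_add_neg, add_right S, SkewPair.neg_right S, hxy, e12, neg_zero, add_zero])
    (by rw [sub_eq_add_neg, add_right S, SkewPair.neg_right S, hay2, e22, add_neg_cancel])
  subst hyb
  obtain ⟨r, hr, hr0, hr1⟩ := O.sq
  have tmul : ∀ {v : Fin 4 → F}, f v v = 0 → ∀ a b : F, formTv f v a * formTv f v b = formTv f v (a + b) := by
    intro v hv a b
    refine gl_ext fun z => ?_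
    rw [gl_mul_mulVec, formTv_mulVec S hv, formTv_mulVec S hv, formTv_mulVec S hv, add_left S, smul_left S, hv]
    module
  have tzero : ∀ v : Fin 4 → F, f v v = 0 → formTv f v (0 : F) = 1 := fun v hv => gl_ext fun z => by
    simp [formTv_mulVec S hv]
  have tconj : ∀ {g : GL (Fin 4) F}, g ∈ M → ∀ {v : Fin 4 → F}, f v v = 0 → ∀ (c s : F),
      (g : Matrix (Fin 4) (Fin 4) F) *ᵥ v = s • v → g * formTv f v c * g⁻¹ = formTv f v (s * σ s * c) := by
    intro g hg v hv c s hs
    rw [← root_zero S hv, root_conj S (O.iso g hg) hv (zero_right S v), mulVec_zero, hs,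
      root_zero S (by rw [smul_left S, smul_right S, hv, mul_zero, mul_zero]), SkewPair.formTv_smul S hv]
  by_cases hα0 : α = 0
  · right
    have hγ0 : γ ≠ 0 := fun h => hne ⟨h, hα0⟩
    obtain ⟨g, hg, -, -, -, g4⟩ := O.torus hx h2 k1 k2 e11 e21 e12 e22 one_ne_zero hr0
      (by rw [one_mul, hr])
    rw [hα0, tzero x hxx, one_mul] at hD
    have h1 := M.mul_mem (M.mul_mem (M.mul_mem hg hD) (M.inv_mem hg)) (M.inv_mem hD)
    rw [tconj hg hyy _ _ g4, hr, map_inv₀, hr, inv_eq_of_mul_eq_one_right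
      (show formTv f y γ * formTv f y (-γ) = 1 by rw [tmul hyy, add_neg_cancel, tzero y hyy]), tmul hyy] at h1
    refine ⟨y, hy, hy0, O.swap.axes_of_one hy hy0 ?_ ?_ h1⟩
    · rw [map_add, map_mul, map_mul, map_inv₀, map_neg, hr, hγ]
    · rw [← sub_eq_add_neg, sub_ne_zero]
      intro he
      apply hr1
      have h3 : r⁻¹ * r⁻¹ = 1 := mul_right_cancel₀ hγ0 (by rw [one_mul]; exact he)
      rw [← mul_inv, inv_eq_one] at h3
      exact h3
  · left
    obtain ⟨g, hg, g1, -, -, g4⟩ := O.torus hx h2 k1 k2 e11 e21 e12 e22 hr0 one_ne_zero (by rw [mul_one, hr])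
    rw [map_one, inv_one] at g4
    have h1 := M.mul_mem (M.mul_mem (M.mul_mem hg hD) (M.inv_mem hg)) (M.inv_mem hD)
    rw [show g * (formTv f x α * formTv f y γ) * g⁻¹ = (g * formTv f x α * g⁻¹) * (g * formTv f y γ * g⁻¹) by group,
      tconj hg hxx _ _ g1, tconj hg hyy _ _ g4, hr, map_one, one_mul, one_mul, _root_.mul_inv_rev,
      mul_assoc, mul_inv_cancel_left, inv_eq_of_mul_eq_one_right
      (show formTv f x α * formTv f x (-α) = 1 by rw [tmul hxx, add_neg_cancel, tzero x hxx]), tmul hxx] at h1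
    refine ⟨x, hx, hx0, O.axes_of_one hx hx0 ?_ ?_ h1⟩
    · rw [map_add, map_mul, map_mul, map_neg, hr, hασ]
    · rw [← sub_eq_add_neg, sub_ne_zero]
      exact fun he => hr1 (mul_right_cancel₀ hα0 (by rw [one_mul]; exact he))

/-- The outcome when the second vector meets the line of one component. -/
theorem Holds.axes_of_meet {x x' w : Fin 4 → F} (hx : x ∈ A) (hx' : x' ∈ B) (hx0 : x ≠ 0)
    (hvv : f (x + x') (x + x') = 0) (hw : w ∈ A) (hwi : w ∉ Submodule.span F {x})
    (hvw : f (x + x') w = 0) {γ : F} (h : root f (x + x') w γ ∈ M) : ∃ z ∈ A, z ≠ 0 ∧ z ∈ Axes σ f M := by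
  have P := O.duet
  have S := P.herm
  have hw0 : w ≠ 0 := fun h0 => hwi (h0 ▸ Submodule.zero_mem _)
  have hv0 : x + x' ≠ 0 := fun h => hx0 (P.disjoint hx (eq_neg_of_add_eq_zero_left h ▸ B.neg_mem hx'))
  obtain ⟨w₁, hw₁, hw₁0, hww⟩ := P.exists_orth w
  refine ⟨w, hw, hw0, O.axes_of_root hvv hv0 hw hvw ⟨w₁, hw₁, hww, fun h1 => hw₁0 ?_⟩ h⟩
  rw [add_left S, P.isoB x' hx' w₁ hw₁, add_zero] at h1
  exact P.eq_zero_of_pair hx hw hx0 hwi hw₁ h1 hww

/-- An element taking a vector of a plane outside both planes gives a centre in a plane. -/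
theorem Holds.axes_exists {g : GL (Fin 4) F} (hg : g ∈ M) {u : Fin 4 → F} (hu : u ∈ A)
    (h1 : (g : Matrix (Fin 4) (Fin 4) F) *ᵥ u ∉ A) (h2 : (g : Matrix (Fin 4) (Fin 4) F) *ᵥ u ∉ B) :
    (∃ z ∈ A, z ≠ 0 ∧ z ∈ Axes σ f M) ∨ ∃ z ∈ B, z ≠ 0 ∧ z ∈ Axes σ f M := by
  have P := O.duet
  have S := P.herm
  obtain ⟨w, hw, hw0, huw⟩ := P.exists_orth u
  obtain ⟨x, hx, x', hx', hv⟩ := P.span ((g : Matrix (Fin 4) (Fin 4) F) *ᵥ u)
  obtain ⟨yA, hyA, yB, hyB, hy⟩ := P.span ((g : Matrix (Fin 4) (Fin 4) F) *ᵥ w)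
  have hx0 : x ≠ 0 := fun h => h2 (by rw [← hv, h, zero_add]; exact hx')
  have hx'0 : x' ≠ 0 := fun h => h1 (by rw [← hv, h, add_zero]; exact hx)
  have hgi := O.iso g hg
  set v := x + x' with hvdef
  have hvv : f v v = 0 := by rw [hv, hgi, P.isoA u hu u hu]
  have hv0 : v ≠ 0 := fun h => hx0 (P.disjoint hx (eq_neg_of_add_eq_zero_left h ▸ B.neg_mem hx'))
  have hroot : ∀ l : F, root f v (l • (yA + yB)) 0 ∈ M := fun l => by
    have hul : f u (l • w) = 0 := by rw [smul_right S, huw, mul_zero]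
    have := M.mul_mem (M.mul_mem hg (O.root_mem hu (B.smul_mem l hw) hul)) (M.inv_mem hg)
    rwa [root_conj S hgi (P.isoA u hu u hu) hul, mulVec_smul, ← hv, ← hy] at this
  have hvy : f v (yA + yB) = 0 := by rw [hv, hy, hgi, huw]
  have hyv : ∀ k : F, yA + yB ≠ k • v := fun k hk => hw0 (by
    rw [hv, hy, ← mulVec_smul] at hk
    have := gl_mulVec_injective g hk
    exact P.disjoint (this ▸ A.smul_mem k hu) hw)
  -- when one component is on the line of a component of the centre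
  have meet : ∀ (A' B' : Submodule F (Fin 4 → F)), Holds σ f A' B' M → ∀ p ∈ A', ∀ p' ∈ B', p ≠ 0 → p' ≠ 0 →
      v = p + p' → ∀ r ∈ A', ∀ r' ∈ B', yA + yB = r + r' → r' ∈ Submodule.span F {p'} →
      (∃ z ∈ A', z ≠ 0 ∧ z ∈ Axes σ f M) ∨ ∃ z ∈ B', z ≠ 0 ∧ z ∈ Axes σ f M := by
    intro A' B' O' p hp p' hp' hp0 hp'0 hvp r hr r' hr' hyr hspan
    obtain ⟨a, rfl⟩ := Submodule.mem_span_singleton.1 hspan
    set k := r - a • p with hk
    have hkA : k ∈ A' := A'.sub_mem hr (A'.smul_mem _ hp)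
    have hye : yA + yB = k + a • v := by rw [hyr, hk, hvp]; module
    have hk0 : k ≠ 0 := fun h => hyv a (by rw [hye, h, zero_add])
    have hvk : f v k = 0 := by
      have := hvy
      rwa [hye, add_right S, smul_right S, hvv, mul_zero, add_zero] at this
    have hroot' : ∀ l : F, root f v (l • k) (0 + l * a + σ (l * a)) ∈ M := fun l => by
      have := hroot l
      rwa [hye, smul_add, smul_smul, root_shift_centre S hvv (by rw [smul_right S, hvk, mul_zero])] at this
    by_cases hkp : k ∈ Submodule.span F {p}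
    · obtain ⟨κ, hκ⟩ := Submodule.mem_span_singleton.1 hkp
      have hκ0 : κ ≠ 0 := fun h => hk0 (by rw [← hκ, h, zero_smul])
      obtain ⟨τ, hτ⟩ := S.trace
      have hpp' : f p p' = 0 := by
        have e := hvk
        rw [← hκ, smul_right S, hvp, add_left S, O'.duet.isoA p hp p hp, zero_add] at e
        exact eq_zero_comm S ((mul_eq_zero.1 e).resolve_left ((RingEquiv.map_ne_zero_iff σ).2 hκ0))
      by_cases ha : a = 0
      · have := hroot' (τ / κ)
        rw [← hκ, smul_smul, div_mul_cancel₀ _ hκ0, ha, mul_zero, map_zero, add_zero, add_zero, hvp] at this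
        exact O'.axes_of_line hp hp' hp0 hp'0 hpp' (fun h => hτ (by simpa using h.2)) this
      · have := hroot' (τ / a)
        rw [← hκ, smul_smul, div_mul_cancel₀ _ ha, zero_add, hvp] at this
        exact O'.axes_of_line hp hp' hp0 hp'0 hpp' (fun h => hτ h.1) this
    · have h3 := hroot' 1
      rw [one_smul, hvp] at h3
      rw [hvp] at hvv hvk
      exact Or.inl (O'.axes_of_meet hp hp' hp0 hvv hkA hkp hvk h3)
  by_cases hB : yB ∈ Submodule.span F {x'}
  · exact meet A B O x hx x' hx' hx0 hx'0 rfl yA hyA yB hyB rfl hB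
  by_cases hA : yA ∈ Submodule.span F {x}
  · exact (meet B A O.swap x' hx' x hx hx'0 hx0 (add_comm _ _) yB hyB yA hyA (add_comm _ _) hA).symm
  by_cases hs : f x x' = 0
  · -- a shear moves the second vector
    have hs' := eq_zero_comm S hs
    have hxx := P.isoA x hx x hx
    have hax : f yA x' ≠ 0 := fun h => hx'0 (P.eq_zero_of_pair hx hyA hx0 hA hx' hs h)
    obtain ⟨τ, hτ⟩ := S.trace
    set l := τ / f yA x' with hl
    set y := l • (yA + yB) with hydef
    have hvy' : f v y = 0 := by rw [hydef, smul_right S, hvy, mul_zero]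
    have hb : f y x = -τ := by
      have h0 := hvy
      simp only [hvdef, add_left S, add_right S, P.isoA x hx yA hyA, P.isoB x' hx' yB hyB, zero_add, add_zero] at h0
      have h1 := congrArg σ h0
      rw [map_add, conj_form S, conj_form S, map_zero] at h1
      rw [hydef, smul_left S, add_left S, P.isoA yA hyA x hx, zero_add,
        show f yB x = - f yA x' by linear_combination -h1, mul_neg, hl, div_mul_cancel₀ _ hax]
    have ha : f y x' = τ := by
      rw [hydef, smul_left S, add_left S, P.isoB yB hyB x' hx', add_zero, hl, div_mul_cancel₀ _ hax]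
    have hρ : f x (τ • x') = 0 := by rw [smul_right S, hs, mul_zero]
    set h := root f x (τ • x') 0 with hhdef
    have hh : h ∈ M := O.root_mem hx (B.smul_mem τ hx') hρ
    have hhv : (h : Matrix (Fin 4) (Fin 4) F) *ᵥ v = v := by
      rw [hhdef, root_mulVec S hxx hρ, hvdef, smul_right S, add_left S, add_left S, hxx, hs', hs,
        P.isoB x' hx' x' hx']
      simp
    have hhy : (h : Matrix (Fin 4) (Fin 4) F) *ᵥ y =
        ((τ + σ τ) * τ) • x + (-(τ * τ)) • v + y := by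
      rw [hhdef, root_mulVec S hxx hρ, smul_right S, hb, ha, hvdef]
      module
    have e1 := M.mul_mem (M.mul_mem hh (hroot l)) (M.inv_mem hh)
    rw [root_conj S (O.iso h hh) hvv hvy', hhv, hhy] at e1
    have e2 := M.mul_mem e1 (hroot (-l))
    have hvx : f v x = 0 := by rw [hvdef, add_left S, hxx, hs', add_zero]
    have hvκ : f v (((τ + σ τ) * τ) • x) = 0 := by rw [smul_right S, hvx, mul_zero]
    have hneg : (-l) • (yA + yB) = -y := by rw [hydef, neg_smul]
    rw [hneg, root_mul S hvv (by simp [add_right S, smul_right S, SkewPair.neg_right S, hvκ, hvv, hvy', hvx])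
      (by rw [SkewPair.neg_right S, hvy', neg_zero]), add_neg_cancel_right, root_shift_centre S hvv hvκ] at e2
    refine O.axes_of_line hx hx' hx0 hx'0 hs (fun hc => ?_) e2
    have h3 := hc.2
    rw [hc.1, zero_add, map_mul, map_add, S.involutive, add_comm (σ τ) τ, ← mul_add] at h3
    exact mul_ne_zero hτ hτ h3
  · -- a torus element moves the second vector
    set s := f x x' with hsd
    have hsr : σ s = s := by
      have h0 := hvv
      simp only [hvdef, add_left S, add_right S, P.isoA x hx x hx, P.isoB x' hx' x' hx', zero_add, add_zero] at h0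
      rw [S.skew x x', ← hsd] at h0
      linear_combination -h0
    set a₂ := yA - (f yA x' / s) • x with ha₂
    have h2m : a₂ ∈ A := A.sub_mem hyA (A.smul_mem _ hx)
    have hi : a₂ ∉ Submodule.span F {x} := fun h => hA (by
      have := Submodule.add_mem _ h (Submodule.smul_mem _ (f yA x' / s) (Submodule.mem_span_singleton_self x))
      rwa [ha₂, sub_add_cancel] at this)
    have ha₂x' : f a₂ x' = 0 := by
      rw [ha₂, sub_eq_add_neg, add_left S, SkewPair.neg_left S, smul_left S, ← hsd, div_mul_cancel₀ _ hs,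
        add_neg_cancel]
    obtain ⟨b₁, k1, b₂, k2, e11, e21, e12, e22⟩ := P.exists_dual hx h2m hx0 hi
    have hxb : x' = s • b₁ := sub_eq_zero.1 <| P.eq_zero_of_pair hx h2m hx0 hi (B.sub_mem hx' (B.smul_mem _ k1))
      (by rw [sub_eq_add_neg, add_right S, SkewPair.neg_right S, smul_right S, e11, mul_one, hsr, ← hsd, add_neg_cancel])
      (by rw [sub_eq_add_neg, add_right S, SkewPair.neg_right S, smul_right S, e21, mul_zero, neg_zero, add_zero, ha₂x'])
    obtain ⟨p, t, hyBe⟩ := P.swap.span_pair k1 k2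
      (fun h => by rw [h, zero_right S] at e11; exact zero_ne_one e11) (fun h => by
        obtain ⟨k, hk⟩ := Submodule.mem_span_singleton.1 h
        rw [← hk, smul_right S, e21, mul_zero] at e22
        exact zero_ne_one e22) yB hyB
    obtain ⟨d, hd, hd0, hd1⟩ := O.sq
    obtain ⟨T, hT, t1, t2, t3, t4⟩ := O.torus hx h2m k1 k2 e11 e21 e12 e22 one_ne_zero hd0 (by rw [one_mul, hd])
    rw [one_smul] at t1
    rw [map_one, inv_one, one_smul] at t3
    rw [hd] at t4
    have hTv : (T : Matrix (Fin 4) (Fin 4) F) *ᵥ v = v := by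
      rw [hvdef, hxb, mulVec_add, mulVec_smul, t1, t3]
    have hTy : f v ((T : Matrix (Fin 4) (Fin 4) F) *ᵥ (yA + yB)) = 0 := by
      have := O.iso T hT v (yA + yB)
      rwa [hTv, hvy] at this
    have e1 := M.mul_mem (M.mul_mem hT (hroot 1)) (M.inv_mem hT)
    rw [one_smul, root_conj S (O.iso T hT) hvv hvy, hTv] at e1
    have e2 := M.mul_mem e1 (hroot (-d⁻¹))
    rw [root_mul S hvv hTy (by rw [smul_right S, hvy, mul_zero])] at e2
    set q := (1 - d⁻¹) * p / s with hq
    set kk := ((1 - d⁻¹) * (f yA x' / s) - q) • x + (d - d⁻¹) • a₂ with hkk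
    have hz : (T : Matrix (Fin 4) (Fin 4) F) *ᵥ (yA + yB) + (-d⁻¹) • (yA + yB) = kk + q • v := by
      have hyA' : yA = a₂ + (f yA x' / s) • x := by rw [ha₂, sub_add_cancel]
      rw [hkk, ← hyBe, hvdef, hq]
      generalize f yA x' / s = u' at hyA' ⊢
      rw [hxb]
      conv_lhs => rw [hyA']
      simp only [mulVec_add, mulVec_smul, t1, t2, t3, t4]
      match_scalars <;> field_simp <;> ring
    rw [hz] at e2
    have hkA : kk ∈ A := A.add_mem (A.smul_mem _ hx) (A.smul_mem _ h2m)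
    have hdd : d - d⁻¹ ≠ 0 := fun h => hd1 (by
      have := congrArg (fun t => t * d) h
      simp only [sub_mul, zero_mul, inv_mul_cancel₀ hd0, sub_eq_zero] at this
      exact this)
    have hki : kk ∉ Submodule.span F {x} := fun h => hi (by
      have h' := (Submodule.add_mem_iff_right _ (Submodule.smul_mem _ _ (Submodule.mem_span_singleton_self x))).1 h
      exact (Submodule.smul_mem_iff _ hdd).1 h')
    have hvk : f v kk = 0 := by
      have h0 : f v (kk + q • v) = 0 := by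
        rw [← hz, add_right S, smul_right S, hTy, hvy, mul_zero, add_zero]
      rwa [add_right S, smul_right S, hvv, mul_zero, add_zero] at h0
    rw [root_shift_centre S hvv hvk] at e2
    exact Or.inl (O.axes_of_meet hx hx' hx0 hvv hkA hki hvk e2)

/-- All isotropic vectors are centres once one vector of the first plane is. -/
theorem Holds.axes_all {z : Fin 4 → F} (hz : z ∈ A) (hz0 : z ≠ 0) (h : z ∈ Axes σ f M) :
    ∀ v, f v v = 0 → v ∈ Axes σ f M := by
  have P := O.duet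
  have S := P.herm
  have hA : ∀ a ∈ A, a ∈ Axes σ f M := by
    intro a ha
    by_cases hai : a ∈ Submodule.span F {z}
    · obtain ⟨k, rfl⟩ := Submodule.mem_span_singleton.1 hai
      exact O.axes_smul h k
    have hu : a - z ∈ A := A.sub_mem ha hz
    have hui : a - z ∉ Submodule.span F {z} := fun h' => hai (by
      have := Submodule.add_mem _ h' (Submodule.mem_span_singleton_self z)
      rwa [sub_add_cancel] at this)
    obtain ⟨w₁, hw₁, hw₁0, hw₁u⟩ := P.exists_orth (a - z)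
    have hzw : f z w₁ ≠ 0 := fun h' => hw₁0 (P.eq_zero_of_pair hz hu hz0 hui hw₁ h' hw₁u)
    have hρ : f (a - z) (σ (f z w₁)⁻¹ • w₁) = 0 := by rw [smul_right S, hw₁u, mul_zero]
    have h1 := O.axes_map (O.root_mem hu (B.smul_mem _ hw₁) hρ) h
    rwa [root_mulVec S (P.isoA _ hu _ hu) hρ, P.isoA z hz _ hu, zero_smul, add_zero, mul_zero, zero_add,
      smul_right S, S.involutive, inv_mul_cancel₀ hzw, one_smul, add_sub_cancel] at h1
  have hB : ∀ b ∈ B, b ∈ Axes σ f M := by
    obtain ⟨g, hg, hgA⟩ := O.exists_swap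
    have heq : A.map (Matrix.toLin' (g : Matrix (Fin 4) (Fin 4) F)) = B := by
      refine Submodule.eq_of_le_of_finrank_eq ?_ ?_
      · rintro _ ⟨x, hx, rfl⟩
        rw [Matrix.toLin'_apply]; exact hgA x hx
      · exact ((Submodule.equivMapOfInjective _ (by
          simpa [Function.Injective] using gl_mulVec_injective g) _).finrank_eq.symm.trans P.rankA).trans P.rankB.symm
    intro b hb
    rw [← heq] at hb
    obtain ⟨a, ha, rfl⟩ := hb
    rw [Matrix.toLin'_apply]
    exact O.axes_map hg (hA a ha)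
  intro v hv
  obtain ⟨x, hx, y, hy, rfl⟩ := P.span v
  have hxx := P.isoA x hx x hx
  have hyy := P.isoB y hy y hy
  have hreal : σ (f y x) = f y x := by
    simp only [add_left S, add_right S, hxx, hyy, zero_add, add_zero] at hv
    rw [conj_form S]
    linear_combination -hv
  have hmove : ∀ a ∈ A, ∀ b, b ∈ Axes σ f M → ∀ c, σ c = c → b + (c * f b a) • a ∈ Axes σ f M := by
    intro a ha b hb c hc
    have := O.axes_map ((hA a ha).2 c hc) hb
    rwa [formTv_mulVec S (P.isoA a ha a ha)] at this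
  by_cases hy0 : y = 0
  · rw [hy0, add_zero]; exact hA x hx
  by_cases hyx : f y x = 0
  · obtain ⟨a, ha, hya⟩ := P.swap.exists_dual_one hy hy0
    have hx2 : x - f y a • a ∈ A := A.sub_mem hx (A.smul_mem _ ha)
    have e : f y (x - f y a • a) = -(σ (f y a) * f y a) := by
      rw [sub_eq_add_neg, add_right S, SkewPair.neg_right S, smul_right S, hyx, zero_add]
    have e0 : f y (x - f y a • a) ≠ 0 := by
      rw [e]; exact neg_ne_zero.2 (mul_ne_zero ((RingEquiv.map_ne_zero_iff σ).2 hya) hya)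
    have h1 := hmove a ha y (hB y hy) 1 (map_one σ)
    rw [one_mul] at h1
    have h2 := hmove _ hx2 _ h1 (f y (x - f y a • a))⁻¹ (by
      rw [map_inv₀, e, map_neg, map_mul, S.involutive, mul_comm])
    rw [add_left S, smul_left S, P.isoA a ha _ hx2, mul_zero, add_zero, inv_mul_cancel₀ e0, one_smul] at h2
    convert h2 using 1
    module
  · have h1 := hmove x hx y (hB y hy) (f y x)⁻¹ (by rw [map_inv₀, hreal])
    rwa [inv_mul_cancel₀ hyx, one_smul, add_comm] at h1

omit O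

variable [Fintype F]

/-- The stabiliser of two complementary totally isotropic planes is maximal. -/
theorem maximal_pair {q : ℕ} (hF : Fintype.card F = q ^ 2) (hq : 4 ≤ q)
    (D : Fin 2 → Submodule F (Fin 4 → F)) (hD : Cfsg.Geo.IsMDecomposition 2 D)
    (hts : ∀ i, Cfsg.Geo.IsTotallySingularFor (Cfsg.hermForm 4 F q) (D i)) :
    Cfsg.Geo.IsMaximalIn (Cfsg.GU 4 F q ⊓ Cfsg.Geo.specialLinear (Fin 4) F)
      (Cfsg.Geo.decompositionStabilizer D ⊓ (Cfsg.GU 4 F q ⊓ Cfsg.Geo.specialLinear (Fin 4) F)) := by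
  classical
  have hh := UnitPow.isUnitaryForm_hermForm hF 4
  set σ := UnitPow.conj hF with hσd
  obtain ⟨θ, hθ0, hθ⟩ := Unit.exists_skew hh.ne_refl hh.involutive
  have hσθ : σ θ = -θ := eq_neg_of_add_eq_zero_right hθ
  let f : (Fin 4 → F) → (Fin 4 → F) → F := fun x y => θ * Cfsg.hermForm 4 F q x y
  have S : IsSkewHerm σ f :=
    { sesq :=
        { add_left := fun x y v => by simp only [f, Unit.add_left hh, mul_add]
          smul_left := fun c x v => by simp only [f, Unit.smul_left hh]; ring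
          add_right := fun v x y => by simp only [f, Unit.add_right hh, mul_add]
          smul_right := fun c v x => by simp only [f, Unit.smul_right hh, RingEquiv.coe_toRingHom]; ring }
      involutive := hh.involutive
      skew := fun x y => by simp only [f]; rw [map_mul, hσθ, Unit.conj_form hh]; ring
      nondegenerate := fun x hx => by
        obtain ⟨y, hy⟩ := (hh.nondegenerate x hx).2
        exact ⟨y, mul_ne_zero hθ0 hy⟩
      trace := Unit.exists_trace_ne_zero hh.ne_refl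
      norms := fun c hc => by
        obtain ⟨a, ha⟩ := Unit.exists_norm hh.ne_refl hh.involutive hc
        exact ⟨a, 0, by rw [ha, zero_mul, sub_zero]⟩ }
  have hspan : ∀ v, ∃ x ∈ D 0, ∃ y ∈ D 1, x + y = v := fun v => by
    have h := Decomp.sum_comp hD v
    rw [Fin.sum_univ_two] at h
    exact ⟨_, Decomp.comp_mem hD 0 v, _, Decomp.comp_mem hD 1 v, h⟩
  have P : Duet σ f (D 0) (D 1) :=
    ⟨S, fun x hx y hy => by simp only [f]; rw [hts 0 x hx y hy, mul_zero],
      fun x hx y hy => by simp only [f]; rw [hts 1 x hx y hy, mul_zero], hD.finrank_eq 0, hD.finrank_eq 1, hspan⟩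
  obtain ⟨r, hr, hr0, hr1⟩ : ∃ r, σ r = r ∧ r ≠ 0 ∧ r * r ≠ 1 := by
    by_contra! h
    have hsub : UnitCircle.fixSet σ ⊆ ({0, 1, -1} : Finset F) := by
      intro x hx
      simp only [Finset.mem_insert, Finset.mem_singleton]
      by_cases hx0 : x = 0
      · exact Or.inl hx0
      rcases mul_self_eq_one_iff.1 (h x (UnitCircle.mem_fixSet.1 hx) hx0) with h1 | h1
      exacts [Or.inr (Or.inl h1), Or.inr (Or.inr h1)]
    have h2 := (Finset.card_le_card hsub).trans Finset.card_le_three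
    have h3 := UnitCircle.card_field (σ := σ) hh.ne_refl hh.involutive
    have : 4 * 4 ≤ q * q := Nat.mul_le_mul hq hq
    rw [hF, pow_two] at h3
    have : (UnitCircle.fixSet σ).card * (UnitCircle.fixSet σ).card ≤ 3 * 3 := Nat.mul_le_mul h2 h2
    omega
  have htv : ∀ {v : Fin 4 → F}, Cfsg.hermForm 4 F q v v = 0 → ∀ c : F, σ c = c →
      formTv f v c = formTv (Cfsg.hermForm 4 F q) v (c * θ) := by
    intro v hv c _
    have hv' : f v v = 0 := by simp only [f]; rw [hv, mul_zero]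
    refine gl_ext fun x => ?_
    rw [Unit.formTv_mulVec hh hv, SkewPair.formTv_mulVec S hv']
    simp only [f, mul_assoc]
  have hK : ∀ {g : GL (Fin 4) F}, g ∈ Cfsg.GU 4 F q ⊓ Cfsg.Geo.specialLinear (Fin 4) F ↔
      (∀ x y, f ((g : Matrix (Fin 4) (Fin 4) F) *ᵥ x) ((g : Matrix (Fin 4) (Fin 4) F) *ᵥ y) = f x y) ∧
        (g : Matrix (Fin 4) (Fin 4) F).det = 1 := by
    intro g
    refine ⟨fun h => ⟨fun x y => by simp only [f]; rw [UnitPow.mem_GU.1 h.1], mem_specialLinear.1 h.2⟩,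
      fun h => ⟨UnitPow.mem_GU.2 fun x y => mul_left_cancel₀ hθ0 (h.1 x y), mem_specialLinear.2 h.2⟩⟩
  have hmove : ∀ {g : GL (Fin 4) F}, g ∈ Cfsg.Geo.decompositionStabilizer D → ∀ x ∈ D 0,
      (g : Matrix (Fin 4) (Fin 4) F) *ᵥ x ∈ D 0 ∨ (g : Matrix (Fin 4) (Fin 4) F) *ᵥ x ∈ D 1 := by
    rintro g ⟨π, hπ⟩ x hx
    have h := Submodule.mem_map_of_mem (f := Matrix.toLin' (g : Matrix (Fin 4) (Fin 4) F)) hx
    rw [hπ, Matrix.toLin'_apply] at h
    rcases (show π 0 = 0 ∨ π 0 = 1 by omega) with h0 | h0 <;> rw [h0] at h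
    exacts [Or.inl h, Or.inr h]
  refine ⟨lt_of_le_of_ne inf_le_right fun heq => ?_, fun M hle hMK => ?_⟩
  · obtain ⟨a, ha, ha0⟩ := Submodule.exists_mem_ne_zero_of_ne_bot (p := D 0) fun h => by
      have := P.rankA
      rw [h, finrank_bot] at this; omega
    obtain ⟨b, hb, hb0, hab⟩ := P.exists_orth a
    obtain ⟨x, hx, hbx⟩ := P.swap.exists_dual_one hb hb0
    have hxb := ne_zero_comm S hbx
    have hvv : f (a + b) (a + b) = 0 := by
      simp [add_left S, add_right S, P.isoA a ha a ha, P.isoB b hb b hb, hab, eq_zero_comm S hab]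
    have hg : formTv f (a + b) (1 : F) ∈ Cfsg.GU 4 F q ⊓ Cfsg.Geo.specialLinear (Fin 4) F := by
      refine hK.2 ⟨?_, mem_specialLinear.1 (formTv_mem_specialLinear _ _ _)⟩
      rw [← root_zero S hvv]
      exact root_isometry S hvv (zero_right S _) (by rw [map_one, zero_left S, sub_zero])
    have h := hmove (heq.ge hg).1 x hx
    rw [formTv_mulVec S hvv, add_right S, P.isoA x hx a ha, zero_add, one_mul, smul_add, ← add_assoc] at h
    have hkb : f x b • b ≠ 0 := smul_ne_zero hxb hb0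
    have hA : x + f x b • a ∈ D 0 := (D 0).add_mem hx ((D 0).smul_mem _ ha)
    rcases h with h | h
    · exact hkb (P.disjoint (by have := (D 0).sub_mem h hA; rwa [add_sub_cancel_left] at this)
        ((D 1).smul_mem _ hb))
    · have h0 := P.disjoint hA (by have := (D 1).sub_mem h ((D 1).smul_mem (f x b) hb); rwa [add_sub_cancel_right] at this)
      apply hxb
      rw [eq_neg_of_add_eq_zero_left h0, SkewPair.neg_left S, smul_left S, hab, mul_zero, neg_zero]
  by_cases hall : M ≤ Cfsg.Geo.decompositionStabilizer D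
  · exact Or.inl (le_antisymm (le_inf hall hMK) hle)
  right
  obtain ⟨g, hg, hgs⟩ := SetLike.not_le_iff_exists.1 hall
  have O : Holds σ f (D 0) (D 1) M :=
    { duet := P
      iso := fun g hg => (hK.1 (hMK hg)).1
      keep := fun g hi hd h => hle ⟨Decomp.mem_stabilizer_of_image hD (fun i => by
        rcases h with h | h
        · fin_cases i
          exacts [⟨0, h.1⟩, ⟨1, h.2⟩]
        · fin_cases i
          exacts [⟨1, h.1⟩, ⟨0, h.2⟩]), hK.2 ⟨hi, hd⟩⟩
      sq := ⟨r, hr, hr0, hr1⟩ }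
  -- some vector of a plane leaves both planes
  have hside : ∀ (X : Submodule F (Fin 4 → F)),
      (∀ x ∈ X, (g : Matrix (Fin 4) (Fin 4) F) *ᵥ x ∈ D 0 ∨ (g : Matrix (Fin 4) (Fin 4) F) *ᵥ x ∈ D 1) →
      ∃ j, ∀ x ∈ X, (g : Matrix (Fin 4) (Fin 4) F) *ᵥ x ∈ D j := by
    intro X hX
    by_contra! h
    obtain ⟨x, hx, hx'⟩ := h 0
    obtain ⟨y, hy, hy'⟩ := h 1
    have h1 := (hX x hx).resolve_left hx'
    have h2 := (hX y hy).resolve_right hy'
    rcases hX (x + y) (X.add_mem hx hy) with h3 | h3 <;> rw [mulVec_add] at h3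
    · exact hx' ((Submodule.add_mem_iff_left _ h2).1 h3)
    · exact hy' ((Submodule.add_mem_iff_right _ h1).1 h3)
  have hex : (∃ z ∈ D 0, z ≠ 0 ∧ z ∈ Axes σ f M) ∨ ∃ z ∈ D 1, z ≠ 0 ∧ z ∈ Axes σ f M := by
    by_contra hno
    apply hgs
    refine Decomp.mem_stabilizer_of_image hD fun i => ?_
    obtain ⟨j, hj⟩ := hside (D i) fun x hx => by
      by_contra! h
      apply hno
      rcases (show i = 0 ∨ i = 1 by omega) with rfl | rfl
      · exact O.axes_exists hg hx h.1 h.2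
      · exact (O.swap.axes_exists hg hx h.2 h.1).symm
    exact ⟨j, hj⟩
  have hall' : ∀ v, f v v = 0 → v ∈ Axes σ f M := by
    rcases hex with ⟨z, hz, hz0, h⟩ | ⟨z, hz, hz0, h⟩
    · exact O.axes_all hz hz0 h
    · exact O.swap.axes_all hz hz0 h
  refine le_antisymm hMK (UnitGen.specialUnitary_le_of_formTv_mem hF (by omega) (by omega) fun v hv c hc => ?_)
  have hfix : σ (c / θ) = c / θ := by
    rw [map_div₀, hσθ, hσd, UnitPow.conj_apply, eq_neg_of_add_eq_zero_right hc, neg_div_neg_eq]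
  have h1 := (hall' v (by simp only [f]; rw [hv, mul_zero])).2 (c / θ) hfix
  rwa [htv hv _ hfix, div_mul_cancel₀ _ hθ0] at h1

end CfsgLib.GeomClasses.UnitFour
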