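import Cfsg.Agent.Lib.GeomClasses.UnitFour.Sub
import Cfsg.Agent.Lib.GeomClasses.RationalField

/-!
Root coefficients inside an overgroup of a unitary subfield group, and the case of a new coefficient.
-/

set_option autoImplicit false
set_option linter.unusedSectionVars false

namespace CfsgLib.GeomClasses.UnitFourSub

open Matrix CfsgLib.GeomClasses.SkewPair
open CfsgLib.GeomClasses.SympRoot (Rv Rat')

variable {n : ℕ} {F : Type*} [Field F] [Fintype F] {σ : F ≃+* F} {f : (Fin n → F) → (Fin n → F) → F}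
  {F₀ : Subfield F} {M : Subgroup (GL (Fin n) F)}

/-! ### Identities -/

section ident

variable (H : SkewPair.IsSkewHerm σ f)
include H

theorem iso_tv_conj {g : GL (Fin n) F}
    (hg : ∀ x y, f ((g : Matrix (Fin n) (Fin n) F) *ᵥ x) ((g : Matrix (Fin n) (Fin n) F) *ᵥ y) = f x y)
    {v : Fin n → F} (hv : f v v = 0) (c : F) :
    g * formTv f v c * g⁻¹ = formTv f ((g : Matrix (Fin n) (Fin n) F) *ᵥ v) c := by
  rw [← root_zero H hv, root_conj H hg hv (zero_right H v), mulVec_zero, root_zero H (by rw [hg, hv])]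

theorem fixed_of_isometry {v : Fin n → F} (hv : f v v = 0) (hv0 : v ≠ 0) {c : F}
    (hg : ∀ x y, f ((formTv f v c : Matrix (Fin n) (Fin n) F) *ᵥ x)
      ((formTv f v c : Matrix (Fin n) (Fin n) F) *ᵥ y) = f x y) : σ c = c := by
  obtain ⟨y, hy⟩ := H.nondegenerate v hv0
  have h := hg y y
  rw [H.sesq.formTv_form hv] at h
  change f y y + c * f y v * f v y + σ (c * f y v) * f y v = f y y at h
  rw [map_mul, conj_form H] at h
  have h2 : (c - σ c) * (f y v * f v y) = 0 := by linear_combination h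
  exact (sub_eq_zero.1 ((mul_eq_zero.1 h2).resolve_right (mul_ne_zero (ne_zero_comm H hy) hy))).symm

theorem formTv_split {u w : Fin n → F} (hu : f u u = 0) (hw : f w w = 0) (h : f u w = 0) {c : F}
    (hc : σ c = c) (μ : F) :
    formTv f (w + μ • u) c = formTv f w c * root f u ((c * σ μ) • w) (c * μ * σ μ) := by
  have hwu := eq_zero_comm H h
  refine gl_ext fun x => ?_
  rw [formTv_mulVec H (by simp [add_left H, add_right H, smul_left H, smul_right H, hu, hw, h, hwu]),
    gl_mul_mulVec, formTv_mulVec H hw, root_mulVec H hu (by rw [smul_right H, h, mul_zero])]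
  simp only [add_left H, add_right H, smul_left H, smul_right H, map_mul, H.involutive, hc, hu, hw, h, mul_zero,
    add_zero]
  match_scalars <;> ring

theorem root_smul_self {u : Fin n → F} (hu : f u u = 0) (m : F) :
    root f u (m • u) 0 = formTv f u (m + σ m) := by
  refine gl_ext fun x => ?_
  rw [root_mulVec H hu (by rw [smul_right H, hu, mul_zero]), formTv_mulVec H hu, smul_right H]
  match_scalars <;> ring

theorem formTv_mul {u : Fin n → F} (hu : f u u = 0) (a b : F) :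
    formTv f u a * formTv f u b = formTv f u (a + b) := by
  rw [← root_zero H hu, ← root_zero H hu, ← root_zero H hu, root_mul H hu (zero_right H u) (zero_right H u),
    zero_left H, add_zero, add_zero]

theorem formTv_inv {u : Fin n → F} (hu : f u u = 0) (a : F) : (formTv f u a)⁻¹ = formTv f u (-a) := by
  rw [← root_zero H hu, ← root_zero H hu, root_inv H hu (zero_right H u), neg_zero, zero_left H, add_zero]

theorem formTv_zero_left (c : F) : formTv f (0 : Fin n → F) c = 1 := by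
  refine gl_ext fun x => ?_
  rw [formTv_mulVec H (zero_left H 0)]
  simp

end ident

/-! ### Overgroups -/

/-- A group of isometries containing the rational root elements. -/
structure Over (σ : F ≃+* F) (f : (Fin n → F) → (Fin n → F) → F) (F₀ : Subfield F)
    (M : Subgroup (GL (Fin n) F)) : Prop extends Setting σ f F₀ where
  isometry : ∀ g ∈ M, ∀ x y,
    f ((g : Matrix (Fin n) (Fin n) F) *ᵥ x) ((g : Matrix (Fin n) (Fin n) F) *ᵥ y) = f x y
  root_mem : ∀ u w γ, Rv F₀ u → Rv F₀ w → γ ∈ F₀ → f u u = 0 → f u w = 0 → σ γ = γ - f w w →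
    root f u w γ ∈ M

/-- An independent orthogonal pair of rational isotropic vectors. -/
structure IsPair (f : (Fin n → F) → (Fin n → F) → F) (F₀ : Subfield F) (u w : Fin n → F) : Prop where
  rv_left : Rv F₀ u
  rv_right : Rv F₀ w
  iso_left : f u u = 0
  iso_right : f w w = 0
  orth : f u w = 0
  ne_zero : u ≠ 0
  indep : w ∉ Submodule.span F ({u} : Set (Fin n → F))

/-- The coefficients of the long root elements in `M`. -/
def longSet (σ : F ≃+* F) (f : (Fin n → F) → (Fin n → F) → F) (F₀ : Subfield F)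
    (M : Subgroup (GL (Fin n) F)) : Set F :=
  {c | σ c = c ∧ ∀ a, Rv F₀ a → f a a = 0 → formTv f a c ∈ M}

/-- The coefficients of the short root elements in `M`. -/
def shortSet (f : (Fin n → F) → (Fin n → F) → F) (F₀ : Subfield F) (M : Subgroup (GL (Fin n) F)) : Set F :=
  {s | ∀ u w, IsPair f F₀ u w → root f u (s • w) 0 ∈ M}

variable (O : Over σ f F₀ M)
include O

theorem Over.tv_mem_conj {g : GL (Fin n) F} (hg : g ∈ M) {v : Fin n → F} (hv : f v v = 0) {c : F}
    (h : formTv f v c ∈ M) : formTv f ((g : Matrix (Fin n) (Fin n) F) *ᵥ v) c ∈ M := by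
  rw [← iso_tv_conj O.toIsSkewHerm (O.isometry g hg) hv]
  exact M.mul_mem (M.mul_mem hg h) (M.inv_mem hg)

theorem Over.rat_root {u w : Fin n → F} (hu : Rv F₀ u) (hw : Rv F₀ w) {γ : F} (hγ : γ ∈ F₀) (huu : f u u = 0)
    (huw : f u w = 0) (h : σ γ = γ - f w w) : Rat' F₀ M (root f u w γ) := by
  refine ⟨O.root_mem u w γ hu hw hγ huu huw h, fun x hx => ?_⟩
  rw [root_mulVec O.toIsSkewHerm huu huw]
  exact (hx.add (hw.smul (O.rat _ _ hx hu))).add
    (hu.smul (F₀.add_mem (F₀.mul_mem hγ (O.rat _ _ hx hu)) (O.rat _ _ hx hw)))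

theorem Over.exists_pair : ∃ a b, IsPair f F₀ a b := by
  obtain ⟨a, ha, haa, -, ha'⟩ := exists_avoid O.toSetting ![0] ![0]
    (fun _ => by simpa using SympRoot.Rv.zero) (fun _ => by simpa using SympRoot.Rv.zero)
  obtain ⟨b, hb, hbb, hba, hb'⟩ := exists_avoid O.toSetting ![a] ![a]
    (fun _ => by simpa using ha) (fun _ => by simpa using ha)
  exact ⟨a, b, ha, hb, haa, hbb, eq_zero_comm O.toIsSkewHerm (by simpa using hba 0),
    fun h => ha' (by rw [h]; exact Submodule.zero_mem _), by simpa using hb'⟩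

theorem Over.mem_long' {c : F} (hc : σ c = c) (hc' : c ∈ F₀) :
    ∀ a, Rv F₀ a → f a a = 0 → formTv f a c ∈ M := fun a ha haa => by
  have H := O.toIsSkewHerm
  rw [← root_zero H haa]
  exact O.root_mem a 0 c ha SympRoot.Rv.zero hc' haa (zero_right H a) (by rw [zero_left H, sub_zero, hc])

/-- Every element is a combination of two fixed ones along a moved element of the subfield. -/
theorem Over.exists_parts {ω : F} (hω : σ ω ≠ ω) (x : F) :
    ∃ a b, σ a = a ∧ σ b = b ∧ x = a + ω * b ∧ (ω ∈ F₀ → x ∈ F₀ → a ∈ F₀ ∧ b ∈ F₀) := by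
  have hd : ω - σ ω ≠ 0 := sub_ne_zero.2 (Ne.symm hω)
  have hb : σ ((x - σ x) / (ω - σ ω)) = (x - σ x) / (ω - σ ω) := by
    rw [map_div₀, map_sub, map_sub, O.involutive, O.involutive, ← neg_sub x, ← neg_sub ω, neg_div_neg_eq]
  refine ⟨x - ω * ((x - σ x) / (ω - σ ω)), (x - σ x) / (ω - σ ω), ?_, hb, (sub_add_cancel _ _).symm,
    fun hω' hx => ?_⟩
  · rw [map_sub, map_mul, hb]
    field_simp
    ring
  · have : (x - σ x) / (ω - σ ω) ∈ F₀ :=
      F₀.div_mem (F₀.sub_mem hx (O.stable x hx)) (F₀.sub_mem hω' (O.stable ω hω'))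
    exact ⟨F₀.sub_mem hx (F₀.mul_mem hω' this), this⟩

theorem IsPair.symm {u w : Fin n → F} (h : IsPair f F₀ u w) : IsPair f F₀ w u := by
  refine ⟨h.rv_right, h.rv_left, h.iso_right, h.iso_left, eq_zero_comm O.toIsSkewHerm h.orth,
    fun h0 => h.indep (h0 ▸ Submodule.zero_mem _), fun hin => ?_⟩
  obtain ⟨c, hc⟩ := Submodule.mem_span_singleton.1 hin
  have hc0 : c ≠ 0 := fun h0 => h.ne_zero (by rw [← hc, h0, zero_smul])
  exact h.indep (Submodule.mem_span_singleton.2 ⟨c⁻¹, by rw [← hc, inv_smul_smul₀ hc0]⟩)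

omit O in
/-- Two families of shears generate a diagonal element. -/
theorem diag_of_shear {P : GL (Fin n) F → Prop} (hmul : ∀ g h, P g → P h → P (g * h)) {u w : Fin n → F}
    (D : Set F) (hneg : ∀ t ∈ D, -t ∈ D) (hinv : ∀ t ∈ D, t⁻¹ ∈ D) (h1 : (1 : F) ∈ D) (E G : F → GL (Fin n) F)
    (hE : ∀ t ∈ D, P (E t) ∧ (E t : Matrix (Fin n) (Fin n) F) *ᵥ u = u ∧
      (E t : Matrix (Fin n) (Fin n) F) *ᵥ w = w + t • u)
    (hG : ∀ t ∈ D, P (G t) ∧ (G t : Matrix (Fin n) (Fin n) F) *ᵥ w = w ∧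
      (G t : Matrix (Fin n) (Fin n) F) *ᵥ u = u + t • w) {a : F} (ha : a ∈ D) (ha0 : a ≠ 0) :
    ∃ g, P g ∧ (g : Matrix (Fin n) (Fin n) F) *ᵥ u = a • u ∧ (g : Matrix (Fin n) (Fin n) F) *ᵥ w = a⁻¹ • w ∧
      ∀ x, (∀ t ∈ D, (E t : Matrix (Fin n) (Fin n) F) *ᵥ x = x ∧ (G t : Matrix (Fin n) (Fin n) F) *ᵥ x = x) →
        (g : Matrix (Fin n) (Fin n) F) *ᵥ x = x := by
  let W : F → GL (Fin n) F := fun t => E t * G (-t⁻¹) * E t
  have hW : ∀ t ∈ D, t ≠ 0 → P (W t) ∧ (W t : Matrix (Fin n) (Fin n) F) *ᵥ u = (-t⁻¹) • w ∧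
      (W t : Matrix (Fin n) (Fin n) F) *ᵥ w = t • u ∧ ∀ x, (∀ t ∈ D, (E t : Matrix (Fin n) (Fin n) F) *ᵥ x = x ∧
        (G t : Matrix (Fin n) (Fin n) F) *ᵥ x = x) → (W t : Matrix (Fin n) (Fin n) F) *ᵥ x = x := by
    intro t ht ht0
    obtain ⟨p1, e1, e2⟩ := hE t ht
    obtain ⟨p2, g1, g2⟩ := hG _ (hneg _ (hinv _ ht))
    refine ⟨hmul _ _ (hmul _ _ p1 p2) p1, ?_, ?_, fun x hx => ?_⟩
    · rw [gl_mul_mulVec, gl_mul_mulVec, e1, g2, mulVec_add, mulVec_smul, e1, e2]
      match_scalars <;> field_simp <;> ring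
    · rw [gl_mul_mulVec, gl_mul_mulVec, e2, mulVec_add, mulVec_smul, g1, g2, smul_add, smul_smul,
        mul_neg, mul_inv_cancel₀ ht0, neg_smul, one_smul, show w + (t • u + -w) = t • u by abel, mulVec_smul, e1]
    · rw [gl_mul_mulVec, gl_mul_mulVec, (hx t ht).1, (hx _ (hneg _ (hinv _ ht))).2, (hx t ht).1]
  obtain ⟨q1, a1, a2, a3⟩ := hW a ha ha0
  obtain ⟨q2, b1, b2, b3⟩ := hW (-1) (hneg _ h1) (neg_ne_zero.2 one_ne_zero)
  refine ⟨W a * W (-1), hmul _ _ q1 q2, ?_, ?_, fun x hx => by rw [gl_mul_mulVec, b3 x hx, a3 x hx]⟩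
  · rw [gl_mul_mulVec, b1, mulVec_smul, a2, inv_neg, _root_.inv_one, neg_neg, one_smul]
  · rw [gl_mul_mulVec, b2, mulVec_smul, a1, smul_smul]
    congr 1
    ring

omit O in
theorem root_smul_centre (H : SkewPair.IsSkewHerm σ f) {u x : Fin n → F} (hu : f u u = 0) (hux : f u x = 0)
    (c γ : F) : root f (c • u) x γ = root f u (σ c • x) (c * σ c * γ) := by
  refine gl_ext fun y => ?_
  rw [root_mulVec H (by rw [smul_left H, smul_right H, hu, mul_zero, mul_zero])
      (by rw [smul_left H, hux, mul_zero]), root_mulVec H hu (by rw [smul_right H, hux, mul_zero])]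
  simp only [smul_right H, H.involutive]
  match_scalars <;> ring

/-- Moving rational isotropic vectors. -/
theorem Over.move {a b : Fin n → F} (ha : Rv F₀ a) (haa : f a a = 0) (ha0 : a ≠ 0) (hb : Rv F₀ b)
    (hbb : f b b = 0) (hb0 : b ≠ 0) : ∃ h, Rat' F₀ M h ∧ (h : Matrix (Fin n) (Fin n) F) *ᵥ a = b := by
  have H := O.toIsSkewHerm
  have step : ∀ {w w' : Fin n → F}, Rv F₀ w → f w w = 0 → w ≠ 0 → Rv F₀ w' → f w' w' = 0 →
      w' ∉ Submodule.span F ({w} : Set (Fin n → F)) →
      ∃ h, Rat' F₀ M h ∧ (h : Matrix (Fin n) (Fin n) F) *ᵥ w = w' := by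
    intro w w' hw hww hw0 hw' hww' hi'
    obtain ⟨p, hp, hpp, hpd, hpw⟩ := exists_iso_ne O.toSetting (hw'.sub hw) hw (fun hin => by
      obtain ⟨β, hab⟩ := Submodule.mem_span_singleton.1 hin
      rcases eq_or_ne β 0 with rfl | hβ
      · exact hw0 (by rw [← hab, zero_smul])
      · refine hi' (Submodule.mem_span_singleton.2 ⟨1 + β⁻¹, ?_⟩)
        have e : β⁻¹ • w = w' - w := by
          conv_lhs => rw [← hab, inv_smul_smul₀ hβ]
        rw [add_smul, one_smul, e, add_sub_cancel])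
    have hwp : f w (-p) = 1 := by rw [neg_right H, O.skew p w, hpw, map_one, neg_neg]
    have hpd' : f (-p) (w' - w) = 0 := by rw [neg_left H, hpd, neg_zero]
    have hpp' : f (-p) (-p) = 0 := by rw [neg_left H, neg_right H, hpp, neg_zero, neg_zero]
    have hpr : Rv F₀ (-p) := fun i => F₀.neg_mem (hp i)
    refine ⟨root f (-p) (w' - w) (-f w w'), O.rat_root hpr (hw'.sub hw) (F₀.neg_mem (O.rat _ _ hw hw')) hpp' hpd'
      ?_, ?_⟩
    · rw [map_neg, conj_form H, sub_left O.toSetting, sub_right O.toSetting, sub_right O.toSetting, hww, hww']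
      ring
    · rw [root_mulVec H hpp' hpd', hwp, sub_right O.toSetting, hww, one_smul, mul_one, sub_zero, neg_add_cancel,
        zero_smul, add_zero, add_sub_cancel]
  by_cases hin : b ∈ Submodule.span F ({a} : Set (Fin n → F))
  · obtain ⟨t, ht, htt, -, htn⟩ := exists_avoid O.toSetting ![0] ![a]
      (fun _ => by simpa using SympRoot.Rv.zero) (fun _ => by simpa using ha)
    have hta : t ∉ Submodule.span F ({a} : Set (Fin n → F)) := by simpa using htn
    obtain ⟨h₁, hh₁, d₁⟩ := step ha haa ha0 ht htt hta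
    obtain ⟨h₂, hh₂, d₂⟩ := step ht htt (fun h0 => hta (h0 ▸ Submodule.zero_mem _)) hb hbb (fun hb' => hta (by
      obtain ⟨k, hk⟩ := Submodule.mem_span_singleton.1 hb'
      have hk0 : k ≠ 0 := fun h0 => hb0 (by rw [← hk, h0, zero_smul])
      rw [← hk] at hin
      exact (Submodule.smul_mem_iff _ hk0).1 hin))
    exact ⟨h₂ * h₁, hh₂.mul hh₁, by rw [gl_mul_mulVec, d₁, d₂]⟩
  · exact step ha haa ha0 hb hbb hin

/-- A diagonal element on the plane of a pair. -/
theorem Over.levi_diag {u w : Fin n → F} (hp : IsPair f F₀ u w) {a : F} (ha : a ∈ F₀) (ha0 : a ≠ 0) :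
    ∃ g, Rat' F₀ M g ∧ (g : Matrix (Fin n) (Fin n) F) *ᵥ u = a • u ∧
      (g : Matrix (Fin n) (Fin n) F) *ᵥ w = a⁻¹ • w := by
  have H := O.toIsSkewHerm
  obtain ⟨p, hpr, hpp, hpw, hpu⟩ := exists_iso_ne O.toSetting hp.rv_right hp.rv_left (hp.symm O).indep
  obtain ⟨q, hqr, hqq, hqu, hqw⟩ := exists_iso_ne O.toSetting hp.rv_left hp.rv_right hp.indep
  have hup : f u p = -1 := by rw [O.skew p u, hpu, map_one]
  have hwq : f w q = -1 := by rw [O.skew q w, hqw, map_one]
  have hE : ∀ t ∈ (F₀ : Set F), Rat' F₀ M (root f u ((-σ t) • q) 0) ∧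
      (root f u ((-σ t) • q) 0 : Matrix (Fin n) (Fin n) F) *ᵥ u = u ∧
      (root f u ((-σ t) • q) 0 : Matrix (Fin n) (Fin n) F) *ᵥ w = w + t • u := by
    intro t ht
    have h0 : f u ((-σ t) • q) = 0 := by rw [smul_right H, eq_zero_comm H hqu, mul_zero]
    refine ⟨O.rat_root hp.rv_left (hqr.smul (F₀.neg_mem (O.stable t ht))) F₀.zero_mem hp.iso_left h0
      (by rw [map_zero, smul_left H, smul_right H, hqq, mul_zero, mul_zero, sub_zero]), ?_, ?_⟩
    · rw [root_mulVec H hp.iso_left h0, hp.iso_left, h0]; simp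
    · rw [root_mulVec H hp.iso_left h0, eq_zero_comm H hp.orth, smul_right H, hwq, map_neg, O.involutive]
      simp
  have hG : ∀ t ∈ (F₀ : Set F), Rat' F₀ M (root f w ((-σ t) • p) 0) ∧
      (root f w ((-σ t) • p) 0 : Matrix (Fin n) (Fin n) F) *ᵥ w = w ∧
      (root f w ((-σ t) • p) 0 : Matrix (Fin n) (Fin n) F) *ᵥ u = u + t • w := by
    intro t ht
    have h0 : f w ((-σ t) • p) = 0 := by rw [smul_right H, eq_zero_comm H hpw, mul_zero]
    refine ⟨O.rat_root hp.rv_right (hpr.smul (F₀.neg_mem (O.stable t ht))) F₀.zero_mem hp.iso_right h0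
      (by rw [map_zero, smul_left H, smul_right H, hpp, mul_zero, mul_zero, sub_zero]), ?_, ?_⟩
    · rw [root_mulVec H hp.iso_right h0, hp.iso_right, h0]; simp
    · rw [root_mulVec H hp.iso_right h0, hp.orth, smul_right H, hup, map_neg, O.involutive]
      simp
  obtain ⟨g, hg, e1, e2, -⟩ := diag_of_shear (P := Rat' F₀ M) (fun _ _ => Rat'.mul) (u := u) (w := w) (F₀ : Set F)
    (fun _ => F₀.neg_mem) (fun _ => F₀.inv_mem) F₀.one_mem
    (fun t => root f u ((-σ t) • q) 0) (fun t => root f w ((-σ t) • p) 0) hE hG ha ha0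
  exact ⟨g, hg, e1, e2⟩

/-- A real diagonal element fixing the second vector of a pair. -/
theorem Over.real_diag {u w : Fin n → F} (hp : IsPair f F₀ u w) {r : F} (hr : r ∈ F₀) (hr' : σ r = r)
    (hr0 : r ≠ 0) :
    ∃ g, Rat' F₀ M g ∧ (g : Matrix (Fin n) (Fin n) F) *ᵥ u = r • u ∧ (g : Matrix (Fin n) (Fin n) F) *ᵥ w = w := by
  have H := O.toIsSkewHerm
  obtain ⟨p, hpr, hpp, hpw, hpu⟩ := exists_iso_ne O.toSetting hp.rv_right hp.rv_left (hp.symm O).indep
  have hup : f u p = -1 := by rw [O.skew p u, hpu, map_one]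
  have htv : ∀ {v : Fin n → F}, Rv F₀ v → f v v = 0 → ∀ c ∈ F₀, σ c = c → Rat' F₀ M (formTv f v c) := by
    intro v hv hvv c hc hc'
    rw [← root_zero H hvv]
    exact O.rat_root hv SympRoot.Rv.zero hc hvv (zero_right H v) (by rw [zero_left H, sub_zero, hc'])
  obtain ⟨g, hg, e1, -, e3⟩ := diag_of_shear (P := Rat' F₀ M) (fun _ _ => Rat'.mul) (u := u) (w := p)
    {t | t ∈ F₀ ∧ σ t = t} (fun t ht => ⟨F₀.neg_mem ht.1, by rw [map_neg, ht.2]⟩)
    (fun t ht => ⟨F₀.inv_mem ht.1, by rw [map_inv₀, ht.2]⟩) ⟨F₀.one_mem, map_one σ⟩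
    (fun t => formTv f u t) (fun t => formTv f p (-t))
    (fun t ht => ⟨htv hp.rv_left hp.iso_left t ht.1 ht.2,
      by rw [formTv_mulVec H hp.iso_left, hp.iso_left, mul_zero, zero_smul, add_zero],
      by rw [formTv_mulVec H hp.iso_left, hpu, mul_one]⟩)
    (fun t ht => ⟨htv hpr hpp (-t) (F₀.neg_mem ht.1) (by rw [map_neg, ht.2]),
      by rw [formTv_mulVec H hpp, hpp, mul_zero, zero_smul, add_zero],
      by rw [formTv_mulVec H hpp, hup, neg_mul_neg, mul_one]⟩) ⟨hr, hr'⟩ hr0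
  refine ⟨g, hg, e1, e3 w fun t _ => ⟨?_, ?_⟩⟩
  · rw [formTv_mulVec H hp.iso_left, eq_zero_comm H hp.orth, mul_zero, zero_smul, add_zero]
  · rw [formTv_mulVec H hpp, eq_zero_comm H hpw, mul_zero, zero_smul, add_zero]

/-- The coefficients of the root elements of a pair form a module over the subfield. -/
theorem Over.pair_smul {u w : Fin n → F} (hp : IsPair f F₀ u w) {s : F} (h : root f u (s • w) 0 ∈ M) {k : F}
    (hk : k ∈ F₀) : root f u ((k * s) • w) 0 ∈ M := by
  have H := O.toIsSkewHerm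
  obtain ⟨σ₀, g₀, θ, hσ₀, -, -, hg, -⟩ := exists_ratForm O.toSetting
  haveI := Fintype.ofFinite F₀
  obtain ⟨ε, hε, hεr⟩ := UnitCircle.exists_nonreal hg.ne_refl hg.involutive
  have hεc : (ε : F) * σ ε = 1 := by
    rw [← hσ₀, ← Subfield.coe_mul, hε, Subfield.coe_one]
  have hεr' : σ (ε : F) ≠ ε := fun h' => hεr (Subtype.ext (by rw [hσ₀]; exact h'))
  set a := 1 + (ε : F) with ha
  have ha0 : a ≠ 0 := fun h0 => hεr' (by rw [show (ε : F) = -1 by linear_combination h0, map_neg, map_one])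
  have ham : a ∈ F₀ := F₀.add_mem F₀.one_mem ε.2
  have hσa : σ a = σ (ε : F) * a := by
    rw [ha, map_add, map_one]; linear_combination -hεc
  have hsm : ∀ x : F, f u (x • w) = 0 := fun x => by rw [smul_right H, hp.orth, mul_zero]
  have hreal : ∀ {x}, root f u (x • w) 0 ∈ M → ∀ r ∈ F₀, σ r = r → root f u ((r * x) • w) 0 ∈ M := by
    intro x hx r hr hr'
    rcases eq_or_ne r 0 with rfl | hr0
    · rw [zero_mul, zero_smul, root_zero H hp.iso_left]
      exact (O.mem_long' (map_zero σ) F₀.zero_mem) u hp.rv_left hp.iso_left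
    obtain ⟨g, hg', e1, e2⟩ := O.real_diag hp hr hr' hr0
    have := M.mul_mem (M.mul_mem hg'.1 hx) (M.inv_mem hg'.1)
    rwa [root_conj H (O.isometry g hg'.1) hp.iso_left (hsm x), mulVec_smul, e1, e2,
      root_smul_centre H hp.iso_left (hsm x), mul_zero, smul_smul, hr'] at this
  have hcirc : root f u ((σ (ε : F) * s) • w) 0 ∈ M := by
    obtain ⟨g, hg', e1, e2⟩ := O.levi_diag hp ham ha0
    have := M.mul_mem (M.mul_mem hg'.1 h) (M.inv_mem hg'.1)
    rwa [root_conj H (O.isometry g hg'.1) hp.iso_left (hsm s), mulVec_smul, e1, e2, smul_smul,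
      root_smul_centre H hp.iso_left (hsm _), mul_zero, smul_smul, hσa,
      show σ (ε : F) * a * (s * a⁻¹) = σ (ε : F) * s by field_simp] at this
  obtain ⟨x, y, hx, hy, he, hm⟩ := O.exists_parts (ω := σ (ε : F))
    (fun h' => hεr' (by rw [O.involutive] at h'; exact h'.symm)) k
  obtain ⟨hxm, hym⟩ := hm (O.stable _ ε.2) hk
  have := M.mul_mem (hreal h x hxm hx) (hreal hcirc y hym hy)
  rwa [root_mul H hp.iso_left (hsm _) (hsm _), smul_left H, smul_right H, hp.iso_right, mul_zero, mul_zero,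
    add_zero, add_zero, ← add_smul, show x * s + y * (σ (ε : F) * s) = k * s by rw [he]; ring] at this

theorem Over.long_of_one {a : Fin n → F} (ha : Rv F₀ a) (haa : f a a = 0) (ha0 : a ≠ 0) {c : F}
    (h : formTv f a c ∈ M) : c ∈ longSet σ f F₀ M := by
  refine ⟨fixed_of_isometry O.toIsSkewHerm haa ha0 (O.isometry _ h), fun b hb hbb => ?_⟩
  rcases eq_or_ne b 0 with rfl | hb0
  · rw [formTv_zero_left O.toIsSkewHerm]; exact M.one_mem
  obtain ⟨g, hg, he⟩ := O.move ha haa ha0 hb hbb hb0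
  rw [← he]
  exact O.tv_mem_conj hg.1 haa h

theorem Over.mem_long {c : F} (hc : σ c = c) (hc' : c ∈ F₀) : c ∈ longSet σ f F₀ M := by
  have H := O.toIsSkewHerm
  refine ⟨hc, fun a ha haa => ?_⟩
  rw [← root_zero H haa]
  exact O.root_mem a 0 c ha SympRoot.Rv.zero hc' haa (zero_right H a) (by rw [zero_left H, sub_zero, hc])

theorem Over.short_of_one {u w : Fin n → F} (hp : IsPair f F₀ u w) {s : F} (h : root f u (s • w) 0 ∈ M) :
    s ∈ shortSet f F₀ M := by
  have H := O.toIsSkewHerm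
  have step : ∀ {u w w' : Fin n → F}, IsPair f F₀ u w → IsPair f F₀ u w' → f w w' ≠ 0 →
      root f u (s • w) 0 ∈ M → root f u (s • w') 0 ∈ M := by
    intro u w w' hp hp' he h
    set β := (σ (f w w'))⁻¹ with hβ
    have hβ0 : β ≠ 0 := inv_ne_zero ((RingEquiv.map_ne_zero_iff σ).2 he)
    have hβm : β ∈ F₀ := F₀.inv_mem (O.stable _ (O.rat _ _ hp.rv_right hp'.rv_right))
    set t := β • w' - w with ht
    have htr : Rv F₀ t := (hp'.rv_right.smul hβm).sub hp.rv_right
    have hwt : f w t = 1 := by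
      rw [ht, sub_right O.toSetting, smul_right H, hp.iso_right, hβ, map_inv₀, O.involutive, inv_mul_cancel₀ he,
        sub_zero]
    have htt : f t t = 0 := by
      rw [ht, sub_left O.toSetting, smul_left H, sub_right O.toSetting, smul_right H, hp'.iso_right, ← ht, hwt,
        O.skew w w', hβ]
      have := (RingEquiv.map_ne_zero_iff σ).2 he
      field_simp
      ring
    have hut : f u t = 0 := by
      rw [ht, sub_right O.toSetting, smul_right H, hp.orth, hp'.orth, mul_zero, sub_zero]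
    have hh := (O.mem_long' (map_one σ) F₀.one_mem) t htr htt
    have := M.mul_mem (M.mul_mem hh h) (M.inv_mem hh)
    rw [root_conj H (O.isometry _ hh) hp.iso_left (by rw [smul_right H, hp.orth, mul_zero]), mulVec_smul,
      formTv_mulVec H htt, formTv_mulVec H htt, hut, hwt, mul_zero, zero_smul, add_zero, mul_one, one_smul, ht,
      add_sub_cancel, smul_smul] at this
    have h2 := O.pair_smul hp' this (F₀.inv_mem hβm)
    rwa [mul_comm s β, inv_mul_cancel_left₀ hβ0] at h2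
  intro u' w' hp'
  obtain ⟨g, hg, e1⟩ := O.move hp.rv_left hp.iso_left hp.ne_zero hp'.rv_left hp'.iso_left hp'.ne_zero
  set w₁ := (g : Matrix (Fin n) (Fin n) F) *ᵥ w with hw₁
  have h1 := M.mul_mem (M.mul_mem hg.1 h) (M.inv_mem hg.1)
  rw [root_conj H (O.isometry g hg.1) hp.iso_left (by rw [smul_right H, hp.orth, mul_zero]), mulVec_smul, e1,
    ← hw₁] at h1
  have hp₁ : IsPair f F₀ u' w₁ := ⟨hp'.rv_left, hg.2 w hp.rv_right, hp'.iso_left,
    by rw [hw₁, O.isometry g hg.1, hp.iso_right], by rw [← e1, hw₁, O.isometry g hg.1, hp.orth], hp'.ne_zero,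
    fun hin => by
      obtain ⟨c, hc⟩ := Submodule.mem_span_singleton.1 hin
      rw [← e1, hw₁, ← mulVec_smul] at hc
      exact hp.indep (Submodule.mem_span_singleton.2 ⟨c, gl_mulVec_injective g hc⟩)⟩
  obtain ⟨z, hz, hzz, hzu, hz1, hz2⟩ : ∃ z, Rv F₀ z ∧ f z z = 0 ∧ f z u' = 0 ∧ f z w₁ ≠ 0 ∧ f z w' ≠ 0 := by
    obtain ⟨z, hz, hzz, hzu, hz1⟩ := exists_iso_ne O.toSetting hp₁.rv_left hp₁.rv_right hp₁.indep
    obtain ⟨y, hy, hyy, hyu, hy1⟩ := exists_iso_ne O.toSetting hp'.rv_left hp'.rv_right hp'.indep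
    by_cases hzw : f z w' = 0
    swap
    · exact ⟨z, hz, hzz, hzu, by rw [hz1]; exact one_ne_zero, hzw⟩
    by_cases hyw : f y w₁ = 0
    swap
    · exact ⟨y, hy, hyy, hyu, hyw, by rw [hy1]; exact one_ne_zero⟩
    obtain ⟨c, hcm, hc0, hc⟩ : ∃ c ∈ F₀, c ≠ 0 ∧ c * f y z - σ (c * f y z) = 0 := by
      by_cases he : f y z = 0
      · exact ⟨1, F₀.one_mem, one_ne_zero, by rw [he, mul_zero, map_zero, sub_zero]⟩
      · exact ⟨(f y z)⁻¹, F₀.inv_mem (O.rat _ _ hy hz), inv_ne_zero he,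
          by rw [inv_mul_cancel₀ he, map_one, sub_self]⟩
    refine ⟨z + c • y, hz.add (hy.smul hcm), ?_, by rw [add_left H, smul_left H, hzu, hyu, mul_zero, add_zero],
      by rw [add_left H, smul_left H, hyw, hz1, mul_zero, add_zero]; exact one_ne_zero,
      by rw [add_left H, smul_left H, hzw, hy1, mul_one, zero_add]; exact hc0⟩
    simp only [add_left H, add_right H, smul_left H, smul_right H, hzz, hyy]
    rw [map_mul] at hc
    rw [O.skew y z]
    linear_combination hc
  have hpz : IsPair f F₀ u' z := ⟨hp'.rv_left, hz, hp'.iso_left, hzz, eq_zero_comm H hzu, hp'.ne_zero, fun hin => by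
    obtain ⟨c, hc⟩ := Submodule.mem_span_singleton.1 hin
    exact hz1 (by rw [← hc, smul_left H, hp₁.orth, mul_zero])⟩
  exact step hpz hp' hz2 (step hp₁ hpz (ne_zero_comm H hz1) h1)

/-- A root element with a rational direction splits. -/
theorem Over.split {u w : Fin n → F} (hp : IsPair f F₀ u w) {s γ : F} (h : root f u (s • w) γ ∈ M) :
    γ ∈ longSet σ f F₀ M ∧ s ∈ shortSet f F₀ M := by
  have H := O.toIsSkewHerm
  have hsm : ∀ x : F, f u (x • w) = 0 := fun x => by rw [smul_right H, hp.orth, mul_zero]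
  obtain ⟨σ₀, g₀, θ, hσ₀, -, -, hg, -⟩ := exists_ratForm O.toSetting
  haveI := Fintype.ofFinite F₀
  obtain ⟨ε, hε, hεr⟩ := UnitCircle.exists_nonreal hg.ne_refl hg.involutive
  have hεc : (ε : F) * σ ε = 1 := by
    rw [← hσ₀, ← Subfield.coe_mul, hε, Subfield.coe_one]
  have hεr' : σ (ε : F) ≠ ε := fun h' => hεr (Subtype.ext (by rw [hσ₀]; exact h'))
  have hε0 : (ε : F) ≠ 0 := fun h0 => by rw [h0, zero_mul] at hεc; exact zero_ne_one hεc
  obtain ⟨g, hg', e1, e2⟩ := O.levi_diag hp ε.2 hε0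
  have h2 := M.mul_mem (M.mul_mem hg'.1 h) (M.inv_mem hg'.1)
  rw [root_conj H (O.isometry g hg'.1) hp.iso_left (hsm s), mulVec_smul, e1, e2, smul_smul,
    root_smul_centre H hp.iso_left (hsm _), smul_smul, hεc, one_mul] at h2
  set k := σ (ε : F) * (ε : F)⁻¹ with hk
  have hk1 : k - 1 ≠ 0 := sub_ne_zero.2 fun h' => hεr' (by
    rw [hk] at h'
    field_simp at h'
    exact h')
  rw [show σ (ε : F) * (s * (ε : F)⁻¹) = k * s by rw [hk]; ring] at h2
  have h3 := M.mul_mem h2 (M.inv_mem h)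
  rw [root_inv H hp.iso_left (hsm s), root_mul H hp.iso_left (hsm _) (by rw [neg_right H, hsm, neg_zero]),
    neg_left H] at h3
  simp only [smul_left H, smul_right H, hp.iso_right, mul_zero, neg_zero, add_zero, add_neg_cancel, ← neg_smul,
    ← add_smul] at h3
  have hs : root f u (s • w) 0 ∈ M := by
    have := O.pair_smul hp h3 (F₀.inv_mem (F₀.sub_mem
      (F₀.mul_mem (O.stable _ ε.2) (F₀.inv_mem ε.2)) F₀.one_mem))
    rwa [← hk, show k * s + -s = (k - 1) * s by ring, inv_mul_cancel_left₀ hk1] at this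
  refine ⟨O.long_of_one hp.rv_left hp.iso_left hp.ne_zero ?_, O.short_of_one hp hs⟩
  have h5 := M.mul_mem h (M.inv_mem hs)
  rw [root_inv H hp.iso_left (hsm s), root_mul H hp.iso_left (hsm _) (by rw [neg_right H, hsm, neg_zero]),
    neg_left H] at h5
  simp only [smul_left H, smul_right H, hp.iso_right, mul_zero, neg_zero, add_zero, add_neg_cancel] at h5
  simpa [root_zero H hp.iso_left] using h5

theorem Over.long_add {c d : F} (hc : c ∈ longSet σ f F₀ M) (hd : d ∈ longSet σ f F₀ M) :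
    c + d ∈ longSet σ f F₀ M :=
  ⟨by rw [map_add, hc.1, hd.1], fun a ha haa => by
    rw [← formTv_mul O.toIsSkewHerm haa]; exact M.mul_mem (hc.2 a ha haa) (hd.2 a ha haa)⟩

theorem Over.long_neg {c : F} (hc : c ∈ longSet σ f F₀ M) : -c ∈ longSet σ f F₀ M :=
  ⟨by rw [map_neg, hc.1], fun a ha haa => by
    rw [← formTv_inv O.toIsSkewHerm haa]; exact M.inv_mem (hc.2 a ha haa)⟩

theorem Over.short_add {s t : F} (hs : s ∈ shortSet f F₀ M) (ht : t ∈ shortSet f F₀ M) :
    s + t ∈ shortSet f F₀ M := by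
  have H := O.toIsSkewHerm
  intro u w hp
  have := M.mul_mem (hs u w hp) (ht u w hp)
  rwa [root_mul H hp.iso_left (by rw [smul_right H, hp.orth, mul_zero]) (by rw [smul_right H, hp.orth, mul_zero]),
    smul_left H, smul_right H, hp.iso_right, mul_zero, mul_zero, add_zero, add_zero, ← add_smul] at this

theorem Over.short_smul {s k : F} (hs : s ∈ shortSet f F₀ M) (hk : k ∈ F₀) : s * k ∈ shortSet f F₀ M := by
  have H := O.toIsSkewHerm
  intro u w hp
  rcases eq_or_ne k 0 with rfl | hk0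
  · rw [mul_zero, zero_smul, root_zero H hp.iso_left]
    exact (O.mem_long (map_zero σ) F₀.zero_mem).2 u hp.rv_left hp.iso_left
  rw [mul_smul]
  exact hs u (k • w) ⟨hp.rv_left, hp.rv_right.smul hk, hp.iso_left,
    by rw [smul_left H, smul_right H, hp.iso_right, mul_zero, mul_zero],
    by rw [smul_right H, hp.orth, mul_zero], hp.ne_zero,
    fun hin => hp.indep ((Submodule.smul_mem_iff _ hk0).1 hin)⟩

theorem Over.long_le_short {c : F} (hc : c ∈ longSet σ f F₀ M) : c ∈ shortSet f F₀ M := by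
  have H := O.toIsSkewHerm
  obtain ⟨a, b, hp⟩ := O.exists_pair
  have h1 := hc.2 (b + (1 : F) • a) (hp.rv_right.add (by rw [one_smul]; exact hp.rv_left))
    (by simp [add_left H, add_right H, hp.iso_left, hp.iso_right, hp.orth, eq_zero_comm H hp.orth])
  rw [formTv_split H hp.iso_left hp.iso_right hp.orth hc.1, map_one, mul_one, mul_one] at h1
  have h2 := M.mul_mem (M.inv_mem (hc.2 b hp.rv_right hp.iso_right)) h1
  rw [inv_mul_cancel_left] at h2
  exact (O.split hp h2).2

theorem Over.short_step {μ d : F} (hμ : μ ∈ shortSet f F₀ M) (hd : d ∈ longSet σ f F₀ M) :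
    d * μ * σ μ ∈ longSet σ f F₀ M ∧ d * σ μ ∈ shortSet f F₀ M := by
  have H := O.toIsSkewHerm
  obtain ⟨a, b, hp⟩ := O.exists_pair
  obtain ⟨p, hpr, hpp, hpb, hpa⟩ := exists_iso_ne O.toSetting hp.rv_right hp.rv_left (hp.symm O).indep
  have hh := hμ a b hp
  have hmove : (root f a (μ • b) 0 : Matrix (Fin n) (Fin n) F) *ᵥ p = p + μ • b := by
    rw [root_mulVec H hp.iso_left (by rw [smul_right H, hp.orth, mul_zero]), hpa, smul_right H, hpb]
    simp
  have hbp : f b p = 0 := eq_zero_comm H hpb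
  have h1 := O.tv_mem_conj hh hpp (hd.2 p hpr hpp)
  rw [hmove, formTv_split H hp.iso_right hpp hbp hd.1] at h1
  have h2 := M.mul_mem (M.inv_mem (hd.2 p hpr hpp)) h1
  rw [inv_mul_cancel_left] at h2
  refine O.split ⟨hp.rv_right, hpr, hp.iso_right, hpp, hbp, (hp.symm O).ne_zero, fun hin => ?_⟩ h2
  obtain ⟨c, hc⟩ := Submodule.mem_span_singleton.1 hin
  rw [← hc, smul_left H, eq_zero_comm H hp.orth, mul_zero] at hpa
  exact zero_ne_one hpa

theorem Over.long_mul {c d : F} (hc : c ∈ longSet σ f F₀ M) (hd : d ∈ longSet σ f F₀ M) :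
    d * c ∈ longSet σ f F₀ M := by
  have h1 : (1 : F) ∈ longSet σ f F₀ M := O.mem_long (map_one σ) F₀.one_mem
  have hsq : ∀ {x e : F}, x ∈ longSet σ f F₀ M → e ∈ longSet σ f F₀ M → e * x * x ∈ longSet σ f F₀ M :=
    fun {x e} hx he => by
      have := (O.short_step (O.long_le_short hx) he).1
      rwa [hx.1] at this
  by_cases h2 : (2 : F) = 0
  · haveI : Finite (longSet σ f F₀ M) := Subtype.finite
    let g : longSet σ f F₀ M → longSet σ f F₀ M := fun x => ⟨1 * x.1 * x.1, hsq x.2 h1⟩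
    have hinj : Function.Injective g := fun x y h => by
      have h' : x.1 * x.1 = y.1 * y.1 := by simpa [g] using congrArg Subtype.val h
      rcases mul_self_eq_mul_self_iff.1 h' with e | e
      · exact Subtype.ext e
      · exact Subtype.ext (by rw [e]; linear_combination (-y.1) * h2)
    obtain ⟨x, hx⟩ := Finite.surjective_of_injective hinj ⟨c, hc⟩
    have hx' : 1 * x.1 * x.1 = c := congrArg Subtype.val hx
    rw [← hx', one_mul, ← mul_assoc]
    exact hsq x.2 hd
  · have hhalf : (2 : F)⁻¹ ∈ longSet σ f F₀ M :=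
      O.mem_long (by rw [map_inv₀, map_ofNat]) (F₀.inv_mem (ofNat_mem F₀ 2))
    have hbil : ∀ {x y e : F}, x ∈ longSet σ f F₀ M → y ∈ longSet σ f F₀ M → e ∈ longSet σ f F₀ M →
        2 * (e * x * y) ∈ longSet σ f F₀ M := fun {x y e} hx hy he => by
      have := O.long_add (O.long_add (hsq (O.long_add hx hy) he) (O.long_neg (hsq hx he))) (O.long_neg (hsq hy he))
      convert this using 1
      ring
    have := hbil hc hhalf hd
    convert this using 1
    field_simp

/-- A new long coefficient gives all coefficients. -/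
theorem Over.full_of_new {r : ℕ} (hr : r.Prime) (hcard : Fintype.card F = Nat.card F₀ ^ r) {c : F}
    (hc : c ∈ longSet σ f F₀ M) (hc' : c ∉ F₀) :
    (∀ x, σ x = x → x ∈ longSet σ f F₀ M) ∧ ∀ x, x ∈ shortSet f F₀ M := by
  obtain ⟨ω, hω, hω'⟩ := O.moved
  have hα : ω + σ ω ∈ longSet σ f F₀ M :=
    O.mem_long (by rw [map_add, O.involutive, add_comm]) (F₀.add_mem hω (O.stable ω hω))
  have hβ : -(ω * σ ω) ∈ longSet σ f F₀ M :=
    O.mem_long (by rw [map_neg, map_mul, O.involutive, mul_comm]) (F₀.neg_mem (F₀.mul_mem hω (O.stable ω hω)))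
  have h0 : (0 : F) ∈ longSet σ f F₀ M := O.mem_long (map_zero σ) F₀.zero_mem
  let R : Subring F :=
    { carrier := {x | ∃ a ∈ longSet σ f F₀ M, ∃ b ∈ longSet σ f F₀ M, x = a + ω * b}
      zero_mem' := ⟨0, h0, 0, h0, by ring⟩
      one_mem' := ⟨1, O.mem_long (map_one σ) F₀.one_mem, 0, h0, by ring⟩
      add_mem' := by
        rintro _ _ ⟨a, ha, b, hb, rfl⟩ ⟨a', ha', b', hb', rfl⟩
        exact ⟨_, O.long_add ha ha', _, O.long_add hb hb', by ring⟩
      neg_mem' := by
        rintro _ ⟨a, ha, b, hb, rfl⟩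
        exact ⟨_, O.long_neg ha, _, O.long_neg hb, by ring⟩
      mul_mem' := by
        rintro _ _ ⟨a, ha, b, hb, rfl⟩ ⟨a', ha', b', hb', rfl⟩
        exact ⟨_, O.long_add (O.long_mul ha' ha) (O.long_mul hβ (O.long_mul hb' hb)),
          _, O.long_add (O.long_add (O.long_mul hb' ha) (O.long_mul ha' hb)) (O.long_mul hα (O.long_mul hb' hb)),
          by ring⟩ }
  let K : Subfield F :=
    { R with
      inv_mem' := fun x hx => by
        by_cases h0 : x = 0
        · subst h0; rw [_root_.inv_zero]; exact hx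
        have h2 : x ^ (Fintype.card F - 2) * x = 1 := by
          rw [← pow_succ, show Fintype.card F - 2 + 1 = Fintype.card F - 1 by
            have := Fintype.one_lt_card (α := F); omega, FiniteField.pow_card_sub_one_eq_one x h0]
        rw [← eq_inv_of_mul_eq_one_left h2]
        exact Subring.pow_mem _ hx _ }
  have hle : F₀ ≤ K := fun x hx => by
    obtain ⟨a, b, ha, hb, he, hrat⟩ := O.exists_parts hω' x
    obtain ⟨ha', hb'⟩ := hrat hω hx
    exact ⟨a, O.mem_long ha ha', b, O.mem_long hb hb', he⟩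
  have hcK : c ∈ K := ⟨c, hc, 0, h0, by ring⟩
  have hK : K = ⊤ := Rational.subfield_eq_top_of_lt hr hcard (lt_of_le_of_ne hle fun he => hc' (he ▸ hcK))
  refine ⟨fun x hx => ?_, fun x => ?_⟩
  · obtain ⟨a, ha, b, hb, he⟩ : x ∈ K := hK ▸ Subfield.mem_top x
    have h1 := congrArg σ he
    rw [map_add, map_mul, hx, ha.1, hb.1] at h1
    have hb0 : b = 0 := by
      by_contra hb0
      exact hω' (mul_right_cancel₀ hb0 (by linear_combination (-h1) + he))
    rwa [he, hb0, mul_zero, add_zero]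
  · obtain ⟨a, ha, b, hb, he⟩ : x ∈ K := hK ▸ Subfield.mem_top x
    rw [he, mul_comm ω]
    exact O.short_add (O.long_le_short ha) (O.short_smul (O.long_le_short hb) hω)

/-- Without new long coefficients there are no new short ones. -/
theorem Over.short_mem (hL : ∀ c ∈ longSet σ f F₀ M, c ∈ F₀) {μ : F} (hμ : μ ∈ shortSet f F₀ M) : μ ∈ F₀ := by
  obtain ⟨ω, hω, hω'⟩ := O.moved
  have h1 : (1 : F) ∈ longSet σ f F₀ M := O.mem_long (map_one σ) F₀.one_mem
  have hN : ∀ {x}, x ∈ shortSet f F₀ M → x * σ x ∈ F₀ := fun {x} hx => by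
    simpa using hL _ (O.short_step hx h1).1
  have hpol : ∀ d ∈ F₀, μ * σ d + σ μ * d ∈ F₀ := fun d hd => by
    have hd' : d ∈ shortSet f F₀ M := by simpa using O.short_smul (O.long_le_short h1) hd
    have := F₀.sub_mem (F₀.sub_mem (hN (O.short_add hμ hd')) (hN hμ)) (hN hd')
    convert this using 1
    rw [map_add]
    ring
  have e : (σ ω - ω) * μ ∈ F₀ := by
    have := F₀.sub_mem (hpol ω hω) (F₀.mul_mem hω (hpol 1 F₀.one_mem))
    convert this using 1
    rw [map_one]
    ring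
  have := F₀.mul_mem (F₀.inv_mem (F₀.sub_mem (O.stable ω hω) hω)) e
  rwa [inv_mul_cancel_left₀ (sub_ne_zero.2 hω')] at this

/-- With all coefficients present, every transvection is present. -/
theorem Over.mem_of_full (hfull : ∀ x, σ x = x → x ∈ longSet σ f F₀ M) (hshort : ∀ x, x ∈ shortSet f F₀ M)
    {v : Fin n → F} (hv : f v v = 0) {c : F} (hc : σ c = c) : formTv f v c ∈ M := by
  have H := O.toIsSkewHerm
  by_cases hv0 : v = 0
  · rw [hv0, formTv_zero_left H]; exact M.one_mem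
  obtain ⟨u, hu, huu, hvu⟩ : ∃ u, Rv F₀ u ∧ f u u = 0 ∧ f v u ≠ 0 := by
    by_contra hc'
    push Not at hc'
    obtain ⟨y, hy⟩ := O.nondegenerate v hv0
    let Y : Submodule F (Fin n → F) :=
      { carrier := {x | f v x = 0}
        add_mem' := fun {a b} ha hb => by simp_all [add_right H]
        zero_mem' := zero_right H v
        smul_mem' := fun c x hx => by simp_all [smul_right H] }
    exact hy (mem_of_iso_span O.toSetting (Y := Y) hc' y)
  have hu0 : u ≠ 0 := fun h0 => hvu (by rw [h0, zero_right H])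
  let Y : Submodule F (Fin n → F) :=
    { carrier := {b | f u b = 0 ∧ ∀ k : F, ∃ γ, root f u (k • b) γ ∈ M}
      add_mem' := by
        rintro a b ⟨ha, ha'⟩ ⟨hb, hb'⟩
        refine ⟨by rw [add_right H, ha, hb, add_zero], fun k => ?_⟩
        obtain ⟨γ, hγ⟩ := ha' k
        obtain ⟨δ, hδ⟩ := hb' k
        have := M.mul_mem hγ hδ
        rw [root_mul H huu (by rw [smul_right H, ha, mul_zero]) (by rw [smul_right H, hb, mul_zero]),
          ← smul_add] at this
        exact ⟨_, this⟩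
      zero_mem' := ⟨zero_right H u, fun k => ⟨0, by
        rw [smul_zero, root_zero H huu]
        exact (O.mem_long (map_zero σ) F₀.zero_mem).2 u hu huu⟩⟩
      smul_mem' := by
        rintro m b ⟨hb, hb'⟩
        exact ⟨by rw [smul_right H, hb, mul_zero], fun k => by rw [smul_smul]; exact hb' _⟩ }
  have hY : ∀ p, Rv F₀ p → f p p = 0 → f u p = 0 → p ∈ Y := by
    intro p hp hpp hup
    refine ⟨hup, fun k => ⟨0, ?_⟩⟩
    by_cases hin : p ∈ Submodule.span F ({u} : Set (Fin n → F))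
    · obtain ⟨m, rfl⟩ := Submodule.mem_span_singleton.1 hin
      rw [smul_smul, root_smul_self H huu]
      exact (hfull _ (by rw [map_add, O.involutive, add_comm])).2 u hu huu
    · exact hshort k u p ⟨hu, hp, huu, hpp, hup, hu0, hin⟩
  obtain ⟨w, hw, hww, hwu⟩ := exists_partner O.toSetting hu hu0
  set a := f v u with ha
  set v' := a⁻¹ • v with hv'
  have hv'u : f v' u = 1 := by rw [hv', smul_left H, ← ha, inv_mul_cancel₀ hvu]
  have hvv' : f v' v' = 0 := by rw [hv', smul_left H, smul_right H, hv, mul_zero, mul_zero]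
  set b := v' - w with hb
  have hub : f u b = 0 := eq_zero_comm H (by rw [hb, sub_left O.toSetting, hv'u, hwu, sub_self])
  obtain ⟨γ', hγ'⟩ := ((mem_of_iso_orth O.toSetting hu hu0 huu hY hub).2) 1
  rw [one_smul] at hγ'
  set γ := -f w v' with hγdef
  have hγ : σ γ = γ - f b b := by
    rw [hγdef, map_neg, conj_form H, hb, sub_left O.toSetting, sub_right O.toSetting, sub_right O.toSetting,
      hvv', hww]
    ring
  have hprod : root f u b γ' * formTv f u (γ - γ') = root f u b γ := by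
    rw [← root_zero H huu, root_mul H huu hub (zero_right H u), add_zero, zero_left H, add_zero,
      add_sub_cancel]
  have hδ : σ (γ - γ') = γ - γ' := fixed_of_isometry H huu hu0 fun x y => by
    have := root_isometry H huu hub hγ x y
    rw [← hprod, gl_mul_mulVec, gl_mul_mulVec, O.isometry _ hγ'] at this
    exact this
  have hh : root f u b γ ∈ M := hprod ▸ M.mul_mem hγ' ((hfull _ hδ).2 u hu huu)
  have he : (root f u b γ : Matrix (Fin n) (Fin n) F) *ᵥ w = v' := by
    rw [root_mulVec H huu hub, hwu, one_smul, mul_one, hb, sub_right O.toSetting, hww, sub_zero, hγdef,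
      neg_add_cancel, zero_smul, add_zero, add_sub_cancel]
  have hfix : σ (a * σ a * c) = a * σ a * c := by rw [map_mul, map_mul, O.involutive, hc, mul_comm (σ a)]
  have h1 := O.tv_mem_conj hh hww ((hfull _ hfix).2 w hw hww)
  rw [he, ← SkewPair.formTv_smul H hvv'] at h1
  rwa [hv', smul_inv_smul₀ hvu] at h1

end CfsgLib.GeomClasses.UnitFourSub
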